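import Mathlib

/-!
# Identities for elements with central commutators
-/

open scoped commutatorElement

namespace CfsgLib.PGroup

variable {G : Type*} [Group G]

theorem mem_center_comm {x y : G} (h : ⁅x, y⁆ ∈ Subgroup.center G) (g : G) :
    g * ⁅x, y⁆ = ⁅x, y⁆ * g :=
  (Subgroup.mem_center_iff.mp h g)

/-- `x * y = ⁅x, y⁆ * (y * x)`. -/
theorem mul_eq_commutatorElement_mul (x y : G) : x * y = ⁅x, y⁆ * (y * x) := by
  simp [commutatorElement_def, mul_assoc]

theorem commutatorElement_mul_left_of_central (x y z : G) (h : ⁅y, z⁆ ∈ Subgroup.center G) :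
    ⁅x * y, z⁆ = ⁅x, z⁆ * ⁅y, z⁆ := by
  have h1 : ⁅x * y, z⁆ = x * ⁅y, z⁆ * x⁻¹ * ⁅x, z⁆ := by simp [commutatorElement_def, mul_assoc]
  rw [h1, mem_center_comm h x, mul_inv_cancel_right, mem_center_comm h ⁅x, z⁆]

theorem commutatorElement_mul_right_of_central (x y z : G) (h : ⁅x, z⁆ ∈ Subgroup.center G) :
    ⁅x, y * z⁆ = ⁅x, y⁆ * ⁅x, z⁆ := by
  have h1 : ⁅x, y * z⁆ = ⁅x, y⁆ * (y * ⁅x, z⁆ * y⁻¹) := by simp [commutatorElement_def, mul_assoc]
  rw [h1, mem_center_comm h y, mul_inv_cancel_right]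

theorem commutatorElement_pow_left_of_central {x y : G} (h : ⁅x, y⁆ ∈ Subgroup.center G) (n : ℕ) :
    ⁅x ^ n, y⁆ = ⁅x, y⁆ ^ n := by
  induction n with
  | zero => simp [commutatorElement_def]
  | succ n ih =>
    rw [pow_succ, commutatorElement_mul_left_of_central _ _ _ h, ih, pow_succ]

theorem commutatorElement_pow_right_of_central {x y : G} (h : ⁅x, y⁆ ∈ Subgroup.center G) (n : ℕ) :
    ⁅x, y ^ n⁆ = ⁅x, y⁆ ^ n := by
  induction n with
  | zero => simp [commutatorElement_def]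
  | succ n ih =>
    rw [pow_succ, commutatorElement_mul_right_of_central _ _ _ h, ih, pow_succ]

theorem pow_mul_eq_commutator_pow_mul {x y : G} (h : ⁅y, x⁆ ∈ Subgroup.center G) (n : ℕ) :
    y ^ n * x = ⁅y, x⁆ ^ n * (x * y ^ n) := by
  rw [← commutatorElement_pow_left_of_central h]
  exact mul_eq_commutatorElement_mul _ _

/-- `(x y)^n = x^n y^n [y,x]^(n choose 2)` when `[y,x]` is central. -/
theorem mul_pow_of_central {x y : G} (h : ⁅y, x⁆ ∈ Subgroup.center G) (n : ℕ) :
    (x * y) ^ n = x ^ n * y ^ n * ⁅y, x⁆ ^ n.choose 2 := by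
  induction n with
  | zero => simp
  | succ n ih =>
    have hc : ∀ g : G, ∀ k : ℕ, ⁅y, x⁆ ^ k * g = g * ⁅y, x⁆ ^ k := fun g k =>
      ((Subgroup.mem_center_iff.mp (pow_mem h k)) g).symm
    rw [pow_succ, ih, show (n + 1).choose 2 = n + n.choose 2 by
      rw [Nat.choose_succ_succ', Nat.choose_one_right]]
    calc x ^ n * y ^ n * ⁅y, x⁆ ^ n.choose 2 * (x * y)
        = x ^ n * (y ^ n * x) * y * ⁅y, x⁆ ^ n.choose 2 := by
          rw [mul_assoc _ (⁅y, x⁆ ^ n.choose 2) (x * y), hc (x * y)]; simp [mul_assoc]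
      _ = x ^ n * (⁅y, x⁆ ^ n * (x * y ^ n)) * y * ⁅y, x⁆ ^ n.choose 2 := by
          rw [pow_mul_eq_commutator_pow_mul h]
      _ = x ^ (n + 1) * y ^ (n + 1) * ⁅y, x⁆ ^ (n + n.choose 2) := by
          rw [hc (x * y ^ n) n, pow_succ, pow_succ, pow_add]
          simp only [mul_assoc]
          congr 3
          rw [← mul_assoc, hc y n, mul_assoc]

/-- If `[y,x]` is central of order dividing the odd number `p`, then `(x y)^p = x^p y^p`. -/
theorem mul_pow_odd_of_central {x y : G} {p : ℕ} (hp : Odd p) (h : ⁅y, x⁆ ∈ Subgroup.center G)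
    (hc : ⁅y, x⁆ ^ p = 1) : (x * y) ^ p = x ^ p * y ^ p := by
  have hdvd : p ∣ p.choose 2 := by
    obtain ⟨k, rfl⟩ := hp
    refine ⟨k, ?_⟩
    rw [Nat.choose_two_right, Nat.add_sub_cancel, show (2 * k + 1) * (2 * k) = 2 * ((2 * k + 1) * k) by ring,
      Nat.mul_div_cancel_left _ (by norm_num)]
  obtain ⟨m, hm⟩ := hdvd
  rw [mul_pow_of_central h, hm, pow_mul, hc, one_pow, mul_one]

/-- The same with a hypothesis `x^p` central in place of `[y,x]^p = 1`. -/
theorem commutatorElement_pow_eq_one_of_pow_central {x y : G} {p : ℕ} (h : ⁅x, y⁆ ∈ Subgroup.center G)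
    (hx : x ^ p ∈ Subgroup.center G) : ⁅x, y⁆ ^ p = 1 := by
  rw [← commutatorElement_pow_left_of_central h, commutatorElement_eq_one_iff_mul_comm]
  exact (Subgroup.mem_center_iff.mp hx y).symm

/-- Elements of order dividing an odd `p` multiply to such an element when their commutator is central. -/
theorem mul_pow_eq_one_of_central {x y : G} {p : ℕ} (hp : Odd p) (h : ⁅y, x⁆ ∈ Subgroup.center G)
    (hx : x ^ p = 1) (hy : y ^ p = 1) : (x * y) ^ p = 1 := by
  rw [mul_pow_odd_of_central hp h (commutatorElement_pow_eq_one_of_pow_central h (hy ▸ one_mem _)),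
    hx, hy, one_mul]

/-- In a subgroup of class at most 2 and odd `p`, the subgroup generated by the elements of order dividing `p`
consists of such elements. -/
theorem pow_eq_one_of_mem_closure_class_two {p : ℕ} (hp : Odd p)
    (hcl : ∀ x y : G, ⁅x, y⁆ ∈ Subgroup.center G) (S : Set G) (hS : ∀ x ∈ S, x ^ p = 1) {g : G}
    (hg : g ∈ Subgroup.closure S) : g ^ p = 1 := by
  induction hg using Subgroup.closure_induction with
  | mem x hx => exact hS x hx
  | one => exact one_pow p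
  | mul x y _ _ hx hy => exact mul_pow_eq_one_of_central hp (hcl y x) hx hy
  | inv x _ hx => rw [inv_pow, hx, inv_one]

end CfsgLib.PGroup
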