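import Mathlib

/-!
# The Frattini subgroup of a finite p-group
-/

open scoped commutatorElement

namespace CfsgLib.PGroup

variable {p : ℕ} [hp : Fact p.Prime] {P : Type*} [Group P] [Finite P]

omit hp in
theorem normal_of_isCoatom [Fact p.Prime] (hP : IsPGroup p P) {M : Subgroup P} (hM : IsCoatom M) :
    M.Normal :=
  haveI := hP.isNilpotent
  Subgroup.NormalizerCondition.normal_of_coatom M Group.normalizerCondition_of_isNilpotent hM

/-- The quotient by a maximal subgroup has prime order. -/
theorem index_of_isCoatom (hP : IsPGroup p P) {M : Subgroup P} (hM : IsCoatom M) : M.index = p := by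
  have hn := normal_of_isCoatom hP hM
  obtain ⟨k, hk⟩ := hP.index M
  have hk0 : k ≠ 0 := by
    rintro rfl
    exact hM.1 (Subgroup.index_eq_one.mp (by simpa using hk))
  have hdvd : p ∣ Nat.card (P ⧸ M) := by
    rw [← Subgroup.index_eq_card, hk]; exact dvd_pow_self p hk0
  obtain ⟨z, hz⟩ := exists_prime_orderOf_dvd_card' p hdvd
  have hz1 : z ≠ 1 := fun e => hp.out.ne_one (by rw [← hz, e, orderOf_one])
  have hlt : M < (Subgroup.zpowers z).comap (QuotientGroup.mk' M) := by
    obtain ⟨x, rfl⟩ := QuotientGroup.mk'_surjective M z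
    refine lt_of_le_of_ne (fun m hm => ?_) (fun e => hz1 ?_)
    · rw [Subgroup.mem_comap, show QuotientGroup.mk' M m = 1 from (QuotientGroup.eq_one_iff m).mpr hm]
      exact one_mem _
    · have hx : x ∈ M := e ▸ (show x ∈ (Subgroup.zpowers _).comap (QuotientGroup.mk' M) from
        Subgroup.mem_zpowers _)
      exact (QuotientGroup.eq_one_iff x).mpr hx
  have htop := hM.2 _ hlt
  have hzt : Subgroup.zpowers z = ⊤ := by
    rw [← Subgroup.map_comap_eq_self_of_surjective (QuotientGroup.mk'_surjective M) (Subgroup.zpowers z),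
      htop, Subgroup.map_top_of_surjective _ (QuotientGroup.mk'_surjective M)]
  rw [Subgroup.index_eq_card, ← Subgroup.card_top (G := P ⧸ M), ← hzt, Nat.card_zpowers, hz]

theorem pow_mem_of_isCoatom (hP : IsPGroup p P) {M : Subgroup P} (hM : IsCoatom M) (x : P) :
    x ^ p ∈ M := by
  have := normal_of_isCoatom hP hM
  rw [← index_of_isCoatom hP hM]
  exact M.pow_index_mem x

theorem commutator_le_of_isCoatom (hP : IsPGroup p P) {M : Subgroup P} (hM : IsCoatom M) :
    commutator P ≤ M := by
  have := normal_of_isCoatom hP hM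
  have hc : Nat.card (P ⧸ M) = p := by rw [← Subgroup.index_eq_card, index_of_isCoatom hP hM]
  haveI := isCyclic_of_prime_card hc
  rw [Subgroup.Normal.quotient_commutative_iff_commutator_le (N := M) |>.symm]
  exact IsCyclic.isMulCommutative

theorem pow_mem_frattini (hP : IsPGroup p P) (x : P) : x ^ p ∈ frattini P := by
  simp only [frattini, Order.radical, Subgroup.mem_iInf]
  exact fun M hM => pow_mem_of_isCoatom hP hM x

theorem commutator_le_frattini (hP : IsPGroup p P) : commutator P ≤ frattini P := by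
  simp only [frattini, Order.radical, le_iInf_iff]
  exact fun M hM => commutator_le_of_isCoatom hP hM

/-- The Frattini subgroup is the smallest subgroup containing the commutators and the p-th powers. -/
theorem frattini_le_of (N : Subgroup P) (hc : commutator P ≤ N) (hpow : ∀ x : P, x ^ p ∈ N) :
    frattini P ≤ N := by
  by_contra hle
  obtain ⟨x, hxF, hxN⟩ := SetLike.not_le_iff_exists.mp hle
  obtain ⟨K, hNK, hK⟩ := Finite.exists_le_maximal (p := fun K : Subgroup P => x ∉ K) hxN
  have hKn : K.Normal := Subgroup.Normal.of_commutator_le (h := hc.trans hNK)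
  have hjoin : ∀ y : P, y ∈ K ⊔ Subgroup.zpowers x := by
    intro y
    by_cases hy : y ∈ K
    · exact Subgroup.mem_sup_left hy
    have hx : x ∈ K ⊔ Subgroup.zpowers y := by
      by_contra h
      exact hy ((hK.2 h le_sup_left) (Subgroup.mem_sup_right (Subgroup.mem_zpowers y)))
    obtain ⟨k, hk, z, hz, hkz⟩ := Subgroup.mem_sup_of_normal_left.mp hx
    obtain ⟨i, rfl⟩ := Subgroup.mem_zpowers_iff.mp hz
    have hi : ¬ ((p : ℤ) ∣ i) := by
      rintro ⟨j, rfl⟩
      apply hK.1
      rw [← hkz]
      refine K.mul_mem hk ?_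
      rw [zpow_mul, zpow_natCast]
      exact K.zpow_mem (hNK (hpow y)) j
    have hcop : IsCoprime i (p : ℤ) := by
      rw [isCoprime_comm]
      exact ((Nat.prime_iff_prime_int.mp hp.out).coprime_iff_not_dvd).mpr hi
    obtain ⟨a, b, hab⟩ := hcop
    have hyi : y ^ i ∈ K ⊔ Subgroup.zpowers x := by
      have : y ^ i = k⁻¹ * x := by rw [← hkz, inv_mul_cancel_left]
      rw [this]
      exact Subgroup.mul_mem _ (Subgroup.mem_sup_left (K.inv_mem hk))
        (Subgroup.mem_sup_right (Subgroup.mem_zpowers x))
    have hy' : y = (y ^ i) ^ a * (y ^ p) ^ b := by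
      rw [← zpow_natCast y p, ← zpow_mul, ← zpow_mul, ← zpow_add]
      rw [show i * a + (p : ℤ) * b = 1 by linarith, zpow_one]
    rw [hy']
    exact Subgroup.mul_mem _ (Subgroup.zpow_mem _ hyi a)
      (Subgroup.mem_sup_left (K.zpow_mem (hNK (hpow y)) b))
  have hco : IsCoatom K := by
    refine ⟨fun e => hK.1 (e ▸ Subgroup.mem_top x), fun L hL => ?_⟩
    have hxL : x ∈ L := by
      by_contra h
      exact not_le_of_gt hL (hK.2 h hL.le)
    exact top_le_iff.mp fun y _ => sup_le hL.le (by simpa using hxL) (hjoin y)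
  exact hK.1 (frattini_le_coatom hco hxF)

theorem frattini_ne_top [Nontrivial P] : frattini P ≠ ⊤ := by
  intro h
  obtain h' | ⟨M, hM, -⟩ := eq_top_or_exists_le_coatom (⊥ : Subgroup P)
  · exact bot_ne_top h'
  · exact hM.1 (top_le_iff.mp (h ▸ frattini_le_coatom hM))

end CfsgLib.PGroup
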