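import Cfsg.Agent.Lib.PGroup.Frattini

/-!
# p-groups of maximal class: class bound, Taussky, cyclic subgroup of index two
-/

namespace CfsgLib.MaxClass

open Subgroup
open scoped commutatorElement

universe u

variable {p : ℕ} [hp : Fact p.Prime]

omit hp in
theorem abelian_of_center_quotient_le {X : Type*} [Group X] [hp : Fact p.Prime] {m : ℕ}
    (hm : m ≤ 1) (h : Nat.card (X ⧸ center X) = p ^ m) : IsMulCommutative X := by
  haveI : IsCyclic (X ⧸ center X) := by
    interval_cases m
    · haveI := (Nat.card_eq_one_iff_unique.mp (h.trans (pow_zero p))).1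
      exact isCyclic_of_subsingleton
    · exact isCyclic_of_prime_card (h.trans (pow_one p))
  exact (QuotientGroup.mk' (center X)).isMulCommutative_of_isCyclic_of_ker_le_center
    (QuotientGroup.ker_mk' _).le

theorem card_center_quotient {X : Type*} [Group X] [Finite X] {n : ℕ} (hX : Nat.card X = p ^ n)
    (hn : 1 ≤ n) :
    ∃ m, m < n ∧ Nat.card (X ⧸ center X) = p ^ m ∧ Nat.card (center X) = p ^ (n - m) := by
  obtain ⟨k, hk0, hk⟩ := IsPGroup.card_center_eq_prime_pow hX (by omega)
  have h := card_eq_card_quotient_mul_card_subgroup (center X)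
  obtain ⟨m, hmn, hm⟩ : ∃ m, m ≤ n ∧ Nat.card (X ⧸ center X) = p ^ m :=
    (Nat.dvd_prime_pow hp.out).mp (by rw [← hX, h]; exact Dvd.intro _ rfl)
  rw [hX, hm, hk, ← pow_add] at h
  have := Nat.pow_right_injective hp.out.two_le h
  exact ⟨m, by omega, hm, by rw [hk]; congr 1; omega⟩

/-- A group of order `p^n`, `n ≥ 2`, has class at most `n - 1`. -/
theorem class_le : ∀ (n : ℕ) (X : Type u) [Group X] [Finite X], Nat.card X = p ^ n → 2 ≤ n →
    Group.nilpotencyClass X ≤ n - 1 := by
  intro n
  induction n using Nat.strong_induction_on with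
  | _ n ih =>
  intro X _ _ hX hn
  haveI : Group.IsNilpotent X := (IsPGroup.of_card hX).isNilpotent
  obtain ⟨m, hmn, hm, -⟩ := card_center_quotient hX (by omega)
  by_cases hm2 : 2 ≤ m
  · haveI : Nontrivial X := by
      refine Finite.one_lt_card_iff_nontrivial.mp ?_
      rw [hX]; exact Nat.one_lt_pow (by omega) hp.out.one_lt
    rw [Group.nilpotencyClass_eq_quotient_center_plus_one]
    have := ih m hmn (X ⧸ center X) hm hm2
    omega
  · haveI := abelian_of_center_quotient_le (X := X) (p := p) (by omega) hm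
    have := Group.IsNilpotent.nilpotencyClass_le_one_iff.mpr ‹IsMulCommutative X›
    omega

/-- Maximal class: the centre has order `p`, and the central quotient has maximal class. -/
theorem center_of_class {X : Type*} [Group X] [Finite X] {n : ℕ} (hX : Nat.card X = p ^ n)
    (hn : 3 ≤ n) (hc : Group.nilpotencyClass X = n - 1) :
    Nat.card (center X) = p ∧ Nat.card (X ⧸ center X) = p ^ (n - 1) ∧
      Group.nilpotencyClass (X ⧸ center X) = n - 2 := by
  haveI : Group.IsNilpotent X := (IsPGroup.of_card hX).isNilpotent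
  obtain ⟨m, hmn, hm, hz⟩ := card_center_quotient hX (by omega)
  have hq : Group.nilpotencyClass (X ⧸ center X) = n - 2 := by
    rw [Group.nilpotencyClass_quotient_center, hc]; omega
  by_cases hm2 : 2 ≤ m
  · have := class_le m (X ⧸ center X) hm hm2
    obtain rfl : m = n - 1 := by omega
    refine ⟨?_, hm, hq⟩
    rw [hz, show n - (n - 1) = 1 by omega, pow_one]
  · haveI := abelian_of_center_quotient_le (X := X) (p := p) (by omega) hm
    have := Group.IsNilpotent.nilpotencyClass_le_one_iff.mpr ‹IsMulCommutative X›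
    omega

/-- Conversely: class is maximal when the centre has order `p` and the quotient has maximal class. -/
theorem class_eq_of_quotient {X : Type*} [Group X] [Finite X] {n : ℕ} (hX : Nat.card X = p ^ n)
    (hn : 2 ≤ n) (hc : Group.nilpotencyClass (X ⧸ center X) = n - 2) :
    Group.nilpotencyClass X = n - 1 := by
  haveI : Group.IsNilpotent X := (IsPGroup.of_card hX).isNilpotent
  haveI : Nontrivial X := by
    refine Finite.one_lt_card_iff_nontrivial.mp ?_
    rw [hX]; exact Nat.one_lt_pow (by omega) hp.out.one_lt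
  rw [Group.nilpotencyClass_eq_quotient_center_plus_one, hc]
  omega

theorem mem_center_of_card {X : Type*} [Group X] [Finite X] (hX : IsPGroup p X) (N : Subgroup X)
    [N.Normal] (hN : Nat.card N = p) : N ≤ center X := by
  haveI : Finite N := inferInstance
  intro a ha
  rw [mem_center_iff]
  intro x
  -- `x` acts on the cyclic group `N` of order `p` as a `p`-element, hence trivially
  by_contra hne
  have hsub : ⁅N, (⊤ : Subgroup X)⁆ = N := by
    rcases (Nat.dvd_prime hp.out).mp (hN ▸ card_dvd_of_le (commutator_le_left N ⊤)) with h | h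
    · have h0 := eq_bot_of_card_eq _ h
      have : ⁅a, x⁆ ∈ ⁅N, (⊤ : Subgroup X)⁆ := commutator_mem_commutator ha (mem_top x)
      rw [h0, mem_bot, commutatorElement_eq_one_iff_mul_comm] at this
      exact absurd this.symm hne
    · exact eq_of_le_of_card_ge (commutator_le_left N ⊤) (by rw [h, hN])
  haveI := hX.isNilpotent
  obtain ⟨k, hk⟩ := Subgroup.nilpotent_iff_lowerCentralSeries.mp (inferInstance : Group.IsNilpotent X)
  have hle : ∀ i, N ≤ (⊤ : Subgroup X).lowerCentralSeries i := by
    intro i
    induction i with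
    | zero => rw [Subgroup.lowerCentralSeries_zero]; exact le_top
    | succ i ihi =>
      rw [Subgroup.lowerCentralSeries_succ, ← hsub]
      exact commutator_mono ihi le_rfl
  have := hle k ha
  rw [hk, mem_bot] at this
  exact hne (by simp [this])

/-- A self-centralizing subgroup of order `p²` forces maximal class. -/
theorem class_of_selfCentralizing : ∀ (n : ℕ) (X : Type u) [Group X] [Finite X],
    Nat.card X = p ^ n → ∀ A : Subgroup X, Nat.card A = p ^ 2 → centralizer (A : Set X) = A →
    Group.nilpotencyClass X = n - 1 := by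
  intro n
  induction n using Nat.strong_induction_on with
  | _ n ih =>
  intro X _ _ hX A hA hC
  haveI : Group.IsNilpotent X := (IsPGroup.of_card hX).isNilpotent
  have hXp := IsPGroup.of_card hX
  have hn2 : 2 ≤ n := by
    by_contra hh
    have := card_le_card_group A
    rw [hA, hX] at this
    exact absurd (Nat.pow_lt_pow_right hp.out.one_lt (not_le.mp hh)) (not_lt.mpr this)
  by_cases hn : n = 2
  · subst hn
    have hAtop : A = ⊤ := eq_top_of_card_eq _ (hA.trans hX.symm)
    haveI : IsMulCommutative X := IsPGroup.isMulCommutative_of_card_eq_prime_sq hX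
    have h1 := Group.IsNilpotent.nilpotencyClass_le_one_iff.mpr ‹IsMulCommutative X›
    have h2 : Group.nilpotencyClass X ≠ 0 := fun h => by
      haveI := Group.nilpotencyClass_zero_iff_subsingleton.mp h
      rw [Nat.card_unique] at hX
      exact absurd hX (Nat.one_lt_pow two_ne_zero hp.out.one_lt).ne
    omega
  have hZA : center X ≤ A := fun z hz => by
    rw [← hC, mem_centralizer_iff]; exact fun a _ => mem_center_iff.mp hz a
  have hAne : ¬ A ≤ center X := by
    intro h
    have : centralizer (A : Set X) = ⊤ := top_le_iff.mp fun x _ => mem_centralizer_iff.mpr fun a ha =>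
      (mem_center_iff.mp (h ha) x).symm
    rw [hC] at this
    rw [this, card_top, hX] at hA
    exact hn (Nat.pow_right_injective hp.out.two_le hA)
  obtain ⟨k, hk0, hk⟩ := IsPGroup.card_center_eq_prime_pow hX (by omega)
  have hZ : Nat.card (center X) = p := by
    have hd := card_dvd_of_le hZA
    rw [hk, hA, Nat.pow_dvd_pow_iff_le_right hp.out.one_lt] at hd
    rcases (show k = 1 ∨ k = 2 by omega) with rfl | rfl
    · rw [hk, pow_one]
    · exact absurd (eq_of_le_of_card_ge hZA (by rw [hk, hA])).ge hAne
  have hq : Nat.card (X ⧸ center X) = p ^ (n - 1) := by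
    have h := card_eq_card_quotient_mul_card_subgroup (center X)
    rw [hX, hZ, show n = n - 1 + 1 by omega, pow_succ] at h
    exact (Nat.eq_of_mul_eq_mul_right hp.out.pos h).symm
  refine class_eq_of_quotient hX (by omega) ?_
  obtain ⟨a, ha, haZ⟩ := SetLike.not_le_iff_exists.mp hAne
  let f := QuotientGroup.mk' (center X)
  let Abar := A.map f
  have hAbar : Nat.card Abar = p := by
    have h := index_map_eq (H := A) (f := f) (QuotientGroup.mk'_surjective _)
      (by rw [QuotientGroup.ker_mk']; exact hZA)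
    have h1 := card_mul_index Abar
    have h2 := card_mul_index A
    rw [h, hq] at h1
    rw [hA, hX] at h2
    have e : p ^ n = p ^ (n - 1) * p := by rw [← pow_succ]; congr 1; omega
    have h3 : (p * p) * A.index = (Nat.card Abar * p) * A.index := by
      calc (p * p) * A.index = p ^ n := by rw [← sq]; exact h2
        _ = Nat.card Abar * A.index * p := by rw [e, h1]
        _ = _ := by ring
    have h4 := Nat.eq_of_mul_eq_mul_right (Nat.pos_of_ne_zero A.index_ne_zero_of_finite) h3
    exact (Nat.eq_of_mul_eq_mul_right hp.out.pos h4).symm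
  -- the elements `w` with `[w,a]` central
  let W : Subgroup X := (centralizer ({f a} : Set (X ⧸ center X))).comap f
  have hW : ∀ w ∈ W, ⁅w, a⁆ ∈ center X := by
    intro w hw
    rw [← QuotientGroup.eq_one_iff]
    change f ⁅w, a⁆ = 1
    rw [map_commutatorElement, commutatorElement_eq_one_iff_mul_comm]
    exact mem_centralizer_singleton_iff.mp hw
  let δ : W →* center X :=
    { toFun := fun w => ⟨⁅(w : X), a⁆, hW w w.2⟩
      map_one' := Subtype.ext (commutatorElement_one_left a)
      map_mul' := fun u v => Subtype.ext (by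
        have h := mem_center_iff.mp (hW v v.2) u
        change ⁅(u : X) * v, a⁆ = ⁅(u : X), a⁆ * ⁅(v : X), a⁆
        calc ⁅(u : X) * v, a⁆ = ((u : X) * ⁅(v : X), a⁆ * (u : X)⁻¹) * ⁅(u : X), a⁆ := by
              simp [commutatorElement_def, mul_assoc]
          _ = ⁅(v : X), a⁆ * ⁅(u : X), a⁆ := by rw [h, mul_inv_cancel_right]
          _ = _ := (mem_center_iff.mp (hW v v.2) _).symm) }
  have hAgen : A = center X ⊔ zpowers a := by
    refine (eq_of_le_of_card_ge (sup_le hZA (zpowers_le.mpr ha)) ?_).symm
    rw [hA]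
    obtain ⟨j, hj⟩ := (hXp.to_subgroup (center X ⊔ zpowers a)).exists_card_eq
    rw [hj]
    refine Nat.pow_le_pow_right hp.out.pos ?_
    have hlt : center X < center X ⊔ zpowers a :=
      lt_of_le_of_ne le_sup_left fun e => haZ (e.symm ▸ mem_sup_right (mem_zpowers a))
    have : Nat.card (center X) < Nat.card (center X ⊔ zpowers a : Subgroup X) :=
      lt_of_not_ge fun h => hlt.ne (eq_of_le_of_card_ge hlt.le h)
    rw [hZ, hj] at this
    by_contra hh
    have h1 := Nat.pow_le_pow_right hp.out.pos (show j ≤ 1 by omega)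
    rw [pow_one] at h1
    omega
  have hker : Nat.card δ.ker ≤ p ^ 2 := by
    rw [← hA, ← card_map_of_injective W.subtype_injective (K := δ.ker)]
    refine Nat.le_of_dvd Nat.card_pos (card_dvd_of_le ?_)
    rintro _ ⟨w, hw, rfl⟩
    rw [← hC, hAgen, mem_centralizer_iff]
    intro y hy
    have hwa : (w : X) * a = a * w := commutatorElement_eq_one_iff_mul_comm.mp
      (congrArg Subtype.val (MonoidHom.mem_ker.mp hw))
    have : y ∈ centralizer ({(w : X)} : Set X) := by
      refine sup_le ?_ (zpowers_le.mpr (mem_centralizer_singleton_iff.mpr hwa.symm)) hy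
      intro z hz
      exact mem_centralizer_singleton_iff.mpr (mem_center_iff.mp hz w).symm
    exact mem_centralizer_singleton_iff.mp this
  have hWcard : Nat.card W ≤ p ^ 2 * p := by
    rw [card_eq_card_quotient_mul_card_subgroup δ.ker, mul_comm]
    refine Nat.mul_le_mul hker ?_
    rw [Nat.card_congr (QuotientGroup.quotientKerEquivRange δ).toEquiv, ← hZ]
    exact card_le_card_group _
  obtain ⟨B, hB⟩ : ∃ B : Subgroup (X ⧸ center X), B = centralizer ({f a} : Set (X ⧸ center X)) :=
    ⟨_, rfl⟩
  have hBcard : Nat.card B ≤ p ^ 2 := by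
    have h := card_eq_card_quotient_mul_card_subgroup ((center X).subgroupOf W)
    have e1 : Nat.card ((center X).subgroupOf W) = p := by
      rw [Nat.card_congr (subgroupOfEquivOfLe ?_).toEquiv, hZ]
      intro z hz
      exact mem_centralizer_singleton_iff.mpr (by
        rw [show f z = 1 from (QuotientGroup.eq_one_iff z).mpr hz, one_mul, mul_one])
    have e2 : Nat.card B ≤ Nat.card (W ⧸ (center X).subgroupOf W) := by
      rw [hB]
      refine Nat.card_le_card_of_surjective
        (QuotientGroup.lift ((center X).subgroupOf W)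
          ((f.comp W.subtype).codRestrict _ fun w => w.2) fun w hw => ?_) ?_
      · exact Subtype.ext ((QuotientGroup.eq_one_iff _).mpr (mem_subgroupOf.mp hw))
      · rintro ⟨y, hy⟩
        obtain ⟨w, rfl⟩ := QuotientGroup.mk'_surjective _ y
        exact ⟨QuotientGroup.mk (⟨w, hy⟩ : W), rfl⟩
    rw [e1] at h
    refine le_trans e2 (Nat.le_of_mul_le_mul_right ?_ hp.out.pos)
    rw [← h]; exact hWcard
  have hAB : Abar ≤ B := by
    rintro _ ⟨b, hb, rfl⟩
    rw [hB, mem_centralizer_singleton_iff, ← map_mul, ← map_mul]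
    have hb' : b ∈ centralizer (A : Set X) := hC.symm ▸ hb
    rw [mem_centralizer_iff.mp hb' a ha]
  have hlt : Abar < normalizer (Abar : Set (X ⧸ center X)) := by
    refine Group.normalizerCondition_of_isNilpotent _ (lt_top_iff_ne_top.mpr fun h => ?_)
    rw [h, card_top, hq] at hAbar
    have := Nat.pow_right_injective hp.out.two_le (hAbar.trans (pow_one p).symm)
    omega
  have hNB : normalizer (Abar : Set (X ⧸ center X)) ≤ B := by
    intro y hy
    haveI hn' : (Abar.subgroupOf (normalizer (Abar : Set (X ⧸ center X)))).Normal :=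
      inferInstance
    have hc := mem_center_of_card ((hXp.of_surjective f (QuotientGroup.mk'_surjective _)).to_subgroup _)
      (Abar.subgroupOf (normalizer (Abar : Set (X ⧸ center X))))
      (by rw [Nat.card_congr (subgroupOfEquivOfLe le_normalizer).toEquiv, hAbar])
      (show (⟨f a, le_normalizer (mem_map_of_mem f ha)⟩ : normalizer (Abar : Set (X ⧸ center X))) ∈ _
        from mem_subgroupOf.mpr (mem_map_of_mem f ha))
    rw [hB, mem_centralizer_singleton_iff]
    exact congrArg Subtype.val (mem_center_iff.mp hc ⟨y, hy⟩)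
  have hB2 : Nat.card B = p ^ 2 := by
    refine le_antisymm hBcard ?_
    have h1 : Nat.card Abar < Nat.card B := lt_of_not_ge fun h =>
      (lt_of_lt_of_le hlt hNB).ne (eq_of_le_of_card_ge (lt_of_lt_of_le hlt hNB).le h)
    rw [hAbar] at h1
    obtain ⟨j, hj⟩ := ((hXp.of_surjective f (QuotientGroup.mk'_surjective _)).to_subgroup B).exists_card_eq
    rw [hj] at h1 ⊢
    refine Nat.pow_le_pow_right hp.out.pos ?_
    by_contra hh
    have h2 := Nat.pow_le_pow_right hp.out.pos (show j ≤ 1 by omega)
    rw [pow_one] at h2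
    omega
  have hBC : centralizer (B : Set (X ⧸ center X)) = B := by
    haveI : IsMulCommutative B := IsPGroup.isMulCommutative_of_card_eq_prime_sq hB2
    refine le_antisymm ?_ (le_centralizer B)
    intro y hy
    rw [hB, mem_centralizer_singleton_iff]
    exact (mem_centralizer_iff.mp hy (f a) (hAB (mem_map_of_mem f ha))).symm
  have := ih (n - 1) (by omega) (X ⧸ center X) hq B hB2 hBC
  omega

theorem exists_two_pow_order {X : Type*} [Group X] [Finite X] (hne : ¬ IsMulCommutative X) :
    ∃ x : X, x ^ 2 ≠ 1 := by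
  by_contra h
  push Not at h
  refine hne ⟨⟨fun a b => ?_⟩⟩
  have hi : ∀ a : X, a⁻¹ = a := fun a => inv_eq_of_mul_eq_one_right (by rw [← sq]; exact h a)
  calc a * b = (a * b)⁻¹ := (hi _).symm
    _ = b * a := by rw [mul_inv_rev, hi, hi]

theorem not_isMulCommutative_of_class {X : Type*} [Group X] [Finite X] {n : ℕ}
    (hX : Nat.card X = p ^ n) (hn : 3 ≤ n) (hc : Group.nilpotencyClass X = n - 1) :
    ¬ IsMulCommutative X := by
  haveI : Group.IsNilpotent X := (IsPGroup.of_card hX).isNilpotent
  intro h
  have := Group.IsNilpotent.nilpotencyClass_le_one_iff.mpr h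
  omega

omit hp in
/-- A cyclic subgroup modulo the centre pulls back to an abelian subgroup. -/
theorem abelian_of_cyclic_map {X : Type*} [Group X] (A : Subgroup X)
    (h : IsCyclic (A.map (QuotientGroup.mk' (center X)))) : IsMulCommutative A := by
  refine ((QuotientGroup.mk' (center X)).subgroupMap A).isMulCommutative_of_isCyclic_of_ker_le_center
    fun a ha => ?_
  rw [mem_center_iff]
  intro b
  apply Subtype.ext
  exact mem_center_iff.mp ((QuotientGroup.eq_one_iff (a : X)).mp (congrArg Subtype.val ha)) b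

/-- A 2-group of maximal class has a cyclic subgroup of index 2. -/
theorem exists_cyclic_index_two : ∀ (n : ℕ) (X : Type u) [Group X] [Finite X], 3 ≤ n →
    Nat.card X = 2 ^ n → Group.nilpotencyClass X = n - 1 → ∃ C : Subgroup X, IsCyclic C ∧ C.index = 2 := by
  intro n
  induction n using Nat.strong_induction_on with
  | _ n ih =>
  intro X _ _ hn hX hc
  haveI := Fact.mk Nat.prime_two
  have hXp := IsPGroup.of_card hX
  have hnc := not_isMulCommutative_of_class hX hn hc
  by_cases hn3 : n = 3
  · subst hn3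
    obtain ⟨x, hx⟩ := exists_two_pow_order hnc
    refine ⟨zpowers x, inferInstance, ?_⟩
    obtain ⟨j, hj3, hj⟩ := (Nat.dvd_prime_pow Nat.prime_two).mp (hX ▸ orderOf_dvd_natCard x)
    have h2 : 2 ≤ j := by
      by_contra hh
      exact hx (orderOf_dvd_iff_pow_eq_one.mp (hj ▸ pow_dvd_pow 2 (show j ≤ 1 by omega)))
    have hj2 : j = 2 := by
      by_contra hh
      haveI : IsCyclic X := isCyclic_of_orderOf_eq_card x (by
        rw [hj, hX, show j = 3 by omega])
      exact hnc IsCyclic.isMulCommutative
    have h := card_mul_index (zpowers x)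
    rw [Nat.card_zpowers, hj, hj2, hX] at h
    omega
  obtain ⟨hZ, hq, hqc⟩ := center_of_class hX hn hc
  obtain ⟨Cb, hCb, hCbi⟩ := ih (n - 1) (by omega) (X ⧸ center X) (by omega) hq (by omega)
  let f := QuotientGroup.mk' (center X)
  obtain ⟨A, hA⟩ : ∃ A : Subgroup X, A = Cb.comap f := ⟨_, rfl⟩
  have hAi : A.index = 2 := by
    rw [hA, index_comap_of_surjective _ (QuotientGroup.mk'_surjective _), hCbi]
  haveI : IsMulCommutative A := abelian_of_cyclic_map A (by
    rw [hA, map_comap_eq_self_of_surjective (QuotientGroup.mk'_surjective _)]; exact hCb)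
  have hAn : A.Normal := normal_of_index_eq_two hAi
  obtain ⟨g, hg⟩ := hCb.exists_generator
  obtain ⟨a, ha⟩ := QuotientGroup.mk'_surjective (center X) (g : X ⧸ center X)
  have haA : a ∈ A := by rw [hA, mem_comap, ha]; exact g.2
  have hdec : A = center X ⊔ zpowers a := by
    refine le_antisymm (fun x hx => ?_) (sup_le (fun z hz => ?_) (zpowers_le.mpr haA))
    · rw [hA, mem_comap] at hx
      obtain ⟨i, hi⟩ := mem_zpowers_iff.mp (hg ⟨_, hx⟩)
      have hi' : f (a ^ i) = f x := by
        rw [map_zpow, ha]; exact congrArg Subtype.val hi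
      have h1 : x * (a ^ i)⁻¹ ∈ center X := by
        rw [← QuotientGroup.eq_one_iff]
        change f _ = 1
        rw [map_mul, map_inv, hi', mul_inv_cancel]
      have := mul_mem_sup h1 (zpow_mem (mem_zpowers a) i)
      simpa using this
    · rw [hA, mem_comap, show f z = 1 from (QuotientGroup.eq_one_iff z).mpr hz]
      exact one_mem _
  refine ⟨A, ?_, hAi⟩
  -- the square of the generator of `A/Z` produces the central involution inside `⟨a⟩`
  have hord : 4 ≤ orderOf a := by
    have h1 : orderOf (g : X ⧸ center X) = Nat.card Cb := by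
      rw [Subgroup.orderOf_coe, orderOf_eq_card_of_forall_mem_zpowers hg]
    have h2 : orderOf (g : X ⧸ center X) ∣ orderOf a := ha ▸ orderOf_map_dvd f a
    have h3 := card_mul_index Cb
    rw [hCbi, hq] at h3
    have h4 : (8 : ℕ) ≤ 2 ^ (n - 1) :=
      le_trans (by norm_num) (Nat.pow_le_pow_right two_pos (show 3 ≤ n - 1 by omega))
    have := Nat.le_of_dvd (orderOf_pos a) h2
    omega
  obtain ⟨j, hj⟩ : ∃ j, orderOf a = 2 ^ j := by
    obtain ⟨j, -, hj⟩ := (Nat.dvd_prime_pow Nat.prime_two).mp (hX ▸ orderOf_dvd_natCard a)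
    exact ⟨j, hj⟩
  have hj2 : 2 ≤ j := by
    by_contra hh
    have := Nat.pow_le_pow_right two_pos (show j ≤ 1 by omega)
    omega
  obtain ⟨z, hz⟩ : ∃ z, z = a ^ 2 ^ (j - 1) := ⟨_, rfl⟩
  have hzo : orderOf z = 2 := by
    rw [hz, orderOf_pow_of_dvd (pow_ne_zero _ two_ne_zero) (hj ▸ pow_dvd_pow 2 (Nat.sub_le j 1)), hj,
      Nat.pow_div (Nat.sub_le j 1) two_pos, show j - (j - 1) = 1 by omega, pow_one]
  -- `⟨z⟩` is normal, being the set of `2^(j-1)`-th powers in `A`
  have hpow : ∀ x ∈ A, x ^ 2 ^ (j - 1) ∈ zpowers z := by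
    intro x hx
    rw [hdec, ← SetLike.mem_coe, normal_mul] at hx
    obtain ⟨c, hc', w, hw, rfl⟩ := hx
    obtain ⟨i, rfl⟩ := mem_zpowers_iff.mp hw
    have hcomm : Commute c (a ^ i) := (mem_center_iff.mp hc' _).symm
    have hc2 : c ^ 2 = 1 := by
      have h := pow_card_eq_one' (G := center X) (x := ⟨c, hc'⟩)
      rw [hZ] at h
      exact congrArg Subtype.val h
    show (c * a ^ i) ^ 2 ^ (j - 1) ∈ zpowers z
    rw [hcomm.mul_pow, show 2 ^ (j - 1) = 2 * 2 ^ (j - 2) by rw [← pow_succ']; congr 1; omega,
      pow_mul c, hc2, one_pow, one_mul, ← pow_succ', show j - 2 + 1 = j - 1 by omega,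
      ← zpow_natCast, ← zpow_mul, mul_comm, zpow_mul, zpow_natCast, ← hz]
    exact zpow_mem (mem_zpowers z) i
  haveI : (zpowers z).Normal := by
    refine ⟨fun y hy x => ?_⟩
    obtain ⟨i, rfl⟩ := mem_zpowers_iff.mp hy
    rw [← conj_zpow, hz, ← conj_pow]
    have h := hpow _ (hAn.conj_mem a haA x)
    rw [← hz]
    exact zpow_mem h i
  have hzZ : z ∈ center X := mem_center_of_card hXp (zpowers z) (by rw [Nat.card_zpowers, hzo]) (mem_zpowers z)
  have hcenter : center X ≤ zpowers a := by
    have e : zpowers z = center X :=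
      eq_of_le_of_card_ge (zpowers_le.mpr hzZ) (by rw [hZ, Nat.card_zpowers, hzo])
    rw [← e, zpowers_le, hz]
    exact pow_mem (mem_zpowers a) _
  rw [hdec, sup_eq_right.mpr hcenter]
  infer_instance

/-- Inside a maximal-class 2-group: generators of a dihedral central quotient. -/
theorem exists_generators {X : Type*} [Group X] [Finite X] {n : ℕ} (hn : 3 ≤ n)
    (hX : Nat.card X = 2 ^ n) (hc : Group.nilpotencyClass X = n - 1) :
    ∃ a t : X, zpowers a ⊔ zpowers t = ⊤ ∧ t ∉ zpowers a ∧ orderOf a = 2 ^ (n - 1) ∧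
      center X ≤ zpowers a ∧ t ^ 2 ∈ center X ∧ t * a * t⁻¹ * a ∈ center X := by
  haveI := Fact.mk Nat.prime_two
  obtain ⟨C, hC, hCi⟩ := exists_cyclic_index_two n X hn hX hc
  have hnc := not_isMulCommutative_of_class hX hn hc
  obtain ⟨g, hg⟩ := hC.exists_generator
  obtain ⟨a, rfl⟩ : ∃ a : X, a = g := ⟨_, rfl⟩
  have hCa : C = zpowers (g : X) := by
    refine le_antisymm (fun x hx => ?_) (zpowers_le.mpr g.2)
    obtain ⟨i, hi⟩ := mem_zpowers_iff.mp (hg ⟨x, hx⟩)
    exact mem_zpowers_iff.mpr ⟨i, congrArg Subtype.val hi⟩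
  haveI hCn : C.Normal := normal_of_index_eq_two hCi
  obtain ⟨t, ht⟩ : ∃ t, t ∉ C := by
    by_contra h
    push Not at h
    have : C = ⊤ := top_le_iff.mp fun x _ => h x
    rw [this, index_top] at hCi
    omega
  have htop : zpowers (g : X) ⊔ zpowers t = ⊤ := by
    rw [← hCa]
    refine top_le_iff.mp fun x _ => ?_
    by_cases hx : x ∈ C
    · exact mem_sup_left hx
    · have h : x * t⁻¹ ∈ C := by rw [mul_mem_iff_of_index_two hCi, inv_mem_iff]; simp [hx, ht]
      have := mul_mem_sup h (mem_zpowers t)
      simpa using this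
  have hcomm : ∀ x ∈ C, ∀ y ∈ C, x * y = y * x := fun x hx y hy => by
    haveI : IsMulCommutative C := IsCyclic.isMulCommutative
    exact congrArg Subtype.val ((‹IsMulCommutative C›).is_comm.comm ⟨x, hx⟩ ⟨y, hy⟩)
  have hZC : center X ≤ C := by
    intro z hz
    by_contra hzC
    refine hnc ⟨⟨fun x y => ?_⟩⟩
    have hx : ∀ x, x ∈ C ∨ x * z⁻¹ ∈ C := fun x => by
      by_cases hx : x ∈ C
      · exact Or.inl hx
      · right; rw [mul_mem_iff_of_index_two hCi, inv_mem_iff]; simp [hx, hzC]
    have hzc : ∀ x : X, Commute z x := fun x => (mem_center_iff.mp hz x).symm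
    have key : ∀ x y : X, x ∈ C → Commute x y := by
      intro x y hxC
      rcases hx y with hy | hy
      · exact hcomm x hxC y hy
      · have h : Commute x (y * z⁻¹ * z) := (show Commute x (y * z⁻¹) from hcomm x hxC _ hy).mul_right (hzc x).symm
        simpa using h
    rcases hx x with h | h
    · exact key x y h
    · have h2 : Commute (x * z⁻¹ * z) y := (key _ y h).mul_left (hzc y)
      simpa using h2.eq
  have hfix : ∀ s ∈ C, t * s * t⁻¹ = s → s ∈ center X := by
    intro s hs hts
    rw [mem_center_iff]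
    intro x
    have hx : x ∈ zpowers (g : X) ⊔ zpowers t := htop ▸ mem_top x
    have hle : zpowers (g : X) ⊔ zpowers t ≤ centralizer ({s} : Set X) := by
      refine sup_le (zpowers_le.mpr ?_) (zpowers_le.mpr ?_)
      · exact mem_centralizer_singleton_iff.mpr (hcomm _ g.2 s hs)
      · exact mem_centralizer_singleton_iff.mpr (mul_inv_eq_iff_eq_mul.mp hts)
    exact mem_centralizer_singleton_iff.mp (hle hx)
  have ht2 : t ^ 2 ∈ C := by rw [sq, mul_mem_iff_of_index_two hCi]
  have hcard : orderOf (g : X) = 2 ^ (n - 1) := by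
    rw [Subgroup.orderOf_coe, orderOf_eq_card_of_forall_mem_zpowers hg]
    have h := card_mul_index C
    rw [hCi, hX, show n = n - 1 + 1 by omega, pow_succ] at h
    exact Nat.eq_of_mul_eq_mul_right two_pos h
  refine ⟨g, t, htop, hCa ▸ ht, hcard, hCa ▸ hZC, hfix _ ht2 (by group), ?_⟩
  have hta : t * (g : X) * t⁻¹ ∈ C := hCn.conj_mem _ g.2 t
  refine hfix _ (C.mul_mem hta g.2) ?_
  have h1 := hcomm _ ht2 _ g.2
  calc t * (t * (g : X) * t⁻¹ * g) * t⁻¹ = (t ^ 2 * g) * (t ^ 2)⁻¹ * (t * g * t⁻¹) := by
        simp [sq, mul_assoc]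
    _ = g * (t * g * t⁻¹) := by rw [h1, mul_inv_cancel_right]
    _ = t * g * t⁻¹ * g := hcomm _ g.2 _ hta

omit hp in
/-- For a 2-group with abelianization of order 4: it has maximal class (Taussky). -/
theorem class_of_abelianization : ∀ (n : ℕ) (X : Type u) [Group X] [Finite X], 3 ≤ n →
    Nat.card X = 2 ^ n → Nat.card (X ⧸ commutator X) = 4 → Group.nilpotencyClass X = n - 1 := by
  intro n
  induction n using Nat.strong_induction_on with
  | _ n ih =>
  intro X _ _ hn hX hab
  haveI := Fact.mk Nat.prime_two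
  have hXp := IsPGroup.of_card hX
  haveI := hXp.isNilpotent
  have hD : Nat.card (commutator X) = 2 ^ (n - 2) := by
    have h := card_eq_card_quotient_mul_card_subgroup (commutator X)
    rw [hX, hab, show n = n - 2 + 2 by omega, pow_add] at h
    omega
  have hnc : ¬ IsMulCommutative X := by
    intro h
    have hb : commutator X = ⊥ := (_root_.commutator_eq_bot_iff X).mpr h
    rw [hb, card_bot] at hD
    exact absurd hD (Nat.one_lt_pow (by omega) one_lt_two).ne
  by_cases hn3 : n = 3
  · subst hn3
    have h1 := class_le (p := 2) 3 X hX (by omega)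
    have h2 : ¬ Group.nilpotencyClass X ≤ 1 := fun h =>
      hnc (Group.IsNilpotent.nilpotencyClass_le_one_iff.mp h)
    omega
  -- a central subgroup of order 2 inside the derived subgroup
  have hDne : commutator X ≠ ⊥ := fun h => hnc ((_root_.commutator_eq_bot_iff X).mp h)
  obtain ⟨z, hzD, hzo, hzc⟩ : ∃ z ∈ commutator X, orderOf z = 2 ∧ z ∈ center X := by
    obtain ⟨w, hw, hw1⟩ : ∃ w ∈ commutator X ⊓ center X, w ≠ 1 := by
      by_contra h
      push Not at h
      obtain ⟨k, hk⟩ := Subgroup.nilpotent_iff_lowerCentralSeries.mp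
        (inferInstance : Group.IsNilpotent X)
      have hk' : ∀ i, ∀ x ∈ (⊤ : Subgroup X).lowerCentralSeries (k - i), k - i ≠ 0 → x = 1 := by
        intro i
        induction i with
        | zero => intro x hx _; rw [Nat.sub_zero, hk, mem_bot] at hx; exact hx
        | succ i ihi =>
          intro x hx hne
          have hD' : x ∈ commutator X := by
            rw [← Subgroup.top_lowerCentralSeries_one]
            exact Subgroup.lowerCentralSeries_antitone _ (show 1 ≤ k - (i + 1) by omega) hx
          refine h x ⟨hD', mem_center_iff.mpr fun y => ?_⟩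
          have h2 : ⁅x, y⁆ ∈ (⊤ : Subgroup X).lowerCentralSeries (k - i) := by
            rw [show k - i = k - (i + 1) + 1 by omega, Subgroup.lowerCentralSeries_succ]
            exact commutator_mem_commutator hx (mem_top y)
          exact (commutatorElement_eq_one_iff_mul_comm.mp (ihi _ h2 (by omega))).symm
      refine hDne ((eq_bot_iff_forall _).mpr fun x hx => ?_)
      rcases Nat.eq_zero_or_pos k with hk0 | hk0
      · rw [hk0, Subgroup.lowerCentralSeries_zero] at hk
        exact mem_bot.mp (hk ▸ mem_top x)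
      · rw [← Subgroup.top_lowerCentralSeries_one] at hx
        refine hk' (k - 1) x ?_ (by omega)
        rwa [show k - (k - 1) = 1 by omega]
    obtain ⟨j, hj⟩ := hXp w
    have hw' : 2 ∣ orderOf w := by
      rcases (Nat.dvd_prime_pow Nat.prime_two).mp (orderOf_dvd_of_pow_eq_one hj) with ⟨i, -, hi⟩
      rcases i with _ | i
      · exact absurd (orderOf_eq_one_iff.mp (by simpa using hi)) hw1
      · rw [hi]; exact dvd_pow_self 2 (Nat.succ_ne_zero i)
    exact ⟨w ^ (orderOf w / 2), pow_mem hw.1 _, orderOf_pow_orderOf_div (orderOf_pos w).ne' hw',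
      pow_mem hw.2 _⟩
  obtain ⟨N, hN⟩ : ∃ N : Subgroup X, N = zpowers z := ⟨_, rfl⟩
  have hNZ : N ≤ center X := hN ▸ zpowers_le.mpr hzc
  haveI : N.Normal := ⟨fun y hy x => by rw [mem_center_iff.mp (hNZ hy) x, mul_inv_cancel_right]; exact hy⟩
  have hNc : Nat.card N = 2 := by rw [hN, Nat.card_zpowers, hzo]
  have hq : Nat.card (X ⧸ N) = 2 ^ (n - 1) := by
    have h := card_eq_card_quotient_mul_card_subgroup N
    rw [hX, hNc, show n = n - 1 + 1 by omega, pow_succ] at h
    omega
  let f := QuotientGroup.mk' N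
  have hf := QuotientGroup.mk'_surjective N
  have hmapD : (commutator X).map f = commutator (X ⧸ N) := by
    rw [_root_.commutator_def, map_commutator, map_top_of_surjective _ hf, ← _root_.commutator_def]
  have habq : Nat.card ((X ⧸ N) ⧸ commutator (X ⧸ N)) = 4 := by
    rw [← index_eq_card, ← hmapD, index_map_eq (H := commutator X) hf
      (by rw [QuotientGroup.ker_mk', hN]; exact zpowers_le.mpr hzD), index_eq_card, hab]
  have hcq := ih (n - 1) (by omega) (X ⧸ N) (by omega) hq habq
  obtain ⟨Cb, hCb, hCbi⟩ := exists_cyclic_index_two (n - 1) (X ⧸ N) (by omega) hq hcq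
  obtain ⟨A, hA⟩ : ∃ A : Subgroup X, A = Cb.comap f := ⟨_, rfl⟩
  have hAi : A.index = 2 := by rw [hA, index_comap_of_surjective _ hf, hCbi]
  have hAn : A.Normal := normal_of_index_eq_two hAi
  have hNA : N ≤ A := fun x hx => by
    rw [hA, mem_comap, show f x = 1 from (QuotientGroup.eq_one_iff x).mpr hx]; exact one_mem _
  haveI hAc : IsMulCommutative A := by
    refine abelian_of_cyclic_map A ?_
    let π : X ⧸ N →* X ⧸ center X := QuotientGroup.map N (center X) (MonoidHom.id X) hNZ
    have : A.map (QuotientGroup.mk' (center X)) = Cb.map π := by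
      rw [hA, show QuotientGroup.mk' (center X) = π.comp f from rfl, ← map_map,
        map_comap_eq_self_of_surjective hf]
    rw [this]
    exact isCyclic_of_surjective (π.subgroupMap Cb) (π.subgroupMap_surjective Cb)
  obtain ⟨t, ht⟩ : ∃ t, t ∉ A := by
    by_contra h
    push Not at h
    have : A = ⊤ := top_le_iff.mp fun x _ => h x
    rw [this, index_top] at hAi
    omega
  have hcA : ∀ x ∈ A, ∀ y ∈ A, x * y = y * x := fun x hx y hy =>
    congrArg Subtype.val (hAc.is_comm.comm ⟨x, hx⟩ ⟨y, hy⟩)
  let δ : A →* A :=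
    { toFun := fun a => ⟨⁅t, (a : X)⁆, A.mul_mem (hAn.conj_mem _ a.2 t) (A.inv_mem a.2)⟩
      map_one' := Subtype.ext (commutatorElement_one_right t)
      map_mul' := fun a b => Subtype.ext (by
        change ⁅t, (a : X) * b⁆ = ⁅t, (a : X)⁆ * ⁅t, (b : X)⁆
        have h := hcA _ a.2 _ (A.mul_mem (hAn.conj_mem _ b.2 t) (A.inv_mem b.2))
        calc ⁅t, (a : X) * b⁆ = ⁅t, (a : X)⁆ * ((a : X) * ⁅t, (b : X)⁆ * (a : X)⁻¹) := by
              simp [commutatorElement_def, mul_assoc]
          _ = _ := by rw [commutatorElement_def t (b : X)]; rw [h, mul_inv_cancel_right]) }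
  have hgen : ∀ x : X, x ∈ A ∨ x * t⁻¹ ∈ A := fun x => by
    by_cases hx : x ∈ A
    · exact Or.inl hx
    · right; rw [mul_mem_iff_of_index_two hAi, inv_mem_iff]; simp [hx, ht]
  obtain ⟨R, hR⟩ : ∃ R : Subgroup X, R = δ.range.map A.subtype := ⟨_, rfl⟩
  have hRA : R ≤ A := hR ▸ map_subtype_le _
  haveI hRn : R.Normal := by
    refine ⟨fun r hr x => ?_⟩
    have hrA := hRA hr
    have hconjA : ∀ y ∈ A, y * r * y⁻¹ = r := fun y hy => by
      rw [hcA y hy r hrA, mul_inv_cancel_right]
    have ht' : t * r * t⁻¹ ∈ R := by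
      have h1 : ⁅t, r⁆ ∈ R := hR.ge ⟨δ ⟨r, hrA⟩, ⟨_, rfl⟩, rfl⟩
      simpa [commutatorElement_def] using R.mul_mem h1 hr
    rcases hgen x with hx | hx
    · rw [hconjA x hx]; exact hr
    · have e : x * r * x⁻¹ = (x * t⁻¹) * (t * r * t⁻¹) * (x * t⁻¹)⁻¹ := by group
      rw [e, hcA _ hx _ (hRA ht'), mul_inv_cancel_right]
      exact ht'
  have hDR : commutator X ≤ R := by
    rw [← QuotientGroup.ker_mk' R]
    have hta : ∀ a ∈ A, Commute (QuotientGroup.mk' R t) (QuotientGroup.mk' R a) := fun a ha => by
      refine commutatorElement_eq_one_iff_mul_comm.mp ?_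
      rw [← map_commutatorElement]
      exact (QuotientGroup.eq_one_iff _).mpr
        (hR.ge ⟨δ ⟨a, ha⟩, ⟨_, rfl⟩, rfl⟩)
    have hgenc : ∀ x : X, ∀ y : X ⧸ R, Commute (QuotientGroup.mk' R t) y →
        (∀ a ∈ A, Commute (QuotientGroup.mk' R a) y) → Commute (QuotientGroup.mk' R x) y := by
      intro x y h1 h2
      rcases hgen x with hx | hx
      · exact h2 x hx
      · have := (h2 _ hx).mul_left h1
        rwa [← map_mul, inv_mul_cancel_right] at this
    rw [_root_.commutator_def, commutator_le]
    intro x _ y _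
    rw [MonoidHom.mem_ker, map_commutatorElement, commutatorElement_eq_one_iff_mul_comm]
    refine hgenc x _ (hgenc y _ (Commute.refl _) fun a ha => (hta a ha).symm).symm fun a ha => ?_
    exact (hgenc y _ (hta a ha) fun b hb =>
      (show Commute b a from hcA b hb a ha).map (QuotientGroup.mk' R)).symm
  have hker : (center X).subgroupOf A = δ.ker := by
    ext a
    rw [mem_subgroupOf, MonoidHom.mem_ker, mem_center_iff]
    constructor
    · exact fun h => Subtype.ext (commutatorElement_eq_one_iff_mul_comm.mpr (h t))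
    · intro h x
      have hta : Commute t (a : X) := commutatorElement_eq_one_iff_mul_comm.mp (congrArg Subtype.val h)
      rcases hgen x with hx | hx
      · exact hcA x hx a a.2
      · have h2 : Commute (x * t⁻¹ * t) (a : X) := (show Commute (x * t⁻¹) (a : X) from hcA _ hx _ a.2).mul_left hta
        simpa using h2.eq
  have hZA : center X ≤ A := by
    intro w hw
    by_contra hwA
    refine hnc ⟨⟨fun x y => ?_⟩⟩
    have hdec : ∀ x, x ∈ A ∨ x * w⁻¹ ∈ A := fun x => by
      by_cases hx : x ∈ A
      · exact Or.inl hx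
      · right; rw [mul_mem_iff_of_index_two hAi, inv_mem_iff]; simp [hx, hwA]
    have hwc : ∀ x : X, Commute w x := fun x => (mem_center_iff.mp hw x).symm
    have key : ∀ a y : X, a ∈ A → Commute a y := by
      intro a y ha
      rcases hdec y with hy | hy
      · exact hcA a ha y hy
      · have h2 : Commute a (y * w⁻¹ * w) := (show Commute a (y * w⁻¹) from hcA a ha _ hy).mul_right (hwc a).symm
        simpa using h2
    rcases hdec x with h | h
    · exact key x y h
    · have h2 : Commute (x * w⁻¹ * w) y := (key _ y h).mul_left (hwc y)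
      simpa using h2.eq
  have hAcard : Nat.card A = 2 ^ (n - 1) := by
    have h := card_mul_index A
    rw [hAi, hX, show n = n - 1 + 1 by omega, pow_succ] at h
    omega
  have hZ2 : Nat.card (center X) ≤ 2 := by
    have h := card_eq_card_quotient_mul_card_subgroup δ.ker
    rw [Nat.card_congr (QuotientGroup.quotientKerEquivRange δ).toEquiv, ← hker,
      Nat.card_congr (subgroupOfEquivOfLe hZA).toEquiv, hAcard] at h
    have h1 : 2 ^ (n - 2) ≤ Nat.card δ.range := by
      rw [← hD, ← card_map_of_injective A.subtype_injective (K := δ.range), ← hR]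
      exact Nat.le_of_dvd Nat.card_pos (card_dvd_of_le hDR)
    rw [show n - 1 = n - 2 + 1 by omega, pow_succ] at h
    have := Nat.mul_le_mul_right (Nat.card (center X)) h1
    rw [← h] at this
    exact Nat.le_of_mul_le_mul_left this (pow_pos two_pos _)
  have hNeq : N = center X := eq_of_le_of_card_ge hNZ (by rw [hNc]; exact hZ2)
  refine class_eq_of_quotient hX (by omega) ?_
  subst hNeq
  rw [hcq]
  omega

end CfsgLib.MaxClass
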