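import Mathlib
import Cfsg.Agent.Lib.PGroup.Class2
import Cfsg.Agent.Lib.PGroup.Frattini

/-!
# Thompson's critical subgroup
-/

open scoped commutatorElement

namespace CfsgLib.PGroup

variable {P : Type*} [Group P]

/-- Elements of `C` that are central modulo `A` and have `p`-th power in `A`. -/
def criticalOver (p : ℕ) (A : Subgroup P) [A.Normal] (C : Subgroup P) : Subgroup P where
  carrier := {x | x ∈ C ∧ (∀ g : P, ⁅g, x⁆ ∈ A) ∧ x ^ p ∈ A}
  one_mem' := ⟨one_mem C, fun g => by simp [commutatorElement_def], by simp⟩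
  mul_mem' := by
    rintro x y ⟨hx, hxc, hxp⟩ ⟨hy, hyc, hyp⟩
    have key : ∀ z : P, z ∈ A ↔ QuotientGroup.mk' A z = 1 := fun z =>
      (QuotientGroup.eq_one_iff z).symm
    have hxc' : ∀ g : P, Commute (QuotientGroup.mk' A g) (QuotientGroup.mk' A x) := fun g => by
      rw [← commutatorElement_eq_one_iff_commute, ← map_commutatorElement, ← key]; exact hxc g
    have hyc' : ∀ g : P, Commute (QuotientGroup.mk' A g) (QuotientGroup.mk' A y) := fun g => by
      rw [← commutatorElement_eq_one_iff_commute, ← map_commutatorElement, ← key]; exact hyc g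
    refine ⟨C.mul_mem hx hy, fun g => ?_, ?_⟩
    · rw [key, map_commutatorElement, map_mul, commutatorElement_eq_one_iff_commute]
      exact (hxc' g).mul_right (hyc' g)
    · rw [key, map_pow, map_mul, (hyc' x).mul_pow, ← map_pow, ← map_pow, (key _).mp hxp,
        (key _).mp hyp, mul_one]
  inv_mem' := by
    rintro x ⟨hx, hxc, hxp⟩
    have key : ∀ z : P, z ∈ A ↔ QuotientGroup.mk' A z = 1 := fun z =>
      (QuotientGroup.eq_one_iff z).symm
    refine ⟨C.inv_mem hx, fun g => ?_, by simpa [inv_pow] using hxp⟩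
    have h := hxc g
    rw [key, map_commutatorElement, commutatorElement_eq_one_iff_commute] at h
    rw [key, map_commutatorElement, map_inv, commutatorElement_eq_one_iff_commute]
    exact h.inv_right

theorem mem_criticalOver {p : ℕ} {A : Subgroup P} [A.Normal] {C : Subgroup P} {x : P} :
    x ∈ criticalOver p A C ↔ x ∈ C ∧ (∀ g : P, ⁅g, x⁆ ∈ A) ∧ x ^ p ∈ A := Iff.rfl

/-- Thompson's critical subgroup: a characteristic `H` with `[H,P]`, `x^p` in `Z(H)` and `C(H) ≤ H`. -/
theorem exists_critical [Finite P] {p : ℕ} [hp : Fact p.Prime] (hP : IsPGroup p P) :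
    ∃ H : Subgroup P, H.Characteristic ∧ Subgroup.centralizer (H : Set P) ≤ H ∧
      (∀ g : P, ∀ x ∈ H, ⁅g, x⁆ ∈ H ⊓ Subgroup.centralizer (H : Set P)) ∧
      (∀ x ∈ H, x ^ p ∈ H ⊓ Subgroup.centralizer (H : Set P)) := by
  obtain ⟨A, -, ⟨hAc, hAab⟩, hAmax⟩ := Finite.exists_le_maximal
    (p := fun A : Subgroup P => A.Characteristic ∧ ∀ a ∈ A, ∀ b ∈ A, a * b = b * a)
    (a := (⊥ : Subgroup P))
    ⟨inferInstance, fun a ha b hb => by simp [Subgroup.mem_bot.mp ha, Subgroup.mem_bot.mp hb]⟩
  let C := Subgroup.centralizer (A : Set P)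
  let H := criticalOver p A C
  have hmemC : ∀ (φ : P ≃* P) (x : P), x ∈ C → φ x ∈ C := fun φ x hx a ha => by
    have h1 : φ.symm a ∈ A := by
      have := (Subgroup.characteristic_iff_comap_eq.mp hAc φ.symm).ge ha
      exact this
    have := congrArg φ (hx _ h1)
    simpa using this
  have hH : H.Characteristic := by
    rw [Subgroup.characteristic_iff_le_comap]
    intro φ x hx
    obtain ⟨h1, h2, h3⟩ := hx
    refine ⟨hmemC φ x h1, fun g => ?_, ?_⟩
    · have h4 := (Subgroup.characteristic_iff_le_comap.mp hAc φ) (h2 (φ.symm g))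
      rw [Subgroup.mem_comap, map_commutatorElement] at h4
      simpa using h4
    · have h4 := (Subgroup.characteristic_iff_le_comap.mp hAc φ) h3
      rw [Subgroup.mem_comap, map_pow] at h4
      simpa using h4
  have hAH : A ≤ H := fun a ha =>
    ⟨fun b hb => hAab b hb a ha,
      fun g => A.mul_mem (Subgroup.Normal.conj_mem inferInstance a ha g) (A.inv_mem ha),
      A.pow_mem ha p⟩
  have hHC : H ≤ C := fun x hx => hx.1
  -- the centre of H is A
  let Z := H ⊓ Subgroup.centralizer (H : Set P)
  have hAZ : A ≤ Z := fun a ha => ⟨hAH ha, fun h hh => ((hHC hh) a ha).symm⟩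
  have hZ : Z.Characteristic := by
    rw [Subgroup.characteristic_iff_le_comap]
    intro φ x hx
    refine ⟨(Subgroup.characteristic_iff_le_comap.mp hH φ) hx.1, fun h hh => ?_⟩
    have h1 : φ.symm h ∈ H := (Subgroup.characteristic_iff_le_comap.mp hH φ.symm) hh
    simpa using congrArg φ (hx.2 _ h1)
  have hZA : Z = A := le_antisymm
    (hAmax ⟨hZ, fun a ha b hb => (ha.2 b hb.1).symm⟩ hAZ) hAZ
  refine ⟨H, hH, ?_, fun g x hx => ?_, fun x hx => ?_⟩
  rotate_left
  · exact hAZ (hx.2.1 g)
  · exact hAZ hx.2.2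
  · by_contra hle
    let Q := Subgroup.centralizer (H : Set P)
    have hQC : Q ≤ C := fun q hq a ha => hq a (hAH ha)
    have hQn : Q.Normal := inferInstance
    let π := QuotientGroup.mk' A
    have hQ' : Q.map π ≠ ⊥ := by
      intro e
      apply hle
      refine le_trans ?_ hAH
      rw [Subgroup.map_eq_bot_iff, QuotientGroup.ker_mk'] at e
      exact e
    have hne : Nontrivial ↥(Q.map π ⊓ Subgroup.center (P ⧸ A) : Subgroup (P ⧸ A)) := by
      haveI : (Q.map π).Normal := hQn.map π (QuotientGroup.mk'_surjective A)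
      haveI : Group.IsNilpotent (P ⧸ A) := (hP.to_quotient A).isNilpotent
      have h1 : Q.map π ⊓ Subgroup.center (P ⧸ A) ≠ ⊥ := by
        have h2 : ¬ p.Coprime (Nat.card (Q.map π)) := by
          have hc := IsPGroup.card_eq_or_dvd ((hP.to_quotient A).to_subgroup (Q.map π))
          rcases hc with hc | hc
          · exact absurd (Subgroup.card_eq_one.mp hc) hQ'
          · exact fun h => hp.out.ne_one (Nat.Coprime.eq_one_of_dvd h hc)
        have hconj : ∃ x ∈ Q.map π, x ≠ 1 ∧ ∀ g : P ⧸ A, g * x * g⁻¹ = x := by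
          let X : Type _ := ↥(Q.map π)
          letI : MulAction (ConjAct (P ⧸ A)) X := inferInstance
          have hfix := (hP.to_quotient A).of_equiv ConjAct.toConjAct
            |>.exists_fixed_point_of_prime_dvd_card_of_fixed_point X
              ((IsPGroup.card_eq_or_dvd ((hP.to_quotient A).to_subgroup (Q.map π))).resolve_left
                (fun hc => hQ' (Subgroup.card_eq_one.mp hc)))
              (a := (1 : X)) (fun g => by apply Subtype.ext; simp [ConjAct.smul_def])
          obtain ⟨b, hb, hb1⟩ := hfix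
          refine ⟨b, b.2, fun e => hb1 (Subtype.ext e.symm), fun g => ?_⟩
          have := congrArg Subtype.val (hb (ConjAct.toConjAct g))
          rwa [ConjAct.Subgroup.val_conj_smul, ConjAct.toConjAct_smul] at this
        obtain ⟨x, hxQ, hx1, hxc⟩ := hconj
        intro e
        have : x ∈ Q.map π ⊓ Subgroup.center (P ⧸ A) :=
          ⟨hxQ, Subgroup.mem_center_iff.mpr fun g => mul_inv_eq_iff_eq_mul.mp (hxc g)⟩
        rw [e, Subgroup.mem_bot] at this
        exact hx1 this
      exact (Subgroup.nontrivial_iff_ne_bot _).mpr h1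
    obtain ⟨z, hz⟩ := exists_prime_orderOf_dvd_card' p
      ((IsPGroup.card_eq_or_dvd ((hP.to_quotient A).to_subgroup
        (Q.map π ⊓ Subgroup.center (P ⧸ A)))).resolve_left (fun h => by
          have := Finite.one_lt_card_iff_nontrivial.mpr hne; omega))
    obtain ⟨⟨x, hxQ, hxz⟩, hzc⟩ := z.2
    have hzne : (z : P ⧸ A) ≠ 1 := fun e => hp.out.ne_one (by
      rw [← hz, show z = 1 from Subtype.ext e, orderOf_one])
    have hxH : x ∈ H := by
      refine ⟨hQC hxQ, fun g => ?_, ?_⟩
      · rw [← QuotientGroup.eq_one_iff, ← QuotientGroup.mk'_apply, map_commutatorElement,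
          commutatorElement_eq_one_iff_commute, hxz]
        exact Subgroup.mem_center_iff.mp hzc _
      · rw [← QuotientGroup.eq_one_iff, ← QuotientGroup.mk'_apply, map_pow, hxz, ← Subgroup.coe_pow,
          ← hz, pow_orderOf_eq_one, Subgroup.coe_one]
    have hxA : x ∈ A := hZA ▸ (⟨hxH, hxQ⟩ : x ∈ Z)
    exact hzne (by rw [← hxz]; exact (QuotientGroup.eq_one_iff x).mpr hxA)

end CfsgLib.PGroup
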