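import Cfsg.Prelude.Def_OddOrderLocal
import Cfsg.Agent.Lib.OddOrder41.SmallOmega

set_option autoImplicit false

/-! Huppert: for odd `p`, a `p`-group with at most `p ^ 2` cosets of the subgroup generated by the
`p`-th powers is metacyclic. -/

namespace CfsgLib.PGroup.Huppert

open Subgroup
open scoped commutatorElement
open CfsgLib.OddOrder41 (powClosure powClosure_normal)

variable {p : ℕ} [hp : Fact p.Prime]

theorem pow_mem_powClosure {R : Type*} [Group R] (x : R) : x ^ p ∈ powClosure p R :=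
  subset_closure ⟨x, rfl⟩

theorem powClosure_le_frattini {R : Type*} [Group R] [Finite R] (hR : IsPGroup p R) :
    powClosure p R ≤ frattini R :=
  (closure_le _).2 fun _ ⟨y, hy⟩ => hy ▸ CfsgLib.PGroup.pow_mem_frattini hR y

theorem powClosure_ne_top {R : Type*} [Group R] [Finite R] [Nontrivial R] (hR : IsPGroup p R) :
    powClosure p R ≠ ⊤ := fun h =>
  CfsgLib.PGroup.frattini_ne_top (eq_top_iff.2 (h ▸ powClosure_le_frattini hR))

theorem isCyclic_of_index_le {R : Type*} [Group R] [Finite R] (hR : IsPGroup p R)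
    (h : (powClosure p R).index ≤ p) : IsCyclic R := by
  rcases subsingleton_or_nontrivial R with hs | hs
  · infer_instance
  obtain ⟨g, hg⟩ : ∃ g, g ∉ frattini R := by
    by_contra hc
    push Not at hc
    exact CfsgLib.PGroup.frattini_ne_top (eq_top_iff.2 fun x _ => hc x)
  refine isCyclic_iff_exists_zpowers_eq_top.2 ⟨g, ?_⟩
  by_contra hne
  obtain ⟨M, hM, hgM⟩ := (eq_top_or_exists_le_coatom (zpowers g)).resolve_left hne
  have hfr : frattini R ≤ M := frattini_le_coatom hM
  have heq : frattini R = M := by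
    refine Subgroup.eq_of_le_of_card_ge hfr ?_
    have h1 := (frattini R).card_mul_index
    have h2 := M.card_mul_index
    rw [CfsgLib.PGroup.index_of_isCoatom hR hM] at h2
    have h3 : (frattini R).index ≤ p := le_trans (Nat.le_of_dvd
      (Nat.pos_of_ne_zero Subgroup.index_ne_zero_of_finite)
      (Subgroup.index_dvd_of_le (powClosure_le_frattini hR))) h
    rw [← h1] at h2
    by_contra hlt
    push Not at hlt
    have h4 : Nat.card (frattini R) * (frattini R).index ≤ Nat.card (frattini R) * p :=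
      Nat.mul_le_mul le_rfl h3
    have h5 : Nat.card (frattini R) * p < Nat.card M * p :=
      Nat.mul_lt_mul_of_pos_right hlt hp.out.pos
    omega
  exact hg (heq ▸ hgM (mem_zpowers g))

theorem powClosure_map_le {R S : Type*} [Group R] [Group S] (f : R →* S) :
    (powClosure p R).map f ≤ powClosure p S := by
  rw [map_le_iff_le_comap, powClosure, closure_le]
  rintro _ ⟨y, rfl⟩
  exact ⟨f y, (map_pow f y p).symm⟩ |> subset_closure

/-- A normal cyclic subgroup not inside the powers has cyclic quotient. -/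
theorem isMetacyclic_of_mem {R : Type*} [Group R] [Finite R] (hR : IsPGroup p R)
    (hidx : (powClosure p R).index ≤ p ^ 2) (g : R) (hg : g ∉ powClosure p R)
    (hc : commutator R ≤ zpowers g) : Cfsg.IsMetacyclic R := by
  haveI hn : (zpowers g).Normal := ⟨fun n hn x => by
    have h1 : ⁅x, n⁆ ∈ zpowers g := hc (commutator_mem_commutator (mem_top x) (mem_top n))
    have h2 : ⁅x, n⁆ * n = x * n * x⁻¹ := by rw [commutatorElement_def]; group
    exact h2 ▸ mul_mem h1 hn⟩
  refine ⟨zpowers g, hn, inferInstance, isCyclic_of_index_le (p := p) (hR.to_quotient _) ?_⟩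
  have hle : (powClosure p R ⊔ zpowers g).map (QuotientGroup.mk' (zpowers g))
      ≤ powClosure p (R ⧸ zpowers g) := by
    rw [Subgroup.map_sup, QuotientGroup.map_mk'_self, sup_bot_eq]
    exact powClosure_map_le _
  have h1 : (powClosure p (R ⧸ zpowers g)).index ∣
      ((powClosure p R ⊔ zpowers g).map (QuotientGroup.mk' (zpowers g))).index :=
    index_dvd_of_le hle
  rw [Subgroup.index_map, QuotientGroup.ker_mk', sup_assoc, sup_idem,
    (QuotientGroup.mk' (zpowers g)).range_eq_top.2 (QuotientGroup.mk'_surjective _),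
    Subgroup.index_top, mul_one] at h1
  have hlt : powClosure p R < powClosure p R ⊔ zpowers g :=
    lt_of_le_of_ne le_sup_left fun he => hg (he ▸ mem_sup_right (mem_zpowers g))
  have h2 := relIndex_mul_index hlt.le
  obtain ⟨k, hk⟩ := (hR.to_subgroup (powClosure p R ⊔ zpowers g)).index
    ((powClosure p R).subgroupOf (powClosure p R ⊔ zpowers g))
  have hk0 : k ≠ 0 := fun h0 => hlt.not_ge (relIndex_eq_one.1 (by rw [relIndex, hk, h0, pow_zero]))
  have h3 : p ≤ (powClosure p R).relIndex (powClosure p R ⊔ zpowers g) := by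
    rw [relIndex, hk]; exact Nat.le_self_pow hk0 p
  refine (Nat.le_of_dvd (Nat.pos_of_ne_zero Subgroup.index_ne_zero_of_finite) h1).trans ?_
  refine Nat.le_of_mul_le_mul_left ?_ hp.out.pos
  rw [← pow_two]
  exact (Nat.mul_le_mul h3 le_rfl).trans (h2 ▸ hidx)

/-- A nontrivial commutator subgroup of order at most `p` is generated by a power of a non-power. -/
theorem exists_root {R : Type*} [Group R] [Finite R] [Nontrivial R] (hp2 : p ≠ 2) (hR : IsPGroup p R)
    (hU : commutator R ≤ powClosure p R) (hD : Nat.card (commutator R) ≤ p) :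
    ∃ g : R, g ∉ powClosure p R ∧ commutator R ≤ zpowers g := by
  rcases eq_or_ne (commutator R) ⊥ with hbot | hbot
  · obtain ⟨g, hg⟩ : ∃ g, g ∉ powClosure p R := by
      by_contra hc
      push Not at hc
      exact powClosure_ne_top hR (eq_top_iff.2 fun x _ => hc x)
    exact ⟨g, hg, hbot.symm ▸ bot_le⟩
  haveI : Group.IsNilpotent R := hR.isNilpotent
  have hcard : Nat.card (commutator R) = p := by
    obtain ⟨k, hk⟩ := (hR.to_subgroup (commutator R)).exists_card_eq
    rcases Nat.eq_zero_or_pos k with rfl | hk0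
    · exact absurd (Subgroup.card_eq_one.1 (by simpa using hk)) hbot
    · exact le_antisymm hD (hk ▸ Nat.le_self_pow hk0.ne' p)
  have hcen : commutator R ≤ center R :=
    CfsgLib.OddOrder41.commutator_le_center_of_prime_card (hcard ▸ hp.out)
  have hexp : ∀ z ∈ commutator R, z ^ p = 1 := fun z hz => by
    apply orderOf_dvd_iff_pow_eq_one.mp
    rw [← hcard]; simpa using orderOf_dvd_natCard (⟨z, hz⟩ : commutator R)
  let π : R →* R := MonoidHom.mk' (fun x => x ^ p) fun x y =>
    CfsgLib.PGroup.mul_pow_odd_of_central (hp.out.odd_of_ne_two hp2)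
      (hcen (commutator_mem_commutator (mem_top y) (mem_top x)))
      (hexp _ (commutator_mem_commutator (mem_top y) (mem_top x)))
  obtain ⟨z, hz, hz1⟩ := (ne_bot_iff_exists_ne_one (H := commutator R)).1 hbot |>
    fun ⟨⟨z, hz⟩, h⟩ => (⟨z, hz, fun h1 => h (Subtype.ext h1)⟩ : ∃ z, z ∈ commutator R ∧ z ≠ 1)
  have hzg : commutator R ≤ zpowers z := by
    refine (eq_of_le_of_card_ge (zpowers_le.2 hz) ?_).ge
    rw [hcard, Nat.card_zpowers, orderOf_eq_prime (hexp z hz) hz1]
  obtain ⟨e, u, hu, hmax⟩ : ∃ (e : ℕ) (u : R), u ^ p ^ e = z ∧ ∀ v : R, v ^ p ^ (e + 1) ≠ z := by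
    by_contra hcon
    push Not at hcon
    have hall : ∀ e : ℕ, ∃ v : R, v ^ p ^ e = z := by
      intro e
      induction e with
      | zero => exact ⟨z, by simp⟩
      | succ e ih => obtain ⟨v, hv⟩ := ih; exact hcon e v hv
    obtain ⟨N, hN⟩ := hR.exists_card_eq
    obtain ⟨v, hv⟩ := hall N
    rw [← hN, pow_card_eq_one'] at hv
    exact hz1 hv.symm
  refine ⟨u, fun hmem => ?_, hzg.trans (zpowers_le.2 (hu ▸ pow_mem (mem_zpowers u) _))⟩
  have hle : powClosure p R ≤ π.range :=
    (closure_le _).2 fun _ ⟨y, hy⟩ => ⟨y, hy⟩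
  obtain ⟨v, hv⟩ := hle hmem
  refine hmax v ?_
  rw [pow_succ', pow_mul, show v ^ p = u from hv, hu]

theorem commutator_le_powClosure {R : Type*} [Group R] [Finite R] (hR : IsPGroup p R)
    (hidx : (powClosure p R).index ≤ p ^ 2) : commutator R ≤ powClosure p R := by
  haveI := powClosure_normal (R := R) p
  obtain ⟨k, hk⟩ := hR.index (powClosure p R)
  have hk2 : k ≤ 2 := (Nat.pow_le_pow_iff_right hp.out.one_lt).1 (hk ▸ hidx)
  haveI : IsMulCommutative (R ⧸ powClosure p R) := by
    have hc : Nat.card (R ⧸ powClosure p R) = p ^ k := by rw [← index_eq_card, hk]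
    rcases (show k = 0 ∨ k = 1 ∨ k = 2 by omega) with rfl | rfl | rfl
    · haveI := (Nat.card_eq_one_iff_unique.1 (hc.trans (pow_zero p))).1
      infer_instance
    · haveI := isCyclic_of_prime_card (hc.trans (pow_one p))
      infer_instance
    · exact IsPGroup.isMulCommutative_of_card_eq_prime_sq hc
  rw [commutator_def, commutator_le]
  intro x _ y _
  rw [← QuotientGroup.eq_one_iff, ← QuotientGroup.mk'_apply, map_commutatorElement,
    commutatorElement_eq_one_iff_commute]
  exact mul_comm' _ _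

theorem isMetacyclic_of_powClosure_index (hp2 : p ≠ 2) :
    ∀ (n : ℕ) (R : Type*) [Group R] [Finite R], Nat.card R = n → IsPGroup p R →
      (powClosure p R).index ≤ p ^ 2 → Cfsg.IsMetacyclic R := by
  intro n
  induction n using Nat.strong_induction_on with
  | _ n ih =>
  intro R _ _ hn hR hidx
  rcases subsingleton_or_nontrivial R with hs | hs
  · exact ⟨⊥, inferInstance, inferInstance, inferInstance⟩
  have hU := commutator_le_powClosure hR hidx
  rcases le_or_gt (Nat.card (commutator R)) p with hD | hD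
  · obtain ⟨g, hg, hcg⟩ := exists_root hp2 hR hU hD
    exact isMetacyclic_of_mem hR hidx g hg hcg
  have hbot : commutator R ≠ ⊥ := fun h => by
    rw [h, card_bot] at hD; exact absurd hp.out.one_lt (by omega)
  obtain ⟨Z, hZD, hZc, hZcard⟩ := CfsgLib.OddOrder41.exists_central_order_p hR _ hbot
  haveI : Z.Normal := ⟨fun z hz g => by rw [mem_center_iff.mp (hZc hz) g]; simpa using hz⟩
  have hlt : Nat.card (R ⧸ Z) < n := by
    rw [← hn, ← index_eq_card, ← Z.card_mul_index, hZcard]
    exact lt_mul_of_one_lt_left (Nat.pos_of_ne_zero Subgroup.index_ne_zero_of_finite) hp.out.one_lt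
  have hidx' : (powClosure p (R ⧸ Z)).index ≤ p ^ 2 := by
    refine (Nat.le_of_dvd (Nat.pos_of_ne_zero Subgroup.index_ne_zero_of_finite) ?_).trans hidx
    refine (index_dvd_of_le (powClosure_map_le (QuotientGroup.mk' Z))).trans ?_
    exact index_map_dvd _ (QuotientGroup.mk'_surjective Z)
  obtain ⟨N, hN, hNc, hNq⟩ := ih _ hlt (R ⧸ Z) rfl (hR.to_quotient Z) hidx'
  set q := QuotientGroup.mk' Z
  have hqs : Function.Surjective q := QuotientGroup.mk'_surjective Z
  set A := N.comap q with hA
  obtain ⟨⟨a', ha'⟩, hgena⟩ := hNc.exists_generator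
  obtain ⟨a, rfl⟩ := hqs a'
  have haA : a ∈ A := ha'
  -- every element of `A` is a power of `a` times a central element
  have hAd : ∀ x ∈ A, ∃ (i : ℤ) (z : R), z ∈ Z ∧ x = a ^ i * z := by
    intro x hx
    obtain ⟨i, hi⟩ := mem_zpowers_iff.1 (hgena ⟨q x, hx⟩)
    have hi' : q (a ^ i) = q x := by rw [map_zpow]; exact congrArg Subtype.val hi
    exact ⟨i, (a ^ i)⁻¹ * x, QuotientGroup.eq.1 hi', by group⟩
  have hAab : ∀ x ∈ A, ∀ y ∈ A, x * y = y * x := by
    intro x hx y hy
    obtain ⟨i, z, hz, rfl⟩ := hAd x hx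
    obtain ⟨j, w, hw, rfl⟩ := hAd y hy
    exact (((Commute.zpow_zpow_self a i j).mul_right (mem_center_iff.1 (hZc hw) _)).mul_left
      ((mem_center_iff.1 (hZc hz) _).symm)).eq
  obtain ⟨⟨b'⟩, hgenb⟩ := hNq.exists_generator
  obtain ⟨b, rfl⟩ := hqs b'
  -- every element is a power of `b` times an element of `A`
  have hRd : ∀ g : R, ∃ i : ℤ, (b ^ i)⁻¹ * g ∈ A := by
    intro g
    obtain ⟨i, hi⟩ := mem_zpowers_iff.1 (hgenb (QuotientGroup.mk (q g)))
    refine ⟨i, ?_⟩
    have hi' : (QuotientGroup.mk (q (b ^ i)) : (R ⧸ Z) ⧸ N) = QuotientGroup.mk (q g) := by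
      rw [map_zpow, QuotientGroup.mk_zpow]; exact hi
    have := QuotientGroup.eq.1 hi'
    show q ((b ^ i)⁻¹ * g) ∈ N
    rwa [map_mul, map_inv]
  have hAn : A.Normal := hN.comap q
  set w := b * a * b⁻¹ * a⁻¹ with hw
  have hwA : w ∈ A := mul_mem (hAn.conj_mem a haA b) (inv_mem haA)
  have hbA : ∀ x ∈ A, b * x * b⁻¹ * x⁻¹ ∈ zpowers w := by
    intro x hx
    let φ : A →* A := MonoidHom.mk'
      (fun x => ⟨b * x * b⁻¹ * (x : R)⁻¹, mul_mem (hAn.conj_mem _ x.2 b) (inv_mem x.2)⟩)
      fun x y => Subtype.ext (by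
        show b * ((x : R) * y) * b⁻¹ * ((x : R) * y)⁻¹ =
          b * x * b⁻¹ * (x : R)⁻¹ * (b * y * b⁻¹ * (y : R)⁻¹)
        have h := hAab _ (inv_mem x.2) _ (mul_mem (hAn.conj_mem _ y.2 b) (inv_mem y.2))
        calc b * ((x : R) * y) * b⁻¹ * ((x : R) * y)⁻¹
            = b * x * b⁻¹ * (b * y * b⁻¹ * (y : R)⁻¹ * (x : R)⁻¹) := by group
          _ = b * x * b⁻¹ * ((x : R)⁻¹ * (b * y * b⁻¹ * (y : R)⁻¹)) := by rw [h]
          _ = _ := by group)
    obtain ⟨i, z, hz, rfl⟩ := hAd x hx
    have hzA : z ∈ A := show q z ∈ N by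
      rw [show q z = 1 from (QuotientGroup.eq_one_iff z).2 hz]; exact one_mem _
    have h1 : φ (⟨a, haA⟩ ^ i * ⟨z, hzA⟩) = φ ⟨a, haA⟩ ^ i := by
      rw [map_mul, map_zpow]
      have : φ ⟨z, hzA⟩ = 1 := Subtype.ext (by
        show b * z * b⁻¹ * z⁻¹ = 1
        rw [mem_center_iff.1 (hZc hz) b]; group)
      rw [this, mul_one]
    have h2 : b * (a ^ i * z) * b⁻¹ * (a ^ i * z)⁻¹ = w ^ i := congrArg Subtype.val h1
    exact ⟨i, h2.symm⟩
  -- the subgroup generated by `w` is normal and contains the commutators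
  have hwn : (zpowers w).Normal := by
    have hcw : b * w * b⁻¹ ∈ zpowers w := by
      have := mul_mem (hbA w hwA) (mem_zpowers w)
      simpa [mul_assoc] using this
    have hb : b ∈ normalizer (zpowers w : Set R) := by
      rw [mem_normalizer_iff]
      have hle : (zpowers w).map (MulAut.conj b).toMonoidHom ≤ zpowers w := by
        rw [MonoidHom.map_zpowers]
        exact zpowers_le.2 hcw
      have heq := eq_of_le_of_card_ge hle
        (card_map_of_injective (MulAut.conj b).injective).ge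
      intro h
      constructor
      · intro hh
        exact heq.le ⟨h, hh, rfl⟩
      · intro hh
        obtain ⟨k, hk, hk'⟩ := heq.ge hh
        exact (MulAut.conj b).injective hk' ▸ hk
    have hAN : A ≤ normalizer (zpowers w : Set R) := fun x hx => by
      rw [mem_normalizer_iff]
      intro h
      constructor
      · intro hh
        rw [hAab x hx h (zpowers_le.2 hwA hh), mul_inv_cancel_right]
        exact hh
      · intro hh
        have := hAab x⁻¹ (inv_mem hx) _ (zpowers_le.2 hwA hh)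
        have h2 : h = x * h * x⁻¹ := by
          have : x⁻¹ * (x * h * x⁻¹) * x = x * h * x⁻¹ * x⁻¹ * x := by rw [this]
          simpa [mul_assoc] using this
        exact h2 ▸ hh
    refine ⟨fun n hn g => ?_⟩
    obtain ⟨i, hi⟩ := hRd g
    have : g ∈ normalizer (zpowers w : Set R) := by
      have := mul_mem (zpow_mem hb i) (hAN hi)
      rwa [mul_inv_cancel_left] at this
    exact (mem_normalizer_iff.1 this n).1 hn
  have hDw : commutator R ≤ zpowers w := by
    haveI := hwn
    rw [commutator_def, commutator_le]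
    intro x _ y _
    set π := QuotientGroup.mk' (zpowers w)
    have hab : ∀ u ∈ A, Commute (π b) (π u) := fun u hu => by
      rw [← commutatorElement_eq_one_iff_commute, ← map_commutatorElement]
      exact (QuotientGroup.eq_one_iff _).2 (by simpa [commutatorElement_def] using hbA u hu)
    obtain ⟨i, hi⟩ := hRd x
    obtain ⟨j, hj⟩ := hRd y
    have hc : Commute (π (b ^ i * ((b ^ i)⁻¹ * x))) (π (b ^ j * ((b ^ j)⁻¹ * y))) := by
      rw [map_mul π (b ^ i), map_mul π (b ^ j), map_zpow, map_zpow]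
      exact ((Commute.zpow_zpow_self _ i j).mul_right ((hab _ hj).zpow_left i)).mul_left
        (((hab _ hi).zpow_left j).symm.mul_right ((show Commute _ _ from hAab _ hi _ hj).map π))
    rw [mul_inv_cancel_left, mul_inv_cancel_left] at hc
    rw [← QuotientGroup.eq_one_iff, ← QuotientGroup.mk'_apply, map_commutatorElement,
      commutatorElement_eq_one_iff_commute]
    exact hc
  -- the central subgroup consists of `p`-th powers in `A`, so `A` is cyclic
  obtain ⟨z, hz, hz1⟩ : ∃ z, z ∈ Z ∧ z ≠ 1 := by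
    by_contra hc
    push Not at hc
    rw [(Subgroup.eq_bot_iff_forall Z).2 hc, card_bot] at hZcard
    exact hp.out.ne_one hZcard.symm
  have hzp : z ^ p = 1 := by
    apply orderOf_dvd_iff_pow_eq_one.mp
    rw [← hZcard]; simpa using orderOf_dvd_natCard (⟨z, hz⟩ : Z)
  obtain ⟨i, hi⟩ := mem_zpowers_iff.1 (hDw (hZD hz))
  have hwp : ¬ w ^ p = 1 := fun h => by
    have := (card_le_of_le hDw).trans_eq' rfl
    rw [Nat.card_zpowers] at this
    exact absurd (Nat.le_of_dvd hp.out.pos (orderOf_dvd_of_pow_eq_one h)) (by omega)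
  have hpi : (p : ℤ) ∣ i := by
    obtain ⟨k, hk⟩ := IsPGroup.iff_orderOf.mp hR w
    have hk2 : 2 ≤ k := by
      by_contra hlt
      apply hwp
      apply orderOf_dvd_iff_pow_eq_one.mp
      rw [hk]
      simpa using pow_dvd_pow p (show k ≤ 1 by omega)
    have h1 : w ^ (i * p) = 1 := by rw [zpow_mul, hi, zpow_natCast, hzp]
    have h2 : (orderOf w : ℤ) ∣ i * p := orderOf_dvd_iff_zpow_eq_one.2 h1
    have h3 : (p : ℤ) ^ 2 ∣ i * p := by
      refine dvd_trans ?_ h2
      rw [hk, Nat.cast_pow]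
      exact pow_dvd_pow _ hk2
    rw [pow_two] at h3
    exact Int.dvd_of_mul_dvd_mul_right (by exact_mod_cast hp.out.ne_zero) h3
  obtain ⟨i', rfl⟩ := hpi
  obtain ⟨l, y, hy, hly⟩ := hAd (w ^ i') (zpow_mem hwA _)
  have hza : z ∈ zpowers a := by
    have hyp : y ^ p = 1 := by
      apply orderOf_dvd_iff_pow_eq_one.mp
      rw [← hZcard]; simpa using orderOf_dvd_natCard (⟨y, hy⟩ : Z)
    refine ⟨l * p, ?_⟩
    show a ^ (l * (p : ℤ)) = z
    rw [← hi, mul_comm (p : ℤ) i', zpow_mul, zpow_mul, hly, zpow_natCast, zpow_natCast,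
      Commute.mul_pow (show Commute (a ^ l) y from mem_center_iff.1 (hZc hy) _), hyp, mul_one]
  have hZa : Z ≤ zpowers a := by
    have : zpowers z = Z := eq_of_le_of_card_ge (zpowers_le.2 hz)
      (by rw [hZcard, Nat.card_zpowers, orderOf_eq_prime hzp hz1])
    exact this ▸ zpowers_le.2 hza
  have hAeq : A = zpowers a := by
    refine le_antisymm (fun x hx => ?_) (zpowers_le.2 haA)
    obtain ⟨j, y, hy, rfl⟩ := hAd x hx
    exact mul_mem (zpow_mem (mem_zpowers a) j) (hZa hy)
  haveI := hN
  refine ⟨A, hAn, hAeq ▸ inferInstance, ?_⟩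
  haveI := hNq
  refine isCyclic_iff_exists_zpowers_eq_top.2 ⟨QuotientGroup.mk b, eq_top_iff.2 fun g _ => ?_⟩
  obtain ⟨g, rfl⟩ := QuotientGroup.mk_surjective g
  obtain ⟨i, hi⟩ := hRd g
  refine ⟨i, ?_⟩
  show (QuotientGroup.mk b : R ⧸ A) ^ i = _
  rw [← QuotientGroup.mk_zpow]
  exact QuotientGroup.eq.2 hi

end CfsgLib.PGroup.Huppert
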