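import Cfsg.Agent.Lib.PGroup.Extraspecial

/-!
# Isomorphism classification of extraspecial groups: gluing pairs through graphs
-/

namespace CfsgLib.ExtraIso

open Subgroup
open scoped commutatorElement

variable {p : ℕ} [hp : Fact p.Prime]

omit hp in
theorem card_sup_zpowers_le {G : Type*} [Group G] [Finite G] (N : Subgroup G) (a : G) (hp0 : 0 < p)
    (hn : a ∈ normalizer (N : Set G)) (hpow : a ^ p ∈ N) :
    Nat.card (zpowers a ⊔ N : Subgroup G) ≤ p * Nat.card N := by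
  have hle : (zpowers a ⊔ N : Subgroup G) ≤ normalizer (N : Set G) :=
    sup_le (zpowers_le.mpr hn) le_normalizer
  have hsub : (↑(zpowers a ⊔ N : Subgroup G) : Set G) ⊆
      Set.range (fun x : Fin p × N => a ^ (x.1 : ℕ) * (x.2 : G)) := by
    intro g hg
    rw [coe_mul_of_left_le_normalizer_right _ _ (zpowers_le.mpr hn)] at hg
    obtain ⟨u, hu, v, hv, rfl⟩ := hg
    obtain ⟨i, rfl⟩ := mem_zpowers_iff.mp hu
    have hlt : (i % (p : ℤ)).toNat < p := by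
      have := Int.emod_lt_of_pos i (by exact_mod_cast hp0 : (0 : ℤ) < p)
      have := Int.emod_nonneg i (by exact_mod_cast hp0.ne' : (p : ℤ) ≠ 0)
      omega
    refine ⟨(⟨_, hlt⟩, ⟨(a ^ p) ^ (i / (p : ℤ)) * v, N.mul_mem (N.zpow_mem hpow _) hv⟩), ?_⟩
    have e : ((i % (p : ℤ)).toNat : ℤ) = i % (p : ℤ) :=
      Int.toNat_of_nonneg (Int.emod_nonneg i (by exact_mod_cast hp0.ne'))
    simp only
    rw [← zpow_natCast a ((i % (p : ℤ)).toNat), e, ← mul_assoc, ← zpow_natCast a p, ← zpow_mul,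
      ← zpow_add, Int.emod_add_mul_ediv]
  calc Nat.card (zpowers a ⊔ N : Subgroup G)
      ≤ Nat.card (Set.range (fun x : Fin p × N => a ^ (x.1 : ℕ) * (x.2 : G))) :=
        Nat.card_mono (Set.toFinite _) hsub
    _ ≤ Nat.card (Fin p × N) := Finite.card_range_le _
    _ = p * Nat.card N := by rw [Nat.card_prod, Nat.card_fin]

/-- `H` contains `Z(E)` and its own centre is `Z(E)`. -/
def Good {E : Type*} [Group E] (H : Subgroup E) : Prop :=
  center E ≤ H ∧ ∀ h ∈ H, (∀ k ∈ H, k * h = h * k) → h ∈ center E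

theorem good_top {E : Type*} [Group E] : Good (⊤ : Subgroup E) :=
  ⟨le_top, fun _ _ hh => mem_center_iff.mpr fun g => hh g (mem_top g)⟩

variable {E₁ E₂ : Type*} [Group E₁] [Group E₂]

/-- An isomorphism `H₁ ≅ H₂` taking `z₁` to `z₂`, given by its graph. -/
def GraphIso (H₁ : Subgroup E₁) (H₂ : Subgroup E₂) (z₁ : E₁) (z₂ : E₂) : Prop :=
  ∃ Γ : Subgroup (E₁ × E₂), Γ.map (MonoidHom.fst E₁ E₂) = H₁ ∧ Γ.map (MonoidHom.snd E₁ E₂) = H₂ ∧
    Nat.card Γ = Nat.card H₁ ∧ Nat.card Γ = Nat.card H₂ ∧ (z₁, z₂) ∈ Γ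

variable [Finite E₁] [Finite E₂]

omit hp [Finite E₂] in
theorem bijective_comp_subtype {A : Type*} [Group A] (Γ : Subgroup E₁) (f : E₁ →* A)
    (hf : Γ.map f = ⊤) (hc : Nat.card Γ = Nat.card A) : Function.Bijective (f.comp Γ.subtype) := by
  have hs : Function.Surjective (f.comp Γ.subtype) := fun a => by
    obtain ⟨x, hx, rfl⟩ := hf.ge (mem_top a)
    exact ⟨⟨x, hx⟩, rfl⟩
  haveI : Finite A := Nat.finite_of_card_ne_zero (by rw [← hc]; exact Nat.card_pos.ne')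
  exact (Nat.bijective_iff_surjective_and_card _).mpr ⟨hs, hc⟩

omit hp in
theorem GraphIso.toMulEquiv {z₁ : E₁} {z₂ : E₂}
    (h : GraphIso (⊤ : Subgroup E₁) (⊤ : Subgroup E₂) z₁ z₂) : Nonempty (E₁ ≃* E₂) := by
  obtain ⟨Γ, h1, h2, hc1, hc2, -⟩ := h
  have b1 := bijective_comp_subtype Γ (MonoidHom.fst E₁ E₂) h1 (hc1.trans card_top)
  have b2 := bijective_comp_subtype Γ (MonoidHom.snd E₁ E₂) h2 (hc2.trans card_top)
  exact ⟨(MulEquiv.ofBijective _ b1).symm.trans (MulEquiv.ofBijective _ b2)⟩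

omit hp [Finite E₁] [Finite E₂] in
theorem GraphIso.symm {H₁ : Subgroup E₁} {H₂ : Subgroup E₂} {z₁ : E₁} {z₂ : E₂}
    (h : GraphIso H₁ H₂ z₁ z₂) : GraphIso H₂ H₁ z₂ z₁ := by
  obtain ⟨Γ, h1, h2, hc1, hc2, hz⟩ := h
  let e : E₁ × E₂ ≃* E₂ × E₁ := MulEquiv.prodComm
  refine ⟨Γ.map e.toMonoidHom, ?_, ?_, ?_, ?_, ⟨_, hz, rfl⟩⟩
  · rw [map_map, ← h2]; rfl
  · rw [map_map, ← h1]; rfl
  · rw [card_map_of_injective e.injective, hc2]
  · rw [card_map_of_injective e.injective, hc1]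

theorem graphIso_center (h₁ : Cfsg.IsExtraspecial p E₁) (h₂ : Cfsg.IsExtraspecial p E₂) {z₁ : E₁}
    {z₂ : E₂} (hz₁ : z₁ ∈ center E₁) (hz₁' : z₁ ≠ 1) (hz₂ : z₂ ∈ center E₂) (hz₂' : z₂ ≠ 1) :
    GraphIso (center E₁) (center E₂) z₁ z₂ := by
  have o₁ : orderOf z₁ = p :=
    orderOf_eq_prime (CfsgLib.PGroup.extraspecial_center_pow_eq_one h₁ hz₁) hz₁'
  have o₂ : orderOf z₂ = p :=
    orderOf_eq_prime (CfsgLib.PGroup.extraspecial_center_pow_eq_one h₂ hz₂) hz₂'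
  have hc : Nat.card (zpowers ((z₁, z₂) : E₁ × E₂)) = p := by
    rw [Nat.card_zpowers, Prod.orderOf, o₁, o₂, Nat.lcm_self]
  refine ⟨zpowers (z₁, z₂), ?_, ?_, by rw [hc, h₁.2], by rw [hc, h₂.2], mem_zpowers _⟩
  · rw [MonoidHom.map_zpowers, ← CfsgLib.PGroup.extraspecial_zpowers_eq_center h₁ hz₁ hz₁']; rfl
  · rw [MonoidHom.map_zpowers, ← CfsgLib.PGroup.extraspecial_zpowers_eq_center h₂ hz₂ hz₂']; rfl

/-- A pair `(x,y)` in `H` with `[x,y] = z` and its complement `C`. -/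
structure Split {E : Type*} [Group E] (p : ℕ) (H : Subgroup E) (z x y : E) (C : Subgroup E) : Prop where
  mem_x : x ∈ H
  mem_y : y ∈ H
  comm : ⁅x, y⁆ = z
  le : C ≤ H
  good : Good C
  comm_x : ∀ c ∈ C, x * c = c * x
  comm_y : ∀ c ∈ C, y * c = c * y
  card : Nat.card H = p ^ 2 * Nat.card C
  sup : zpowers x ⊔ (zpowers y ⊔ C) = H

theorem exists_split_of_pair {E : Type*} [Group E] [Finite E] (hE : Cfsg.IsExtraspecial p E)
    {H : Subgroup E} (hH : Good H) {z x y : E} (hz1 : z ≠ 1) (hx : x ∈ H) (hy : y ∈ H)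
    (hxy : ⁅x, y⁆ = z) : ∃ C, Split p H z x y C := by
  classical
  have hz : z ∈ center E := hxy ▸ CfsgLib.PGroup.extraspecial_comm_mem_center hE x y
  obtain ⟨C, hCH, hZC, hCx, hCy, hcard, hmem, hcen⟩ :=
    CfsgLib.PGroup.extraspecial_split hE H hH.2 hH.1 hx hy (hxy.symm ▸ hz1)
  refine ⟨C, hx, hy, hxy, hCH, ⟨hZC, hcen⟩, hCx, hCy, hcard, le_antisymm
    (sup_le (zpowers_le.mpr hx) (sup_le (zpowers_le.mpr hy) hCH)) fun h hh => ?_⟩
  have hcc := CfsgLib.PGroup.extraspecial_comm_mem_center hE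
  have hlin : ∀ u v w : E, ⁅u * v, w⁆ = ⁅u, w⁆ * ⁅v, w⁆ := fun u v w =>
    CfsgLib.PGroup.commutatorElement_mul_left_of_central u v w (hcc v w)
  obtain ⟨i, hi⟩ : ∃ i : ℕ, z ^ i = ⁅h, x⁆ := by
    have := hcc h x
    rw [← CfsgLib.PGroup.extraspecial_zpowers_eq_center hE hz hz1, mem_zpowers_iff_mem_range_orderOf] at this
    simp only [Finset.mem_image] at this
    obtain ⟨i, -, hi⟩ := this
    exact ⟨i, hi⟩
  obtain ⟨j, hj⟩ : ∃ j : ℕ, z⁻¹ ^ j = ⁅h, y⁆ := by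
    have := hcc h y
    rw [← CfsgLib.PGroup.extraspecial_zpowers_eq_center hE (inv_mem hz) (inv_ne_one.mpr hz1),
      mem_zpowers_iff_mem_range_orderOf] at this
    simp only [Finset.mem_image] at this
    obtain ⟨j, -, hj⟩ := this
    exact ⟨j, hj⟩
  obtain ⟨w, hw⟩ : ∃ w, w = h * x ^ j * y ^ i := ⟨_, rfl⟩
  have hwH : w ∈ H := hw ▸ H.mul_mem (H.mul_mem hh (H.pow_mem hx j)) (H.pow_mem hy i)
  have hyx : ⁅y, x⁆ = z⁻¹ := by rw [← hxy, commutatorElement_inv]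
  have hwx : ⁅w, x⁆ = 1 := by
    rw [hw, hlin, hlin, CfsgLib.PGroup.commutatorElement_pow_left_of_central (hcc x x),
      CfsgLib.PGroup.commutatorElement_pow_left_of_central (hcc y x), commutatorElement_self,
      one_pow, mul_one, hyx, inv_pow, ← hi, mul_inv_cancel]
  have hwy : ⁅w, y⁆ = 1 := by
    rw [hw, hlin, hlin, CfsgLib.PGroup.commutatorElement_pow_left_of_central (hcc x y),
      CfsgLib.PGroup.commutatorElement_pow_left_of_central (hcc y y), commutatorElement_self,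
      one_pow, mul_one, hxy, ← hj, inv_pow, inv_mul_cancel]
  have hwC : w ∈ C := hmem w hwH (commutatorElement_eq_one_iff_mul_comm.mp hwx).symm
    (commutatorElement_eq_one_iff_mul_comm.mp hwy).symm
  have : h = w * (y ^ i)⁻¹ * (x ^ j)⁻¹ := by rw [hw]; group
  rw [this]
  exact mul_mem (mem_sup_right (mul_mem (mem_sup_right hwC) (mem_sup_left (inv_mem (pow_mem (mem_zpowers y) i)))))
    (mem_sup_left (inv_mem (pow_mem (mem_zpowers x) j)))

/-- Extending a graph isomorphism over one pair. -/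
theorem GraphIso.extend {H₁ C₁ : Subgroup E₁} {H₂ C₂ : Subgroup E₂} {z₁ x₁ y₁ : E₁} {z₂ x₂ y₂ : E₂}
    (s₁ : Split p H₁ z₁ x₁ y₁ C₁) (s₂ : Split p H₂ z₂ x₂ y₂ C₂) (h : GraphIso C₁ C₂ z₁ z₂)
    (hx : ∀ Γ : Subgroup (E₁ × E₂), (z₁, z₂) ∈ Γ → (x₁ ^ p, x₂ ^ p) ∈ Γ)
    (hy : ∀ Γ : Subgroup (E₁ × E₂), (z₁, z₂) ∈ Γ → (y₁ ^ p, y₂ ^ p) ∈ Γ) :
    GraphIso H₁ H₂ z₁ z₂ := by
  obtain ⟨Γ, h1, h2, hc1, hc2, hz⟩ := h
  have hmem : ∀ g ∈ Γ, g.1 ∈ C₁ ∧ g.2 ∈ C₂ := fun g hg =>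
    ⟨h1 ▸ mem_map_of_mem (MonoidHom.fst E₁ E₂) hg, h2 ▸ mem_map_of_mem (MonoidHom.snd E₁ E₂) hg⟩
  have hA : ∀ g ∈ Γ, (x₁, x₂) * g = g * (x₁, x₂) := fun g hg =>
    Prod.ext (s₁.comm_x _ (hmem g hg).1) (s₂.comm_x _ (hmem g hg).2)
  have hB : ∀ g ∈ Γ, (y₁, y₂) * g = g * (y₁, y₂) := fun g hg =>
    Prod.ext (s₁.comm_y _ (hmem g hg).1) (s₂.comm_y _ (hmem g hg).2)
  have hnorm : ∀ (N : Subgroup (E₁ × E₂)) (a : E₁ × E₂), (∀ g ∈ N, a * g * a⁻¹ ∈ N) →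
      a ∈ normalizer (N : Set (E₁ × E₂)) := fun N a ha => by
    refine mem_set_normalizer_iff.mpr fun n => ⟨ha n, fun hn => ?_⟩
    have hfin : (N : Set (E₁ × E₂)).Finite := Set.toFinite _
    have hsurj : Set.SurjOn (fun g => a * g * a⁻¹) N N :=
      hfin.surjOn_iff_bijOn_of_mapsTo ha |>.mpr
        ((hfin.injOn_iff_bijOn_of_mapsTo ha).mp fun u _ v _ e => by simpa using e) |> fun h => h
    obtain ⟨m, hm, e⟩ := hsurj hn
    have : m = n := by simpa using e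
    exact this ▸ hm
  let N₁ := zpowers ((y₁, y₂) : E₁ × E₂) ⊔ Γ
  have hB' : ((y₁, y₂) : E₁ × E₂) ∈ normalizer (Γ : Set (E₁ × E₂)) :=
    hnorm Γ _ fun g hg => by rw [hB g hg, mul_inv_cancel_right]; exact hg
  have hA' : ((x₁, x₂) : E₁ × E₂) ∈ normalizer (N₁ : Set (E₁ × E₂)) := by
    refine hnorm N₁ _ fun g hg => ?_
    have hle : N₁.map (MulAut.conj ((x₁, x₂) : E₁ × E₂)).toMonoidHom ≤ N₁ := by
      refine map_le_iff_le_comap.mpr (sup_le (zpowers_le.mpr ?_) fun g hg => ?_)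
      · have e : MulAut.conj ((x₁, x₂) : E₁ × E₂) (y₁, y₂) = (z₁, z₂) * (y₁, y₂) := by
          simp [← s₁.comm, ← s₂.comm, commutatorElement_def]
        rw [mem_comap, MulEquiv.toMonoidHom_eq_coe, MonoidHom.coe_coe, e]
        exact mul_mem (mem_sup_right hz) (mem_sup_left (mem_zpowers _))
      · rw [mem_comap, MulEquiv.toMonoidHom_eq_coe, MonoidHom.coe_coe, MulAut.conj_apply, hA g hg,
          mul_inv_cancel_right]
        exact mem_sup_right hg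
    exact hle ⟨g, hg, rfl⟩
  have hp0 : 0 < p := hp.out.pos
  have hc : Nat.card (zpowers ((x₁, x₂) : E₁ × E₂) ⊔ N₁ : Subgroup (E₁ × E₂)) ≤ p ^ 2 * Nat.card Γ := by
    refine (card_sup_zpowers_le N₁ _ hp0 hA' (mem_sup_right (by simpa using hx Γ hz))).trans ?_
    rw [sq, mul_assoc]
    exact Nat.mul_le_mul_left p
      (card_sup_zpowers_le Γ _ hp0 hB' (by simpa using hy Γ hz))
  have m1 : (zpowers ((x₁, x₂) : E₁ × E₂) ⊔ N₁).map (MonoidHom.fst E₁ E₂) = H₁ := by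
    rw [Subgroup.map_sup, Subgroup.map_sup, MonoidHom.map_zpowers, MonoidHom.map_zpowers, h1]
    exact s₁.sup
  have m2 : (zpowers ((x₁, x₂) : E₁ × E₂) ⊔ N₁).map (MonoidHom.snd E₁ E₂) = H₂ := by
    rw [Subgroup.map_sup, Subgroup.map_sup, MonoidHom.map_zpowers, MonoidHom.map_zpowers, h2]
    exact s₂.sup
  refine ⟨_, m1, m2, le_antisymm (hc.trans (by rw [hc1, ← s₁.card])) ?_,
    le_antisymm (hc.trans (by rw [hc2, ← s₂.card])) ?_, mem_sup_right (mem_sup_right hz)⟩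
  · conv_lhs => rw [← m1]
    exact Nat.le_of_dvd Nat.card_pos (card_map_dvd _ _)
  · conv_lhs => rw [← m2]
    exact Nat.le_of_dvd Nat.card_pos (card_map_dvd _ _)

theorem eq_center_of_comm {E : Type*} [Group E] {H : Subgroup E} (hH : Good H)
    (h : ∀ a ∈ H, a ∈ center E) : H = center E :=
  le_antisymm h hH.1

theorem exists_pair {E : Type*} [Group E] [Finite E] (hE : Cfsg.IsExtraspecial p E)
    {H : Subgroup E} (hH : Good H) {z : E} (hz : z ∈ center E) (hz1 : z ≠ 1) {x : E} (hx : x ∈ H)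
    (hxc : x ∉ center E) : ∃ y ∈ H, ⁅x, y⁆ = z := by
  classical
  obtain ⟨k, hk, hk'⟩ : ∃ k ∈ H, k * x ≠ x * k := by
    by_contra hcon
    push Not at hcon
    exact hxc (hH.2 x hx hcon)
  have hne : ⁅x, k⁆ ≠ 1 := fun e => hk' (commutatorElement_eq_one_iff_mul_comm.mp e).symm
  rw [← CfsgLib.PGroup.extraspecial_zpowers_eq_center hE
    (CfsgLib.PGroup.extraspecial_comm_mem_center hE x k) hne,
    mem_zpowers_iff_mem_range_orderOf] at hz
  simp only [Finset.mem_image] at hz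
  obtain ⟨i, -, hi⟩ := hz
  exact ⟨k ^ i, H.pow_mem hk i, by
    rw [CfsgLib.PGroup.commutatorElement_pow_right_of_central
      (CfsgLib.PGroup.extraspecial_comm_mem_center hE x k), hi]⟩

theorem exists_split {E : Type*} [Group E] [Finite E] (hE : Cfsg.IsExtraspecial p E) {H : Subgroup E}
    (gH : Good H) (hlt : p < Nat.card H) {z : E} (hz : z ∈ center E) (hz1 : z ≠ 1) :
    ∃ x y C, Split p H z x y C := by
  obtain ⟨x, hx, hxc⟩ : ∃ x ∈ H, x ∉ center E := by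
    by_contra hcon
    push Not at hcon
    rw [eq_center_of_comm gH hcon, hE.2] at hlt
    exact lt_irrefl _ hlt
  obtain ⟨y, hy, hxy⟩ := exists_pair hE gH hz hz1 hx hxc
  exact ⟨x, y, exists_split_of_pair hE gH hz1 hx hy hxy⟩

theorem exists_center_ne_one {E : Type*} [Group E] [Finite E] (hE : Cfsg.IsExtraspecial p E) :
    ∃ z ∈ center E, z ≠ 1 := by
  haveI : Nontrivial (center E) :=
    Finite.one_lt_card_iff_nontrivial.mp (hE.2.symm ▸ hp.out.one_lt)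
  obtain ⟨z, hz⟩ := exists_ne (1 : center E)
  exact ⟨z, z.2, fun e => hz (Subtype.ext e)⟩

/-- Extraspecial groups of exponent `p`. -/
theorem graphIso_exponent (h₁ : Cfsg.IsExtraspecial p E₁) (h₂ : Cfsg.IsExtraspecial p E₂)
    (he₁ : ∀ x : E₁, x ^ p = 1) (he₂ : ∀ x : E₂, x ^ p = 1) {z₁ : E₁} {z₂ : E₂}
    (hz₁ : z₁ ∈ center E₁) (hz₁' : z₁ ≠ 1) (hz₂ : z₂ ∈ center E₂) (hz₂' : z₂ ≠ 1) :
    ∀ n, ∀ (H₁ : Subgroup E₁) (H₂ : Subgroup E₂), Good H₁ → Good H₂ → Nat.card H₁ = n →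
      Nat.card H₂ = n → GraphIso H₁ H₂ z₁ z₂ := by
  intro n
  induction n using Nat.strong_induction_on with
  | _ n ih =>
  intro H₁ H₂ g₁ g₂ c₁ c₂
  by_cases hn : n ≤ p
  · have e₁ : center E₁ = H₁ := eq_of_le_of_card_ge g₁.1 (by rw [c₁, h₁.2]; exact hn)
    have e₂ : center E₂ = H₂ := eq_of_le_of_card_ge g₂.1 (by rw [c₂, h₂.2]; exact hn)
    rw [← e₁, ← e₂]
    exact graphIso_center h₁ h₂ hz₁ hz₁' hz₂ hz₂'
  · replace hn := not_le.mp hn
    obtain ⟨x₁, y₁, C₁, s₁⟩ := exists_split h₁ g₁ (c₁ ▸ hn) hz₁ hz₁'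
    obtain ⟨x₂, y₂, C₂, s₂⟩ := exists_split h₂ g₂ (c₂ ▸ hn) hz₂ hz₂'
    have hC : Nat.card C₁ = Nat.card C₂ :=
      Nat.eq_of_mul_eq_mul_left (pow_pos hp.out.pos 2) (by rw [← s₁.card, ← s₂.card, c₁, c₂])
    have hlt : Nat.card C₁ < n := by
      rw [← c₁, s₁.card]
      exact lt_mul_of_one_lt_left Nat.card_pos (Nat.one_lt_pow two_ne_zero hp.out.one_lt)
    exact GraphIso.extend s₁ s₂ (ih _ hlt C₁ C₂ s₁.good s₂.good rfl hC.symm)
      (fun Γ _ => by rw [he₁, he₂]; exact one_mem Γ) (fun Γ _ => by rw [he₁, he₂]; exact one_mem Γ)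

theorem mulEquiv_of_exponent (h₁ : Cfsg.IsExtraspecial p E₁) (h₂ : Cfsg.IsExtraspecial p E₂)
    (he₁ : ∀ x : E₁, x ^ p = 1) (he₂ : ∀ x : E₂, x ^ p = 1) (hc : Nat.card E₁ = Nat.card E₂) :
    Nonempty (E₁ ≃* E₂) := by
  obtain ⟨z₁, hz₁, hz₁'⟩ := exists_center_ne_one h₁
  obtain ⟨z₂, hz₂, hz₂'⟩ := exists_center_ne_one h₂
  exact (graphIso_exponent h₁ h₂ he₁ he₂ hz₁ hz₁' hz₂ hz₂' _ ⊤ ⊤ good_top good_top rfl
    (by rw [card_top, card_top, hc])).toMulEquiv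

section Two

variable {E : Type*} [Group E] [Finite E]

/-- `σ` tells whether there is a non-central involution in the last factor. -/
def TwoSplit (H : Subgroup E) (z : E) (σ : Bool) : Prop :=
  ∃ x y C, Split 2 H z x y C ∧ x ^ 2 = (if σ then 1 else z) ∧ y ^ 2 = (if σ then 1 else z)

theorem twoSplit_of_card_lt (hE : Cfsg.IsExtraspecial 2 E) {H : Subgroup E} (hH : Good H)
    (h8 : 2 < Nat.card H) {z : E} (hz : z ∈ center E) (hz1 : z ≠ 1) :
    TwoSplit H z true ∨ (Nat.card H = 8 ∧ TwoSplit H z false) := by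
  classical
  have hcc := CfsgLib.PGroup.extraspecial_comm_mem_center hE
  have hsq : ∀ a : E, a ^ 2 = 1 ∨ a ^ 2 = z := by
    intro a
    have h1 := CfsgLib.PGroup.extraspecial_pow_mem_center hE a
    have h2 := CfsgLib.PGroup.extraspecial_center_pow_eq_one hE hz
    rw [← CfsgLib.PGroup.extraspecial_zpowers_eq_center hE hz hz1,
      mem_zpowers_iff_mem_range_orderOf, orderOf_eq_prime h2 hz1] at h1
    simp only [Finset.mem_image, Finset.mem_range] at h1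
    obtain ⟨i, hi, e⟩ := h1
    interval_cases i
    · exact Or.inl (by simpa using e.symm)
    · exact Or.inr (by simpa using e.symm)
  have hzz : z * z = 1 := by simpa [sq] using CfsgLib.PGroup.extraspecial_center_pow_eq_one hE hz
  have hmul : ∀ a b : E, (a * b) ^ 2 = a ^ 2 * b ^ 2 * ⁅b, a⁆ := fun a b => by
    rw [CfsgLib.PGroup.mul_pow_of_central (hcc b a)]; simp
  by_cases hinv : ∃ x ∈ H, x ∉ center E ∧ x ^ 2 = 1
  · left
    obtain ⟨x, hx, hxc, hx2⟩ := hinv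
    obtain ⟨y, hy, hxy⟩ := exists_pair hE hH hz hz1 hx hxc
    rcases hsq y with h | h
    · obtain ⟨C, s⟩ := exists_split_of_pair hE hH hz1 hx hy hxy
      exact ⟨x, y, C, s, by simpa using hx2, by simpa using h⟩
    · have hxy' : ⁅x, x * y⁆ = z := by
        rw [CfsgLib.PGroup.commutatorElement_mul_right_of_central _ _ _ (hcc x y),
          commutatorElement_self, one_mul, hxy]
      obtain ⟨C, s⟩ := exists_split_of_pair hE hH hz1 hx (H.mul_mem hx hy) hxy'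
      refine ⟨x, x * y, C, s, by simpa using hx2, ?_⟩
      rw [hmul, hx2, h, ← commutatorElement_inv x y, hxy]
      simp
  · push Not at hinv
    obtain ⟨x, hx, hxc⟩ : ∃ x ∈ H, x ∉ center E := by
      by_contra hcon
      push Not at hcon
      rw [eq_center_of_comm hH hcon, hE.2] at h8
      exact lt_irrefl _ h8
    obtain ⟨y, hy, hxy⟩ := exists_pair hE hH hz hz1 hx hxc
    obtain ⟨C, s⟩ := exists_split_of_pair hE hH hz1 hx hy hxy
    have hx2 : x ^ 2 = z := (hsq x).resolve_left (hinv x hx hxc)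
    have hyc : y ∉ center E := fun h => hz1 (by
      rw [← hxy, commutatorElement_eq_one_iff_mul_comm]; exact mem_center_iff.mp h x)
    have hy2 : y ^ 2 = z := (hsq y).resolve_left (hinv y hy hyc)
    right
    refine ⟨?_, x, y, C, s, by simpa using hx2, by simpa using hy2⟩
    have hCZ : C = center E := by
      refine eq_center_of_comm s.good fun c hc => ?_
      by_contra hcc'
      have h1 : (x * c) ^ 2 = 1 := by
        rw [hmul, hx2, (hsq c).resolve_left (hinv c (s.le hc) hcc'),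
          commutatorElement_eq_one_iff_mul_comm.mpr (s.comm_x c hc).symm, hzz, mul_one]
      refine hinv (x * c) (H.mul_mem hx (s.le hc)) (fun h2 => ?_) h1
      have h3 := mem_center_iff.mp h2 y
      apply hz1
      rw [← hxy, commutatorElement_eq_one_iff_mul_comm]
      have h4 : y * c = c * y := s.comm_y c hc
      have : y * x * c = x * y * c := by
        calc y * x * c = x * c * y := by rw [mul_assoc]; exact h3
          _ = x * y * c := by rw [mul_assoc x c, ← h4, ← mul_assoc]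
      exact (mul_right_cancel this).symm
    rw [s.card, hCZ, hE.2]; norm_num

theorem twoSplit_eight (hE : Cfsg.IsExtraspecial 2 E) {H : Subgroup E} (hH : Good H)
    (h8 : Nat.card H = 8) {z : E} (hz : z ∈ center E) (hz1 : z ≠ 1) :
    ∃ (σ : Bool) (x y : E), Split 2 H z x y (center E) ∧ x ^ 2 = (if σ then 1 else z) ∧
      y ^ 2 = (if σ then 1 else z) := by
  obtain ⟨x, y, C, s, a, b⟩ | ⟨-, x, y, C, s, a, b⟩ :=
    twoSplit_of_card_lt hE hH (by omega) hz hz1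
  all_goals
    have hC : center E = C := eq_of_le_of_card_ge s.good.1 (by
      rw [hE.2]; have := s.card; omega)
    rw [← hC] at s
    exact ⟨_, x, y, s, a, b⟩

theorem pow_pair_mem {A B : Type*} [Group A] [Group B] (σ : Bool) (zA : A) (zB : B) (a : A) (b : B)
    (ha : a ^ 2 = (if σ then 1 else zA)) (hb : b ^ 2 = (if σ then 1 else zB))
    (Γ : Subgroup (A × B)) (hΓ : (zA, zB) ∈ Γ) : (a ^ 2, b ^ 2) ∈ Γ := by
  rw [ha, hb]
  cases σ
  · simpa using hΓ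
  · exact one_mem Γ

variable {E₃ : Type*} [Group E₃] [Finite E₃]

theorem graphIso_two (h₁ : Cfsg.IsExtraspecial 2 E₁) (h₂ : Cfsg.IsExtraspecial 2 E₂)
    (h₃ : Cfsg.IsExtraspecial 2 E₃) {z₁ : E₁} {z₂ : E₂} {z₃ : E₃}
    (hz₁ : z₁ ∈ center E₁) (hz₁' : z₁ ≠ 1) (hz₂ : z₂ ∈ center E₂) (hz₂' : z₂ ≠ 1)
    (hz₃ : z₃ ∈ center E₃) (hz₃' : z₃ ≠ 1) :
    ∀ n, ∀ (H₁ : Subgroup E₁) (H₂ : Subgroup E₂) (H₃ : Subgroup E₃), Good H₁ → Good H₂ → Good H₃ →
      Nat.card H₁ = n → Nat.card H₂ = n → Nat.card H₃ = n →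
      GraphIso H₁ H₂ z₁ z₂ ∨ GraphIso H₂ H₃ z₂ z₃ ∨ GraphIso H₁ H₃ z₁ z₃ := by
  intro n
  induction n using Nat.strong_induction_on with
  | _ n ih =>
  intro H₁ H₂ H₃ g₁ g₂ g₃ c₁ c₂ c₃
  haveI := Fact.mk Nat.prime_two
  by_cases hn : n ≤ 2
  · have e₁ : center E₁ = H₁ := eq_of_le_of_card_ge g₁.1 (by rw [c₁, h₁.2]; exact hn)
    have e₂ : center E₂ = H₂ := eq_of_le_of_card_ge g₂.1 (by rw [c₂, h₂.2]; exact hn)
    rw [← e₁, ← e₂]
    exact Or.inl (graphIso_center h₁ h₂ hz₁ hz₁' hz₂ hz₂')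
  push Not at hn
  by_cases hn8 : n = 8
  · obtain ⟨σ₁, x₁, y₁, s₁, a₁, b₁⟩ := twoSplit_eight h₁ g₁ (c₁.trans hn8) hz₁ hz₁'
    obtain ⟨σ₂, x₂, y₂, s₂, a₂, b₂⟩ := twoSplit_eight h₂ g₂ (c₂.trans hn8) hz₂ hz₂'
    obtain ⟨σ₃, x₃, y₃, s₃, a₃, b₃⟩ := twoSplit_eight h₃ g₃ (c₃.trans hn8) hz₃ hz₃'
    rcases (by cases σ₁ <;> cases σ₂ <;> cases σ₃ <;> simp : σ₁ = σ₂ ∨ σ₂ = σ₃ ∨ σ₁ = σ₃) with e | e | e
    · subst e
      exact Or.inl (GraphIso.extend s₁ s₂ (graphIso_center h₁ h₂ hz₁ hz₁' hz₂ hz₂')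
        (pow_pair_mem _ _ _ _ _ a₁ a₂) (pow_pair_mem _ _ _ _ _ b₁ b₂))
    · subst e
      exact Or.inr (Or.inl (GraphIso.extend s₂ s₃ (graphIso_center h₂ h₃ hz₂ hz₂' hz₃ hz₃')
        (pow_pair_mem _ _ _ _ _ a₂ a₃) (pow_pair_mem _ _ _ _ _ b₂ b₃)))
    · subst e
      exact Or.inr (Or.inr (GraphIso.extend s₁ s₃ (graphIso_center h₁ h₃ hz₁ hz₁' hz₃ hz₃')
        (pow_pair_mem _ _ _ _ _ a₁ a₃) (pow_pair_mem _ _ _ _ _ b₁ b₃)))
  · obtain ⟨x₁, y₁, C₁, s₁, a₁, b₁⟩ := (twoSplit_of_card_lt h₁ g₁ (by omega) hz₁ hz₁').resolve_right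
      fun h => hn8 (c₁ ▸ h.1)
    obtain ⟨x₂, y₂, C₂, s₂, a₂, b₂⟩ := (twoSplit_of_card_lt h₂ g₂ (by omega) hz₂ hz₂').resolve_right
      fun h => hn8 (c₂ ▸ h.1)
    obtain ⟨x₃, y₃, C₃, s₃, a₃, b₃⟩ := (twoSplit_of_card_lt h₃ g₃ (by omega) hz₃ hz₃').resolve_right
      fun h => hn8 (c₃ ▸ h.1)
    have d₁ := s₁.card
    have d₂ := s₂.card
    have d₃ := s₃.card
    have hpos : 0 < Nat.card C₁ := Nat.card_pos
    obtain h | h | h := ih (Nat.card C₁) (by omega) C₁ C₂ C₃ s₁.good s₂.good s₃.good rfl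
      (by omega) (by omega)
    · exact Or.inl (GraphIso.extend s₁ s₂ h (pow_pair_mem _ _ _ _ _ a₁ a₂) (pow_pair_mem _ _ _ _ _ b₁ b₂))
    · exact Or.inr (Or.inl (GraphIso.extend s₂ s₃ h (pow_pair_mem _ _ _ _ _ a₂ a₃) (pow_pair_mem _ _ _ _ _ b₂ b₃)))
    · exact Or.inr (Or.inr (GraphIso.extend s₁ s₃ h (pow_pair_mem _ _ _ _ _ a₁ a₃) (pow_pair_mem _ _ _ _ _ b₁ b₃)))

end Two

end CfsgLib.ExtraIso
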