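import Mathlib
import Cfsg.Prelude.Def_Transfer
import Cfsg.Agent.Lib.PGroup.Class2
import Cfsg.Agent.Lib.PGroup.Frattini

/-!
# Extraspecial groups
-/

open scoped commutatorElement

namespace CfsgLib.PGroup

universe u

variable {p : ℕ} [hp : Fact p.Prime] {P : Type u} [Group P] [Finite P]

omit hp [Finite P] in
theorem extraspecial_comm_mem_center (hE : Cfsg.IsExtraspecial p P) (x y : P) :
    ⁅x, y⁆ ∈ Subgroup.center P := by
  rw [← hE.1.2.2]
  exact Subgroup.commutator_mem_commutator (Subgroup.mem_top x) (Subgroup.mem_top y)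

theorem extraspecial_pow_mem_center (hE : Cfsg.IsExtraspecial p P) (x : P) :
    x ^ p ∈ Subgroup.center P := by
  rw [← hE.1.2.1]
  exact pow_mem_frattini hE.1.1 x

omit [Finite P] in
theorem extraspecial_center_pow_eq_one (hE : Cfsg.IsExtraspecial p P) {z : P}
    (hz : z ∈ Subgroup.center P) : z ^ p = 1 := by
  have h : (⟨z, hz⟩ : Subgroup.center P) ^ Nat.card (Subgroup.center P) = 1 := pow_card_eq_one'
  rw [hE.2] at h
  exact congrArg Subtype.val h

omit [Finite P] in
theorem extraspecial_comm_pow_eq_one (hE : Cfsg.IsExtraspecial p P) (x y : P) : ⁅x, y⁆ ^ p = 1 :=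
  extraspecial_center_pow_eq_one hE (extraspecial_comm_mem_center hE x y)

theorem extraspecial_pow_sq_eq_one (hE : Cfsg.IsExtraspecial p P) (x : P) : x ^ p ^ 2 = 1 := by
  rw [sq, pow_mul]
  exact extraspecial_center_pow_eq_one hE (extraspecial_pow_mem_center hE x)

omit [Finite P] in
theorem extraspecial_nontrivial (hE : Cfsg.IsExtraspecial p P) : Nontrivial P := by
  rcases subsingleton_or_nontrivial P with h | h
  · exact absurd (by rw [← hE.2]; exact Nat.card_eq_one_iff_unique.mpr ⟨inferInstance, inferInstance⟩ :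
      p = 1) hp.out.ne_one
  · exact h

theorem extraspecial_center_ne_top (hE : Cfsg.IsExtraspecial p P) : Subgroup.center P ≠ ⊤ := by
  have := extraspecial_nontrivial hE
  rw [← hE.1.2.1]
  exact frattini_ne_top

theorem extraspecial_not_isMulCommutative (hE : Cfsg.IsExtraspecial p P) : ¬ IsMulCommutative P :=
  fun h => extraspecial_center_ne_top hE (eq_top_iff.mpr fun x _ =>
    Subgroup.mem_center_iff.mpr fun g => isMulCommutative_iff.mp h g x)

omit [Finite P] in
/-- A subgroup of order `p` inside the centre that meets it nontrivially is the centre. -/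
theorem extraspecial_zpowers_eq_center (hE : Cfsg.IsExtraspecial p P) {z : P}
    (hz : z ∈ Subgroup.center P) (hz1 : z ≠ 1) : Subgroup.zpowers z = Subgroup.center P := by
  haveI : Finite (Subgroup.center P) :=
    Nat.finite_of_card_ne_zero (by rw [hE.2]; exact hp.out.ne_zero)
  refine Subgroup.eq_of_le_of_card_ge (by simpa using hz) ?_
  rw [hE.2, Nat.card_zpowers, orderOf_eq_prime (extraspecial_center_pow_eq_one hE hz) hz1]

theorem extraspecial_center_le_of_normal (hE : Cfsg.IsExtraspecial p P) (N : Subgroup P) [N.Normal]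
    (hN : N ≠ ⊥) : Subgroup.center P ≤ N := by
  obtain ⟨x, hx, hx1⟩ := N.ne_bot_iff_exists_ne_one.mp hN |>.elim fun a ha =>
    (⟨a.1, a.2, fun e => ha (Subtype.ext e)⟩ : ∃ x, x ∈ N ∧ x ≠ 1)
  by_cases hc : x ∈ Subgroup.center P
  · rw [← extraspecial_zpowers_eq_center hE hc hx1]; simpa using hx
  · obtain ⟨g, hg⟩ := not_forall.mp (fun h => hc (Subgroup.mem_center_iff.mpr h))
    have h1 : ⁅g, x⁆ ≠ 1 := fun e => hg (commutatorElement_eq_one_iff_mul_comm.mp e)
    rw [← extraspecial_zpowers_eq_center hE (extraspecial_comm_mem_center hE g x) h1]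
    refine Subgroup.zpowers_le.mpr ?_
    rw [commutatorElement_def]
    exact N.mul_mem (Subgroup.Normal.conj_mem inferInstance x hx g) (N.inv_mem hx)

omit [Finite P] in
/-- The map `h ↦ (⁅h,x⁆, ⁅h,y⁆)` in an extraspecial group. -/
def commPairHom (hE : Cfsg.IsExtraspecial p P) (H : Subgroup P) (x y : P) :
    H →* Subgroup.center P × Subgroup.center P where
  toFun h := (⟨⁅(h : P), x⁆, extraspecial_comm_mem_center hE _ _⟩,
    ⟨⁅(h : P), y⁆, extraspecial_comm_mem_center hE _ _⟩)
  map_one' := by ext <;> simp [commutatorElement_def]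
  map_mul' a b := by
    ext <;>
      simp [commutatorElement_mul_left_of_central _ _ _ (extraspecial_comm_mem_center hE _ _)]

/-- Peeling off a noncommuting pair from a subgroup with centre equal to `Z(P)`. -/
theorem extraspecial_split (hE : Cfsg.IsExtraspecial p P) (H : Subgroup P)
    (hcen : ∀ h ∈ H, (∀ k ∈ H, k * h = h * k) → h ∈ Subgroup.center P) (hZ : Subgroup.center P ≤ H)
    {x y : P} (hx : x ∈ H) (hy : y ∈ H) (hxy : ⁅x, y⁆ ≠ 1) :
    ∃ C : Subgroup P, C ≤ H ∧ Subgroup.center P ≤ C ∧ (∀ c ∈ C, x * c = c * x) ∧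
      (∀ c ∈ C, y * c = c * y) ∧ Nat.card H = p ^ 2 * Nat.card C ∧
      (∀ h ∈ H, x * h = h * x → y * h = h * y → h ∈ C) ∧
      (∀ c ∈ C, (∀ d ∈ C, d * c = c * d) → c ∈ Subgroup.center P) := by
  classical
  let f := commPairHom hE H x y
  let C : Subgroup P := f.ker.map H.subtype
  have hmem : ∀ c, c ∈ C ↔ c ∈ H ∧ ⁅c, x⁆ = 1 ∧ ⁅c, y⁆ = 1 := by
    intro c
    constructor
    · rintro ⟨k, hk, rfl⟩
      rw [SetLike.mem_coe, MonoidHom.mem_ker] at hk
      exact ⟨k.2, congrArg Subtype.val (congrArg Prod.fst hk), congrArg Subtype.val (congrArg Prod.snd hk)⟩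
    · rintro ⟨hc, h1, h2⟩
      exact ⟨⟨c, hc⟩, Prod.ext (Subtype.ext h1) (Subtype.ext h2), rfl⟩
  have hZC : Subgroup.center P ≤ C := fun z hz => (hmem z).mpr
    ⟨hZ hz, commutatorElement_eq_one_iff_mul_comm.mpr (Subgroup.mem_center_iff.mp hz x).symm,
      commutatorElement_eq_one_iff_mul_comm.mpr (Subgroup.mem_center_iff.mp hz y).symm⟩
  have hgen : Subgroup.zpowers ⁅x, y⁆ = Subgroup.center P :=
    extraspecial_zpowers_eq_center hE (extraspecial_comm_mem_center hE _ _) hxy
  have hinv : ⁅y, x⁆ = ⁅x, y⁆⁻¹ := (commutatorElement_inv x y).symm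
  have hsurj : f.range = ⊤ := by
    rw [eq_top_iff]
    rintro ⟨⟨a, ha⟩, ⟨b, hb⟩⟩ -
    rw [← hgen, Subgroup.mem_zpowers_iff] at ha hb
    obtain ⟨i, rfl⟩ := ha
    obtain ⟨j, rfl⟩ := hb
    refine ⟨(⟨y, hy⟩ : H) ^ (-i) * (⟨x, hx⟩ : H) ^ j, ?_⟩
    rw [map_mul, map_zpow, map_zpow]
    ext
    · simp only [f, commPairHom, MonoidHom.coe_mk, OneHom.coe_mk, Prod.fst_mul, Prod.pow_fst, Subgroup.coe_mul, Subgroup.coe_zpow, Prod.fst_inv, Subgroup.coe_inv, hinv, commutatorElement_self, one_zpow, mul_one, zpow_neg, inv_zpow, inv_inv]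
    · simp [f, commPairHom]
  have hcard : Nat.card H = p ^ 2 * Nat.card C := by
    rw [Subgroup.card_map_of_injective H.subtype_injective, Subgroup.card_eq_card_quotient_mul_card_subgroup f.ker,
      Nat.card_congr (QuotientGroup.quotientKerEquivRange f).toEquiv, hsurj, Subgroup.card_top,
      Nat.card_prod, hE.2, sq]
  refine ⟨C, fun c hc => ((hmem c).mp hc).1, hZC,
    fun c hc => (commutatorElement_eq_one_iff_mul_comm.mp ((hmem c).mp hc).2.1).symm,
    fun c hc => (commutatorElement_eq_one_iff_mul_comm.mp ((hmem c).mp hc).2.2).symm, hcard,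
    fun h hh h1 h2 => (hmem h).mpr ⟨hh, commutatorElement_eq_one_iff_mul_comm.mpr h1.symm,
      commutatorElement_eq_one_iff_mul_comm.mpr h2.symm⟩, fun c hc hcc => ?_⟩
  obtain ⟨hcH, hcx, hcy⟩ := (hmem c).mp hc
  refine hcen c hcH fun k hk => ?_
  -- adjust k by an element of ⟨x, y⟩ into C
  have hkt : f ⟨k, hk⟩ ∈ f.range := ⟨_, rfl⟩
  have hall : ∃ w : H, (w : P) * c = c * w ∧ f w = f ⟨k, hk⟩ := by
    obtain ⟨⟨a, ha⟩, ⟨b, hb⟩⟩ := f ⟨k, hk⟩
    rw [← hgen, Subgroup.mem_zpowers_iff] at ha hb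
    obtain ⟨i, rfl⟩ := ha
    obtain ⟨j, rfl⟩ := hb
    refine ⟨(⟨y, hy⟩ : H) ^ (-i) * (⟨x, hx⟩ : H) ^ j, ?_, ?_⟩
    · have hX : Commute x c := (commutatorElement_eq_one_iff_mul_comm.mp hcx).symm
      have hY : Commute y c := (commutatorElement_eq_one_iff_mul_comm.mp hcy).symm
      simpa using ((hY.zpow_left (-i)).mul_left (hX.zpow_left j)).eq
    · rw [map_mul, map_zpow, map_zpow]
      ext
      · simp only [f, commPairHom, MonoidHom.coe_mk, OneHom.coe_mk, Prod.fst_mul, Prod.pow_fst, Subgroup.coe_mul, Subgroup.coe_zpow, Prod.fst_inv, Subgroup.coe_inv, hinv, commutatorElement_self, one_zpow, mul_one, zpow_neg, inv_zpow, inv_inv]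
      · simp [f, commPairHom]
  obtain ⟨w, hwc, hw⟩ := hall
  have hker : w⁻¹ * ⟨k, hk⟩ ∈ f.ker := by rw [MonoidHom.mem_ker, map_mul, map_inv, hw, inv_mul_cancel]
  have hd := hcc _ ⟨_, hker, rfl⟩
  have hwc' : Commute (w : P) c := hwc
  have hd' : Commute ((w : P)⁻¹ * k) c := by simpa [Commute, SemiconjBy] using hd
  simpa using (hwc'.mul_left hd').eq

/-- Order and abelian subgroup bound, relative version. -/
theorem extraspecial_subgroup_card (hE : Cfsg.IsExtraspecial p P) : ∀ (H : Subgroup P),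
    (∀ h ∈ H, (∀ k ∈ H, k * h = h * k) → h ∈ Subgroup.center P) → Subgroup.center P ≤ H →
    (∃ n, Nat.card H = p ^ (1 + 2 * n)) ∧
      ∀ A : Subgroup P, A ≤ H → (∀ a ∈ A, ∀ b ∈ A, a * b = b * a) →
        Nat.card A * Nat.card A ≤ p * Nat.card H := by
  intro H
  induction H using WellFoundedLT.induction with
  | _ H ih =>
    intro hcen hZ
    by_cases hle : H ≤ Subgroup.center P
    · have : H = Subgroup.center P := le_antisymm hle hZ
      subst this
      refine ⟨⟨0, by simpa using hE.2⟩, fun A hA _ => ?_⟩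
      have := Subgroup.card_le_of_le hA
      rw [hE.2] at this ⊢
      exact Nat.mul_le_mul this this
    -- the reduction step for a given non-central x
    have step : ∀ x ∈ H, x ∉ Subgroup.center P → ∃ y ∈ H, ⁅x, y⁆ ≠ 1 := by
      intro x hx hxc
      by_contra h
      push Not at h
      exact hxc (hcen x hx fun k hk => (commutatorElement_eq_one_iff_mul_comm.mp (h k hk)).symm)
    have smaller : ∀ C : Subgroup P, C ≤ H → Nat.card H = p ^ 2 * Nat.card C → C < H := by
      intro C hC hcard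
      refine lt_of_le_of_ne hC fun e => ?_
      subst e
      have h1 : 1 < p ^ 2 := Nat.one_lt_pow two_ne_zero hp.out.one_lt
      have h2 : 0 < Nat.card C := Nat.card_pos
      nlinarith
    constructor
    · obtain ⟨x, hx, hxc⟩ := SetLike.not_le_iff_exists.mp hle
      obtain ⟨y, hy, hxy⟩ := step x hx hxc
      obtain ⟨C, hCH, hZC, -, -, hcard, -, hcenC⟩ := extraspecial_split hE H hcen hZ hx hy hxy
      obtain ⟨⟨n, hn⟩, -⟩ := ih C (smaller C hCH hcard) hcenC hZC
      exact ⟨n + 1, by rw [hcard, hn, ← pow_add]; ring_nf⟩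
    · intro A hA hcomm
      by_cases hAle : A ≤ Subgroup.center P
      · have h1 := Subgroup.card_le_of_le hAle
        have h2 := Subgroup.card_le_of_le hZ
        rw [hE.2] at h1 h2
        exact Nat.mul_le_mul h1 (h1.trans h2)
      obtain ⟨x, hxA, hxc⟩ := SetLike.not_le_iff_exists.mp hAle
      obtain ⟨y, hy, hxy⟩ := step x (hA hxA) hxc
      obtain ⟨C, hCH, hZC, -, -, hcard, hmemC, hcenC⟩ :=
        extraspecial_split hE H hcen hZ (hA hxA) hy hxy
      obtain ⟨-, hb⟩ := ih C (smaller C hCH hcard) hcenC hZC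
      have hbound := hb (A ⊓ C) inf_le_right (fun a ha b hb => hcomm a ha.1 b hb.1)
      -- index of A ⊓ C in A is at most p
      let g : A →* Subgroup.center P :=
        { toFun := fun a => ⟨⁅(a : P), y⁆, extraspecial_comm_mem_center hE _ _⟩
          map_one' := by ext; simp [commutatorElement_def]
          map_mul' := fun a b => by
            ext
            simp [commutatorElement_mul_left_of_central _ _ _ (extraspecial_comm_mem_center hE _ _)] }
      have hkle : Nat.card g.ker ≤ Nat.card (A ⊓ C : Subgroup P) := by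
        rw [← Subgroup.card_map_of_injective A.subtype_injective]
        refine Subgroup.card_le_of_le ?_
        rintro a ⟨b, hb, rfl⟩
        refine ⟨b.2, hmemC _ (hA b.2) (hcomm x hxA b b.2) ?_⟩
        exact (commutatorElement_eq_one_iff_mul_comm.mp (congrArg Subtype.val hb)).symm
      have hg : Nat.card A ≤ p * Nat.card (A ⊓ C : Subgroup P) := by
        rw [Subgroup.card_eq_card_quotient_mul_card_subgroup g.ker,
          Nat.card_congr (QuotientGroup.quotientKerEquivRange g).toEquiv]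
        exact Nat.mul_le_mul ((Subgroup.card_le_card_group g.range).trans_eq hE.2) hkle
      calc Nat.card A * Nat.card A
          ≤ (p * Nat.card (A ⊓ C : Subgroup P)) * (p * Nat.card (A ⊓ C : Subgroup P)) :=
            Nat.mul_le_mul hg hg
        _ = p ^ 2 * (Nat.card (A ⊓ C : Subgroup P) * Nat.card (A ⊓ C : Subgroup P)) := by ring
        _ ≤ p ^ 2 * (p * Nat.card C) := Nat.mul_le_mul le_rfl hbound
        _ = p * Nat.card H := by rw [hcard]; ring

/-- An extraspecial group has order `p^(1+2n)` with `n ≥ 1`. -/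
theorem extraspecial_card (hE : Cfsg.IsExtraspecial p P) :
    ∃ n, 1 ≤ n ∧ Nat.card P = p ^ (1 + 2 * n) := by
  obtain ⟨n, hn⟩ := (extraspecial_subgroup_card hE ⊤
    (fun h _ hh => Subgroup.mem_center_iff.mpr fun g => hh g (Subgroup.mem_top g)) le_top).1
  rw [Subgroup.card_top] at hn
  refine ⟨n, Nat.one_le_iff_ne_zero.mpr ?_, hn⟩
  rintro rfl
  apply extraspecial_center_ne_top hE
  exact Subgroup.eq_top_of_card_eq _ (by rw [hE.2, hn]; simp)

/-- An abelian subgroup `A` of an extraspecial group satisfies `|A|² ≤ p |P|`. -/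
theorem extraspecial_abelian_card (hE : Cfsg.IsExtraspecial p P) (A : Subgroup P)
    (hA : IsMulCommutative A) : Nat.card A * Nat.card A ≤ p * Nat.card P := by
  have h := (extraspecial_subgroup_card hE ⊤
    (fun h _ hh => Subgroup.mem_center_iff.mpr fun g => hh g (Subgroup.mem_top g)) le_top).2 A le_top
    (fun a ha b hb => congrArg Subtype.val (isMulCommutative_iff.mp hA ⟨a, ha⟩ ⟨b, hb⟩))
  rwa [Subgroup.card_top] at h

end CfsgLib.PGroup
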