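import Mathlib
import Cfsg.Prelude.Def_Transfer
import Cfsg.Agent.Lib.PGroup.Frattini
import Cfsg.Agent.Lib.Large.PlusType

/-! Models of the extraspecial 2-groups of both types, and their 2-ranks. -/

set_option autoImplicit false

open scoped commutatorElement

namespace CfsgLib.ExtraModel

variable {n : ℕ}

/-- The underlying vector space: `n` pairs of bits. -/
abbrev Vec (n : ℕ) := Fin n → ZMod 2 × ZMod 2

/-- The bilinear form on one pair. -/
def pairB (e : ZMod 2) (a b : ZMod 2 × ZMod 2) : ZMod 2 :=
  a.1 * b.2 + e * (a.1 * b.1 + a.2 * b.2)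

/-- The bilinear form on all pairs. -/
def beta (ε : Fin n → ZMod 2) (x y : Vec n) : ZMod 2 := ∑ i, pairB (ε i) (x i) (y i)

theorem pairB_add_left (e : ZMod 2) (a a' b : ZMod 2 × ZMod 2) :
    pairB e (a + a') b = pairB e a b + pairB e a' b := by
  simp only [pairB, Prod.fst_add, Prod.snd_add]; ring

theorem pairB_add_right (e : ZMod 2) (a b b' : ZMod 2 × ZMod 2) :
    pairB e a (b + b') = pairB e a b + pairB e a b' := by
  simp only [pairB, Prod.fst_add, Prod.snd_add]; ring

theorem beta_add_left (ε : Fin n → ZMod 2) (x x' y : Vec n) :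
    beta ε (x + x') y = beta ε x y + beta ε x' y := by
  simp only [beta, ← Finset.sum_add_distrib, Pi.add_apply, pairB_add_left]

theorem beta_add_right (ε : Fin n → ZMod 2) (x y y' : Vec n) :
    beta ε x (y + y') = beta ε x y + beta ε x y' := by
  simp only [beta, ← Finset.sum_add_distrib, Pi.add_apply, pairB_add_right]

@[simp] theorem beta_zero_left (ε : Fin n → ZMod 2) (y : Vec n) : beta ε 0 y = 0 := by
  simp [beta, pairB]

@[simp] theorem beta_zero_right (ε : Fin n → ZMod 2) (y : Vec n) : beta ε y 0 = 0 := by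
  simp [beta, pairB]

/-- The central extension of `Vec n` by a bit with the cocycle `beta ε`. -/
@[ext] structure Ext (ε : Fin n → ZMod 2) where
  /-- the vector part -/
  vec : Vec n
  /-- the central part -/
  bit : ZMod 2

variable {ε : Fin n → ZMod 2}

theorem add_self' (x : Vec n) : x + x = 0 := by
  funext i
  exact Prod.ext (CharTwo.add_self_eq_zero _) (CharTwo.add_self_eq_zero _)

instance : Group (Ext ε) where
  mul a b := ⟨a.vec + b.vec, a.bit + b.bit + beta ε a.vec b.vec⟩
  one := ⟨0, 0⟩
  inv a := ⟨a.vec, a.bit + beta ε a.vec a.vec⟩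
  mul_assoc a b c := Ext.ext (add_assoc _ _ _) (by
    show a.bit + b.bit + beta ε a.vec b.vec + c.bit + beta ε (a.vec + b.vec) c.vec =
      a.bit + (b.bit + c.bit + beta ε b.vec c.vec) + beta ε a.vec (b.vec + c.vec)
    rw [beta_add_left, beta_add_right]; ring)
  one_mul a := Ext.ext (zero_add _) (by
    show 0 + a.bit + beta ε 0 a.vec = a.bit
    simp)
  mul_one a := Ext.ext (add_zero _) (by
    show a.bit + 0 + beta ε a.vec 0 = a.bit
    simp)
  inv_mul_cancel a := Ext.ext (add_self' _) (by
    show a.bit + beta ε a.vec a.vec + a.bit + beta ε a.vec a.vec = 0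
    ring_nf
    simp [show (2 : ZMod 2) = 0 from rfl])

theorem mul_vec (a b : Ext ε) : (a * b).vec = a.vec + b.vec := rfl

theorem mul_bit (a b : Ext ε) : (a * b).bit = a.bit + b.bit + beta ε a.vec b.vec := rfl

theorem one_def : (1 : Ext ε) = ⟨0, 0⟩ := rfl

/-- The model as a set. -/
def equivProd : Ext ε ≃ Vec n × ZMod 2 where
  toFun a := (a.vec, a.bit)
  invFun p := ⟨p.1, p.2⟩
  left_inv _ := rfl
  right_inv _ := rfl

instance : Finite (Ext ε) := Finite.of_equiv _ equivProd.symm

theorem card_vec : Nat.card (Vec n) = 2 ^ (2 * n) := by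
  rw [Nat.card_fun, Nat.card_prod, Nat.card_zmod, Nat.card_fin, pow_mul]
  norm_num

theorem card_ext : Nat.card (Ext ε) = 2 ^ (2 * n + 1) := by
  rw [Nat.card_congr equivProd, Nat.card_prod, card_vec, Nat.card_zmod, pow_succ]

theorem sq_eq (a : Ext ε) : a ^ 2 = ⟨0, beta ε a.vec a.vec⟩ := by
  rw [pow_two]
  exact Ext.ext (add_self' _) (by rw [mul_bit, CharTwo.add_self_eq_zero, zero_add])

theorem four_eq_one (a : Ext ε) : a ^ 4 = 1 := by
  rw [show 4 = 2 * 2 from rfl, pow_mul, sq_eq a, sq_eq]
  simp [one_def]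

theorem isPGroup : IsPGroup 2 (Ext ε) := fun a => ⟨2, four_eq_one a⟩

theorem mem_center_iff {a : Ext ε} : a ∈ Subgroup.center (Ext ε) ↔ a.vec = 0 := by
  classical
  rw [Subgroup.mem_center_iff]
  constructor
  · intro h
    funext i
    have key : ∀ (e : ZMod 2) (p : ZMod 2 × ZMod 2), pairB e (1, 0) p = pairB e p (1, 0) →
        pairB e (0, 1) p = pairB e p (0, 1) → p = 0 := by decide
    have single : ∀ r : ZMod 2 × ZMod 2, pairB (ε i) r (a.vec i) = pairB (ε i) (a.vec i) r := by
      intro r
      have h2 := congrArg Ext.bit (h ⟨Pi.single i r, 0⟩)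
      rw [mul_bit, mul_bit, add_comm (0 : ZMod 2), add_zero, add_left_cancel_iff] at h2
      rw [beta, beta, Finset.sum_eq_single i (fun j _ hj => by simp [hj, pairB])
        (fun hi => absurd (Finset.mem_univ i) hi), Finset.sum_eq_single i
        (fun j _ hj => by simp [hj, pairB]) (fun hi => absurd (Finset.mem_univ i) hi)] at h2
      dsimp only at h2
      rwa [show (Pi.single i r : Vec n) i = r from Pi.single_eq_same _ _] at h2
    exact key _ _ (single _) (single _)
  · intro h b
    exact Ext.ext (by rw [mul_vec, mul_vec, add_comm]) (by rw [mul_bit, mul_bit, h]; simp [add_comm])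

theorem center_cases {a : Ext ε} (ha : a ∈ Subgroup.center (Ext ε)) :
    a = 1 ∨ a = ⟨0, 1⟩ := by
  have h := mem_center_iff.1 ha
  have key : ∀ t : ZMod 2, t = 0 ∨ t = 1 := by decide
  rcases key a.bit with k | k
  · exact Or.inl (Ext.ext h k)
  · exact Or.inr (Ext.ext h k)

theorem card_center : Nat.card (Subgroup.center (Ext ε)) = 2 := by
  rw [Nat.card_congr (⟨fun a => a.1.bit, fun t => ⟨⟨0, t⟩, mem_center_iff.2 rfl⟩,
    fun a => Subtype.ext (Ext.ext (mem_center_iff.1 a.2).symm rfl), fun t => rfl⟩ :
    Subgroup.center (Ext ε) ≃ ZMod 2), Nat.card_zmod]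

theorem commutator_eq (hn : 1 ≤ n) : commutator (Ext ε) = Subgroup.center (Ext ε) := by
  classical
  apply le_antisymm
  · rw [commutator_def, Subgroup.commutator_le]
    intro a _ b _
    rw [mem_center_iff, commutatorElement_def, mul_vec, mul_vec, mul_vec]
    show a.vec + b.vec + a.vec + b.vec = 0
    rw [add_assoc (a.vec + b.vec), add_self']
  · intro a ha
    rcases center_cases ha with rfl | rfl
    · exact one_mem _
    · let i : Fin n := ⟨0, hn⟩
      let e : Ext ε := ⟨Pi.single i (1, 0), 0⟩
      let f : Ext ε := ⟨Pi.single i (0, 1), 0⟩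
      have hm : ⁅e, f⁆ ∈ commutator (Ext ε) :=
        Subgroup.commutator_mem_commutator (Subgroup.mem_top e) (Subgroup.mem_top f)
      have hne : ⁅e, f⁆ ≠ 1 := by
        rw [ne_eq, commutatorElement_eq_one_iff_mul_comm]
        intro h
        have h2 := congrArg Ext.bit h
        simp only [mul_bit, e, f, beta] at h2
        rw [Finset.sum_eq_single i (fun j _ hj => by simp [hj, pairB])
          (fun hi => absurd (Finset.mem_univ i) hi), Finset.sum_eq_single i
          (fun j _ hj => by simp [hj, pairB]) (fun hi => absurd (Finset.mem_univ i) hi)] at h2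
        simp [pairB] at h2
      have hc : ⁅e, f⁆ ∈ Subgroup.center (Ext ε) := by
        rw [mem_center_iff, commutatorElement_def, mul_vec, mul_vec, mul_vec]
        show e.vec + f.vec + e.vec + f.vec = 0
        rw [add_assoc (e.vec + f.vec), add_self']
      rcases center_cases hc with h | h
      · exact absurd h hne
      · rwa [h] at hm

theorem isExtraspecial (hn : 1 ≤ n) : Cfsg.IsExtraspecial 2 (Ext ε) := by
  haveI := Fact.mk Nat.prime_two
  refine ⟨⟨isPGroup, le_antisymm ?_ ?_, commutator_eq hn⟩, card_center⟩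
  · refine PGroup.frattini_le_of (p := 2) _ (commutator_eq hn).le fun x => ?_
    rw [mem_center_iff, sq_eq]
  · rw [← commutator_eq hn]
    exact PGroup.commutator_le_frattini isPGroup

/-- The embedding of a totally singular part. -/
def part (g : Fin n → Bool) (hε : ∀ i, g i = true → ε i = 0) :
    Multiplicative ((Fin n → ZMod 2) × ZMod 2) →* Ext ε where
  toFun p := ⟨fun i => if g i then ((Multiplicative.toAdd p).1 i, 0) else 0, (Multiplicative.toAdd p).2⟩
  map_one' := Ext.ext (funext fun i => by
    show (if g i then ((0 : ZMod 2), (0 : ZMod 2)) else 0) = 0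
    split <;> rfl) rfl
  map_mul' p q := Ext.ext (funext fun i => by
    show (if g i then ((Multiplicative.toAdd p).1 i + (Multiplicative.toAdd q).1 i, (0 : ZMod 2)) else 0) = _
    rw [mul_vec, Pi.add_apply]
    dsimp only
    split <;> simp) (by
    rw [mul_bit]
    dsimp only
    have : beta ε (fun i => if g i then ((Multiplicative.toAdd p).1 i, 0) else 0)
        (fun i => if g i then ((Multiplicative.toAdd q).1 i, 0) else 0) = 0 := by
      refine Finset.sum_eq_zero fun i _ => ?_
      by_cases hg : g i = true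
      · simp [hg, pairB, hε i hg]
      · simp [hg, pairB]
    rw [this, add_zero]
    rfl)

theorem elementaryAbelian_range {M : Type*} [CommGroup M] (hM : ∀ m : M, m ^ 2 = 1) {G : Type}
    [Group G] (f : M →* G) : Cfsg.IsElementaryAbelian 2 f.range := by
  refine ⟨⟨⟨?_⟩⟩, ?_⟩
  · rintro ⟨_, a, rfl⟩ ⟨_, b, rfl⟩
    exact Subtype.ext (by show f a * f b = f b * f a; rw [← map_mul, mul_comm, map_mul])
  · rintro _ ⟨a, rfl⟩
    rw [← map_pow, hM, map_one]

/-- The sign of a bit. -/
def sgn (t : ZMod 2) : ℤ := if t = 0 then 1 else -1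

theorem sgn_add : ∀ a b : ZMod 2, sgn (a + b) = sgn a * sgn b := by decide

theorem sum_sgn_beta : ∑ x : Vec n, sgn (beta ε x x) = ∏ i, (if ε i = 0 then (2 : ℤ) else -2) := by
  have h1 : ∀ x : Vec n, sgn (beta ε x x) = ∏ i, sgn (pairB (ε i) (x i) (x i)) := fun x => by
    rw [beta]
    induction (Finset.univ : Finset (Fin n)) using Finset.induction_on with
    | empty => simp [sgn]
    | insert a s ha ih => rw [Finset.sum_insert ha, Finset.prod_insert ha, sgn_add, ih]
  simp_rw [h1]
  rw [← Fintype.prod_sum (fun i (p : ZMod 2 × ZMod 2) => sgn (pairB (ε i) p p))]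
  have key : ∀ e : ZMod 2, (∑ p : ZMod 2 × ZMod 2, sgn (pairB e p p)) = if e = 0 then (2 : ℤ) else -2 := by
    decide
  simp_rw [key]

theorem card_orderOf_four :
    (Nat.card {a : Ext ε // orderOf a = 4} : ℤ) =
      2 ^ (2 * n) - ∏ i, (if ε i = 0 then (2 : ℤ) else -2) := by
  classical
  have hiff : ∀ a : Ext ε, orderOf a = 4 ↔ beta ε a.vec a.vec = 1 := by
    intro a
    constructor
    · intro h
      have h2 : a ^ 2 ≠ 1 := pow_ne_one_of_lt_orderOf two_ne_zero (by omega)
      rw [sq_eq, one_def] at h2
      have key : ∀ t : ZMod 2, t = 0 ∨ t = 1 := by decide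
      exact (key _).resolve_left fun k => h2 (by rw [k])
    · intro h
      haveI := Fact.mk Nat.prime_two
      refine orderOf_eq_prime_pow (p := 2) (n := 1) ?_ (four_eq_one a)
      rw [pow_one, sq_eq, h, one_def]
      intro e
      exact one_ne_zero (congrArg Ext.bit e)
  rw [Nat.card_congr (⟨fun a => (⟨a.1.vec, (hiff a.1).1 a.2⟩, a.1.bit),
    fun p => ⟨⟨p.1.1, p.2⟩, (hiff _).2 p.1.2⟩, fun a => rfl, fun p => rfl⟩ :
    {a : Ext ε // orderOf a = 4} ≃ {x : Vec n // beta ε x x = 1} × ZMod 2),
    Nat.card_prod, Nat.card_zmod, Nat.card_eq_fintype_card, Fintype.card_subtype]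
  have h0 : ∀ x : Vec n, sgn (beta ε x x) = 1 - 2 * (if beta ε x x = 1 then 1 else 0) := fun x => by
    have key : ∀ t : ZMod 2, sgn t = 1 - 2 * (if t = 1 then 1 else 0) := by decide
    exact key _
  have hs := sum_sgn_beta (ε := ε)
  simp_rw [h0] at hs
  rw [Finset.sum_sub_distrib, ← Finset.mul_sum, Finset.sum_boole, Finset.sum_const, Finset.card_univ,
    ← Nat.card_eq_fintype_card, card_vec, nsmul_one] at hs
  push_cast at hs ⊢
  linarith

theorem rank_models (hn : 1 ≤ n) : ∀ r ∈ ({n, n + 1} : Set ℕ), ∃ (E : Type) (_ : Group E) (_ : Finite E),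
    Cfsg.IsExtraspecial 2 E ∧ Nat.card E = 2 ^ (2 * n + 1) ∧
      sSup {k : ℕ | ∃ A : Subgroup E, Cfsg.IsElementaryAbelian 2 A ∧ Nat.card A = 2 ^ k} = r := by
  haveI := Fact.mk Nat.prime_two
  have hexp : ∀ {m : ℕ} (p : Multiplicative ((Fin m → ZMod 2) × ZMod 2)), p ^ 2 = 1 := fun p => by
    rw [pow_two]
    exact Multiplicative.toAdd.injective (Prod.ext (funext fun i => CharTwo.add_self_eq_zero _)
      (CharTwo.add_self_eq_zero _))
  have hup : ∀ (ε : Fin n → ZMod 2) (A : Subgroup (Ext ε)), Cfsg.IsElementaryAbelian 2 A →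
      ∀ k, Nat.card A = 2 ^ k → k ≤ n + 1 := by
    intro ε A hA k hk
    have h := PGroup.extraspecial_abelian_card (isExtraspecial hn) A hA.1
    rw [card_ext, hk, ← pow_add, ← pow_succ'] at h
    have := (Nat.pow_le_pow_iff_right (by norm_num : 1 < 2)).1 h
    omega
  rintro r (rfl | rfl)
  · -- minus type
    obtain ⟨m, rfl⟩ : ∃ m, r = m + 1 := ⟨r - 1, by omega⟩
    let ε : Fin (m + 1) → ZMod 2 := Fin.cons 1 0
    refine ⟨Ext ε, inferInstance, inferInstance, isExtraspecial hn, card_ext, IsGreatest.csSup_eq ⟨?_, ?_⟩⟩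
    · let sh : Multiplicative ((Fin m → ZMod 2) × ZMod 2) →*
          Multiplicative ((Fin (m + 1) → ZMod 2) × ZMod 2) :=
        AddMonoidHom.toMultiplicative
          { toFun := fun p => (Fin.cons 0 p.1, p.2)
            map_zero' := Prod.ext (funext fun i => by cases i using Fin.cases <;> simp) rfl
            map_add' := fun p q => Prod.ext
              (funext fun i => by cases i using Fin.cases <;> simp) rfl }
      let g : Fin (m + 1) → Bool := fun i => decide (i ≠ 0)
      have hg : ∀ i, g i = true → ε i = 0 := by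
        intro i hi
        cases i using Fin.cases with
        | zero => simp [g] at hi
        | succ j => simp [ε]
      refine ⟨((part g hg).comp sh).range, elementaryAbelian_range hexp _, ?_⟩
      have hinj : Function.Injective ((part g hg).comp sh) := by
        intro p q h
        apply Multiplicative.toAdd.injective
        refine Prod.ext (funext fun j => ?_) (congrArg Ext.bit h)
        have := congrArg (fun a : Ext ε => (a.vec j.succ).1) h
        simpa [part, sh, g] using this
      rw [← Nat.card_congr (MonoidHom.ofInjective hinj).toEquiv, Nat.card_congr Multiplicative.toAdd,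
        Nat.card_prod, Nat.card_fun, Nat.card_zmod, Nat.card_fin, pow_succ]
    · rintro k ⟨A, hA, hk⟩
      have h1 := hup ε A hA k hk
      by_contra hlt
      have hkn : k = m + 1 + 1 := by omega
      have h4 := CfsgLib.Large.PlusType.card_orderOf_four (m + 1) (isExtraspecial hn) card_ext A hA
        (by rw [hk, hkn])
      have h5 := card_orderOf_four (ε := ε)
      rw [Fin.prod_univ_succ] at h5
      simp only [ε, Fin.cons_zero, one_ne_zero, if_false, Fin.cons_succ, Pi.zero_apply, if_true,
        Finset.prod_const, Finset.card_univ, Fintype.card_fin] at h5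
      rw [h4, Nat.cast_sub (Nat.pow_le_pow_right (by norm_num) (by omega))] at h5
      push_cast at h5
      rw [pow_succ (2 : ℤ) m] at h5
      have : (0 : ℤ) < 2 ^ m := by positivity
      linarith
  · -- plus type
    let ε : Fin n → ZMod 2 := 0
    refine ⟨Ext ε, inferInstance, inferInstance, isExtraspecial hn, card_ext, IsGreatest.csSup_eq ⟨?_, ?_⟩⟩
    · refine ⟨(part (ε := ε) (fun _ => true) (fun _ _ => rfl)).range, elementaryAbelian_range hexp _, ?_⟩
      have hinj : Function.Injective (part (ε := ε) (fun _ => true) (fun _ _ => rfl)) := by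
        intro p q h
        apply Multiplicative.toAdd.injective
        refine Prod.ext (funext fun j => ?_) (congrArg Ext.bit h)
        have := congrArg (fun a : Ext ε => (a.vec j).1) h
        simpa [part] using this
      rw [← Nat.card_congr (MonoidHom.ofInjective hinj).toEquiv, Nat.card_congr Multiplicative.toAdd,
        Nat.card_prod, Nat.card_fun, Nat.card_zmod, Nat.card_fin, pow_succ]
    · rintro k ⟨A, hA, hk⟩
      exact hup ε A hA k hk

end CfsgLib.ExtraModel
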