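import Cfsg.Agent.S0519
import Cfsg.Agent.Lib.OddOrder.Rank
import Cfsg.Agent.Lib.PLocal5.PGroupBasic

/-!
# A `p`-group of rank at least three has a normal elementary abelian subgroup of order `p ^ 2`
-/

set_option autoImplicit false

namespace CfsgLib.PGroup39

open Subgroup

variable {P : Type*} [Group P] [Finite P] {p : ℕ} [hp : Fact p.Prime]

/-- A group with a cyclic subgroup of index two has 2-rank at most two. -/
theorem pRankLE_two_of_cyclic_index_two (x : P) (h : Nat.card P = 2 * orderOf x) :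
    Cfsg.PRankLE 2 2 P := by
  classical
  set C := Subgroup.zpowers x with hC
  have hidx : C.index = 2 := by
    have h1 := C.card_mul_index
    rw [hC, Nat.card_zpowers, h, mul_comm 2] at h1
    exact Nat.eq_of_mul_eq_mul_left (orderOf_pos x) h1
  haveI := Subgroup.normal_of_index_eq_two hidx
  intro A hA hA2
  have h1 : C.relIndex A ≤ 2 := Nat.le_of_dvd two_pos (hidx ▸ Subgroup.relIndex_dvd_index_of_normal C A)
  have h2 : Nat.card ↥(C ⊓ A) ≤ 2 := by
    haveI : IsCyclic ↥(C ⊓ A) := Subgroup.isCyclic_of_le (inf_le_left : C ⊓ A ≤ C)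
    haveI : Fintype ↥(C ⊓ A) := Fintype.ofFinite _
    have h3 := IsCyclic.card_pow_eq_one_le (α := ↥(C ⊓ A)) (n := 2) two_pos
    rw [Finset.filter_true_of_mem fun a _ => Subtype.ext (by simpa using hA2 _ a.2.2)] at h3
    rwa [Finset.card_univ, ← Nat.card_eq_fintype_card] at h3
  have h4 : Nat.card ↥(C ⊓ A) * C.relIndex A = Nat.card ↥A := by
    rw [← inf_relIndex_right, ← relIndex_bot_left, ← relIndex_bot_left]
    exact relIndex_mul_relIndex ⊥ (C ⊓ A) A bot_le inf_le_right
  calc Nat.card ↥A = Nat.card ↥(C ⊓ A) * C.relIndex A := h4.symm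
    _ ≤ 2 ^ 2 := by
      rw [pow_two]
      exact Nat.mul_le_mul h2 h1

/-- An abelian `p`-group with at most `p` elements of order dividing `p` is cyclic. -/
theorem isCyclic_of_omega_le {A : Type*} [CommGroup A] [Finite A] (hA : IsPGroup p A)
    (h : Nat.card ↥(powMonoidHom p : A →* A).ker ≤ p) : IsCyclic A := by
  classical
  haveI := Fintype.ofFinite A
  let K : ℕ → Subgroup A := fun j => (powMonoidHom (p ^ j) : A →* A).ker
  have hK : ∀ j, Nat.card ↥(K j) ≤ p ^ j := by
    intro j
    induction j with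
    | zero =>
      have : K 0 = ⊥ := by ext; simp [K]
      rw [this, Subgroup.card_bot, pow_zero]
    | succ j ih =>
      set f := (powMonoidHom (p ^ j) : A →* A).comp (K (j + 1)).subtype with hf
      have hr : Nat.card ↥f.range ≤ p := by
        refine le_trans (Nat.le_of_dvd Nat.card_pos (Subgroup.card_dvd_of_le ?_)) h
        rintro _ ⟨x, rfl⟩
        have hx : (x : A) ^ p ^ (j + 1) = 1 := x.2
        show ((x : A) ^ p ^ j) ^ p = 1
        rw [← pow_mul, ← pow_succ, hx]
      have hk : Nat.card ↥f.ker ≤ Nat.card ↥(K j) :=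
        Nat.card_le_card_of_injective (fun x => (⟨((x : ↥(K (j + 1))) : A), x.2⟩ : ↥(K j)))
          fun x y hxy => Subtype.ext (Subtype.ext (congrArg (fun z : ↥(K j) => (z : A)) hxy))
      have hfac := Subgroup.card_mul_index f.ker
      rw [Subgroup.index_ker] at hfac
      rw [← hfac, pow_succ]
      exact Nat.mul_le_mul (hk.trans ih) hr
  obtain ⟨m, hm⟩ := IsPGroup.iff_card.mp hA
  refine isCyclic_of_card_pow_eq_one_le fun n hn => ?_
  obtain ⟨j, -, hj⟩ := (Nat.dvd_prime_pow hp.out).mp (Nat.gcd_dvd_left (p ^ m) n)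
  refine le_trans ?_ ((hK j).trans (Nat.le_of_dvd hn (hj ▸ Nat.gcd_dvd_right (p ^ m) n)))
  rw [← Fintype.card_subtype, ← Nat.card_eq_fintype_card]
  refine Nat.card_le_card_of_injective (fun a => (⟨a.1, ?_⟩ : ↥(K j))) fun a b hab =>
    Subtype.ext (congrArg (fun z : ↥(K j) => (z : A)) hab)
  show (a.1 : A) ^ p ^ j = 1
  rw [← orderOf_dvd_iff_pow_eq_one, ← hj]
  exact Nat.dvd_gcd (hm ▸ orderOf_dvd_natCard a.1) (orderOf_dvd_of_pow_eq_one a.2)

theorem exists_normal_elementary_square (hP : IsPGroup p P) (hrk : ¬ Cfsg.PRankLE p 2 P) :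
    ∃ U : Subgroup P, U.Normal ∧ Cfsg.IsElementaryAbelian p U ∧ Nat.card ↥U = p ^ 2 := by
  classical
  obtain ⟨E, hE, hE2⟩ : ∃ E : Subgroup P, Cfsg.IsElementaryAbelian p E ∧ p ^ 2 < Nat.card ↥E := by
    by_contra h
    push Not at h
    exact hrk (CfsgLib.OddOrder.pRankLE_iff.mpr h)
  by_cases hn : ∀ A : Subgroup P, A.Normal → IsMulCommutative A → IsCyclic A
  · exfalso
    have hEnc : ¬ IsCyclic ↥E := by
      intro h
      haveI := Fintype.ofFinite ↥E
      have h3 := IsCyclic.card_pow_eq_one_le (α := ↥E) (n := p) hp.out.pos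
      rw [Finset.filter_true_of_mem fun a _ => Subtype.ext (by simpa using hE.2 _ a.2), Finset.card_univ,
        ← Nat.card_eq_fintype_card] at h3
      have h4 : p ≤ p ^ 2 := Nat.le_self_pow two_ne_zero p
      omega
    obtain ⟨rfl, hcases⟩ := Cfsg.Agent.S0519.result p hP hn ⟨E, hE.1, hEnc⟩
    refine hrk ?_
    rcases hcases with ⟨n, ⟨e⟩⟩ | ⟨n, hn8, ⟨e⟩⟩ | ⟨n, -, hc, x, -, hx, -, -⟩
    · haveI : NeZero n := ⟨fun h => by
        subst h
        haveI : Infinite (QuaternionGroup 0) :=
          Infinite.of_injective (fun i : ℤ => (QuaternionGroup.a i : QuaternionGroup 0))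
            fun i j h => QuaternionGroup.a.inj h
        haveI := Finite.of_equiv P e.toEquiv
        exact not_finite (QuaternionGroup 0)⟩
      refine pRankLE_two_of_cyclic_index_two (e.symm (QuaternionGroup.a 1)) ?_
      rw [e.symm.orderOf_eq, QuaternionGroup.orderOf_a_one, Nat.card_congr e.toEquiv,
        Nat.card_eq_fintype_card, QuaternionGroup.card]
      ring
    · haveI : NeZero n := ⟨by omega⟩
      refine pRankLE_two_of_cyclic_index_two (e.symm (DihedralGroup.r 1)) ?_
      rw [e.symm.orderOf_eq, DihedralGroup.orderOf_r_one, Nat.card_congr e.toEquiv, DihedralGroup.nat_card]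
    · refine pRankLE_two_of_cyclic_index_two x ?_
      rw [hc, hx, pow_succ']
  · push Not at hn
    obtain ⟨A, hAn, hAab, hAnc⟩ := hn
    haveI := hAn
    haveI := hAab
    -- the elements of order dividing `p` in `A`
    let W : Subgroup P :=
      { carrier := {x | x ∈ A ∧ x ^ p = 1}
        one_mem' := ⟨one_mem _, one_pow p⟩
        mul_mem' := fun {a b} ha hb => ⟨mul_mem ha.1 hb.1, by
          rw [(show Commute a b from setLike_mul_comm ha.1 hb.1).mul_pow, ha.2, hb.2, one_mul]⟩
        inv_mem' := fun {a} ha => ⟨inv_mem ha.1, by rw [inv_pow, ha.2, inv_one]⟩ }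
    haveI hWn : W.Normal :=
      ⟨fun x hx g => ⟨hAn.conj_mem x hx.1 g, by rw [conj_pow, hx.2, mul_one, mul_inv_cancel]⟩⟩
    have hW : Cfsg.IsElementaryAbelian p W :=
      ⟨⟨⟨fun a b => Subtype.ext (setLike_mul_comm a.2.1 b.2.1)⟩⟩, fun x hx => hx.2⟩
    obtain ⟨j, hj⟩ := CfsgLib.OddOrder.elemAb_card hW
    have hj2 : 2 ≤ j := by
      by_contra hlt
      apply hAnc
      have hle : Nat.card ↥W ≤ p := by
        rw [hj]
        calc p ^ j ≤ p ^ 1 := Nat.pow_le_pow_right hp.out.pos (by omega)
          _ = p := pow_one p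
      letI : CommGroup ↥A := { (inferInstance : Group ↥A) with mul_comm := fun a b => mul_comm' a b }
      refine isCyclic_of_omega_le (hP.to_subgroup A) (le_trans (le_of_eq ?_) hle)
      exact Nat.card_congr
        { toFun := fun a => ⟨a.1.1, a.1.2, by simpa using congrArg Subtype.val (a.2 : a.1 ^ p = 1)⟩
          invFun := fun w => ⟨⟨w.1, w.2.1⟩, Subtype.ext (by simpa using w.2.2)⟩
          left_inv := fun a => rfl
          right_inv := fun w => rfl }
    -- descend to order `p ^ 2`
    have hdesc : ∀ j, 2 ≤ j → ∀ W : Subgroup P, W.Normal → Cfsg.IsElementaryAbelian p W →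
        Nat.card ↥W = p ^ j →
        ∃ U : Subgroup P, U.Normal ∧ Cfsg.IsElementaryAbelian p U ∧ Nat.card ↥U = p ^ 2 := by
      intro j hj
      induction j, hj using Nat.le_induction with
      | base => exact fun W h1 h2 h3 => ⟨W, h1, h2, h3⟩
      | succ j hj ih =>
        intro W hWn hW hcard
        have hWne : W ≠ ⊥ := fun h => by
          rw [h, Subgroup.card_bot] at hcard
          exact absurd hcard (ne_of_lt (Nat.one_lt_pow (by omega) hp.out.one_lt))
        obtain ⟨B, hBn, hBW, hBi, -⟩ := CfsgLib.PGroupBasic.exists_normal_relIndex_eq hP W hWne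
        refine ih B hBn (CfsgLib.OddOrder.elemAb_mono hW hBW) ?_
        have h := Subgroup.relIndex_mul_relIndex ⊥ B W bot_le hBW
        rw [relIndex_bot_left, relIndex_bot_left, hBi, hcard, pow_succ] at h
        exact Nat.eq_of_mul_eq_mul_right hp.out.pos h
    exact hdesc j hj2 W hWn hW hj

end CfsgLib.PGroup39
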