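import Cfsg.Agent.Lib.Techniques.FusionInduction
import Mathlib.GroupTheory.Nilpotent
import Mathlib

/-! Soft subgroups of `p`-groups (Héthelyi): the normalizer tower and the class of its members. -/

set_option autoImplicit false
set_option linter.unusedSectionVars false

open scoped commutatorElement

namespace CfsgLib.SoftSubgroup

open Subgroup CfsgLib.Techniques

universe u

variable {P : Type u} [Group P] [Finite P] {p : ℕ} [hp : Fact p.Prime]

/-- An abelian self-centralizing subgroup of index `p` in its normalizer and at least `p²` in `P`. -/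
structure IsSoft (p : ℕ) (E : Subgroup P) : Prop where
  ab : ∀ a ∈ E, ∀ b ∈ E, a * b = b * a
  cent : centralizer (E : Set P) ≤ E
  idx : E.relIndex (normalizer (E : Set P)) = p
  big : p ^ 2 ≤ E.index

/-- The conclusions about the overgroups of `E`. -/
def IsTower (p : ℕ) (E : Subgroup P) : Prop :=
  (∀ K L : Subgroup P, E ≤ K → E ≤ L → K ≤ L ∨ L ≤ K) ∧
    (∀ K : Subgroup P, E ≤ K → K ≠ ⊤ → K.relIndex (normalizer (K : Set P)) = p) ∧
    ∀ (i : ℕ) (K : Subgroup P), E ≤ K → K ≠ ⊤ → K.index * p ^ i = E.index →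
      K.lowerCentralSeries i ≤ E

theorem relIndex_pow (hP : IsPGroup p P) (H K : Subgroup P) : ∃ j, H.relIndex K = p ^ j := by
  obtain ⟨n, hn⟩ := IsPGroup.iff_card.1 hP
  obtain ⟨j, -, hj⟩ := (Nat.dvd_prime_pow hp.out).1
    (hn ▸ (relIndex_dvd_card H K).trans (card_subgroup_dvd_card K) : H.relIndex K ∣ p ^ n)
  exact ⟨j, hj⟩

theorem le_center_of_card_eq {G : Type*} [Group G] [Finite G] (hP : IsPGroup p G) (N : Subgroup G)
    [N.Normal] (hN : Nat.card N = p) : N ≤ Subgroup.center G := by
  intro x hx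
  refine Subgroup.mem_center_iff.2 fun y => ?_
  classical
  let _ : MulAction G N :=
    { smul := fun g n => ⟨g * n * g⁻¹, Subgroup.Normal.conj_mem ‹N.Normal› n n.2 g⟩
      one_smul := fun n => Subtype.ext (by simp [HSMul.hSMul])
      mul_smul := fun a b n => Subtype.ext (by simp [HSMul.hSMul, mul_assoc]) }
  have hsm : ∀ (g : G) (n : N), ((g • n : N) : G) = g * n * g⁻¹ := fun g n => rfl
  have hmod := hP.card_modEq_card_fixedPoints N
  rw [hN] at hmod
  have hdvd : p ∣ Nat.card (MulAction.fixedPoints G N) :=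
    (Nat.modEq_zero_iff_dvd.1 (hmod.symm.trans (Nat.modEq_zero_iff_dvd.2 dvd_rfl)))
  have hne : 0 < Nat.card (MulAction.fixedPoints G N) := by
    have : Nonempty (MulAction.fixedPoints G N) :=
      ⟨⟨1, fun g => Subtype.ext (by rw [hsm]; simp)⟩⟩
    exact Nat.card_pos
  have heq : MulAction.fixedPoints G N = Set.univ := by
    refine Set.eq_of_subset_of_ncard_le (Set.subset_univ _) ?_ (Set.toFinite _)
    rw [Set.ncard_univ, hN, ← Nat.card_coe_set_eq]
    exact Nat.le_of_dvd hne hdvd
  have h1 : (⟨x, hx⟩ : N) ∈ MulAction.fixedPoints G N := heq ▸ Set.mem_univ _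
  have h2 := congrArg Subtype.val (h1 y)
  rw [hsm] at h2
  exact mul_inv_eq_iff_eq_mul.1 h2

theorem relIndex_eq_one_or_prime_le (hP : IsPGroup p P) {H K : Subgroup P}
    (h : ¬ K ≤ H) : p ≤ H.relIndex K := by
  obtain ⟨j, hj⟩ := relIndex_pow hP H K
  rcases j with _ | j
  · exact absurd (relIndex_eq_one.1 (by simpa using hj)) h
  · rw [hj]; exact Nat.le_self_pow (Nat.succ_ne_zero j) p

theorem IsSoft.lt_normalizer (hP : IsPGroup p P) {E : Subgroup P} (h : IsSoft p E) :
    E < normalizer (E : Set P) :=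
  lt_of_le_of_ne le_normalizer fun e => hp.out.one_lt.ne' (by
    have h1 := h.idx
    rw [← e, relIndex_self] at h1
    exact h1.symm)

theorem IsSoft.normalizer_ne_top {E : Subgroup P} (h : IsSoft p E) :
    normalizer (E : Set P) ≠ ⊤ := fun e => by
  have h1 := h.idx
  rw [e, relIndex_top_right] at h1
  have := h.big
  rw [h1, pow_two] at this
  exact absurd (Nat.le_of_mul_le_mul_right (this.trans_eq (one_mul p).symm) hp.out.pos)
    (not_le.2 hp.out.one_lt)

/-- Every overgroup of `E` other than `E` contains the normalizer of `E`. -/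
theorem IsSoft.normalizer_le (hP : IsPGroup p P) {E : Subgroup P} (h : IsSoft p E) {K : Subgroup P}
    (hK : E ≤ K) (hne : K ≠ E) : normalizer (E : Set P) ≤ K := by
  have hlt := Fusion.lt_inf_normalizer (hP.to_subgroup K) (lt_of_le_of_ne hK (Ne.symm hne))
  have h1 := relIndex_mul_relIndex E (K ⊓ normalizer (E : Set P)) (normalizer (E : Set P)) hlt.le
    inf_le_right
  rw [h.idx] at h1
  rcases (Nat.dvd_prime hp.out).1 (Dvd.intro _ h1) with h2 | h2
  · exact absurd (relIndex_eq_one.1 h2) hlt.not_ge
  · rw [h2] at h1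
    have h3 := (Nat.mul_eq_left hp.out.ne_zero).1 h1
    exact (relIndex_eq_one.1 h3).trans inf_le_left

theorem IsSoft.map_conj {E : Subgroup P} (h : IsSoft p E) (g : P) :
    IsSoft p (E.map (MulAut.conj g).toMonoidHom) := by
  have hN : normalizer ((E.map (MulAut.conj g).toMonoidHom : Subgroup P) : Set P) =
      (normalizer (E : Set P)).map (MulAut.conj g).toMonoidHom :=
    (Subgroup.map_equiv_normalizer_eq E (MulAut.conj g)).symm
  refine ⟨?_, ?_, ?_, ?_⟩
  · rintro _ ⟨a, ha, rfl⟩ _ ⟨b, hb, rfl⟩
    rw [← map_mul, h.ab a ha b hb, map_mul]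
  · intro y hy
    refine mem_map_conj.2 (h.cent (mem_centralizer_iff.2 fun a ha => ?_))
    have := mem_centralizer_iff.1 hy _ (conj_mem_map_conj g ha)
    calc a * (g⁻¹ * y * g) = g⁻¹ * ((g * a * g⁻¹) * y) * g := by group
      _ = g⁻¹ * (y * (g * a * g⁻¹)) * g := by rw [this]
      _ = g⁻¹ * y * g * a := by group
  · rw [hN, relIndex_map_map_of_injective _ _ (MulAut.conj g).injective]; exact h.idx
  · show p ^ 2 ≤ (E.map ((MulAut.conj g : P ≃* P) : P →* P)).index
    rw [index_map_equiv]; exact h.big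

/-- The conjugate tower. -/
theorem tower_conj {E : Subgroup P}
    (hch : ∀ K L : Subgroup P, E ≤ K → E ≤ L → K ≤ L ∨ L ≤ K) (g : P) {K L : Subgroup P}
    (hK : E.map (MulAut.conj g).toMonoidHom ≤ K) (hL : E.map (MulAut.conj g).toMonoidHom ≤ L) :
    K ≤ L ∨ L ≤ K := by
  have e : ∀ X : Subgroup P,
      (X.map (MulAut.conj g⁻¹).toMonoidHom).map (MulAut.conj g).toMonoidHom = X := fun X => by
    rw [← map_conj_mul, mul_inv_cancel, map_conj_one]
  have e' := Fusion.map_conj_inv_cancel E g
  rcases hch (K.map (MulAut.conj g⁻¹).toMonoidHom) (L.map (MulAut.conj g⁻¹).toMonoidHom)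
    (e' ▸ map_mono hK) (e' ▸ map_mono hL) with h | h
  · exact Or.inl (e K ▸ e L ▸ map_mono h)
  · exact Or.inr (e L ▸ e K ▸ map_mono h)

/-- A proper member of the tower is generated by `E` and a conjugate. -/
theorem sup_conj_eq (hP : IsPGroup p P) {E : Subgroup P}
    (hch : ∀ K L : Subgroup P, E ≤ K → E ≤ L → K ≤ L ∨ L ≤ K)
    (hno : ∀ K : Subgroup P, E ≤ K → K ≠ ⊤ → K.relIndex (normalizer (K : Set P)) = p)
    {K : Subgroup P} (hEK : E ≤ K) (hK : K ≠ ⊤) :
    ∃ g ∈ normalizer (K : Set P), E ⊔ E.map (MulAut.conj g).toMonoidHom = K := by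
  have hlt : K < normalizer (K : Set P) := lt_of_le_of_ne le_normalizer fun e => by
    have h1 := hno K hEK hK
    rw [← e, relIndex_self] at h1
    exact hp.out.one_lt.ne h1
  obtain ⟨g, hg, hgK⟩ := SetLike.exists_of_lt hlt
  refine ⟨g, hg, ?_⟩
  set F := E ⊔ E.map (MulAut.conj g).toMonoidHom with hF
  have hFK : F ≤ K := sup_le hEK ((map_mono hEK).trans (map_conj_eq_self_iff.2 hg).le)
  by_contra hne
  have hFg : F.map (MulAut.conj g).toMonoidHom = F := by
    rcases tower_conj hch g (K := F) (L := F.map (MulAut.conj g).toMonoidHom) le_sup_right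
      (map_mono le_sup_left) with h | h
    · exact (eq_of_le_of_card_ge h (card_map_conj F g).le).symm
    · exact eq_of_le_of_card_ge h (card_map_conj F g).ge
  have hFtop : F ≠ ⊤ := fun e => hK (top_le_iff.1 (e ▸ hFK))
  have hgF : g ∈ normalizer (F : Set P) := map_conj_eq_self_iff.1 hFg
  rcases hch (normalizer (F : Set P)) K (le_sup_left.trans le_normalizer) hEK with h | h
  · exact hgK (h hgF)
  · have h1 := relIndex_mul_relIndex F K (normalizer (F : Set P)) hFK h
    rw [hno F le_sup_left hFtop] at h1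
    have h2 := relIndex_eq_one_or_prime_le hP (H := F) (K := K) (fun h' => hne (le_antisymm hFK h'))
    have h3 : K.relIndex (normalizer (F : Set P)) = 1 := by
      have h4 : K.relIndex (normalizer (F : Set P)) ≠ 0 := index_ne_zero_of_finite
      nlinarith [hp.out.pos]
    exact hgK (relIndex_eq_one.1 h3 hgF)

/-- The commutator subgroup of the normalizer of `E` is in a subgroup of order `p` of `E`, and the
normalizer of the normalizer is one step larger. -/
theorem IsSoft.exists_line (hP : IsPGroup p P) {E : Subgroup P} (h : IsSoft p E) :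
    (∃ R : Subgroup P, Nat.card R = p ∧ R ≤ E ∧
      ⁅normalizer (E : Set P), normalizer (E : Set P)⁆ ≤ R ∧
      ∀ Z : Subgroup P, ⁅E, normalizer (E : Set P)⁆ ≤ Z → R ≤ Z) ∧
    (normalizer (E : Set P)).relIndex
      (normalizer ((normalizer (E : Set P) : Subgroup P) : Set P)) = p := by
  classical
  set N := normalizer (E : Set P) with hN
  have hEN : E < N := h.lt_normalizer hP
  obtain ⟨x, hxN, hxE⟩ := SetLike.exists_of_lt hEN
  have hExN : E ⊔ zpowers x = N := le_antisymm (sup_le hEN.le (zpowers_le.2 hxN))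
    (h.normalizer_le hP le_sup_left fun e => hxE (e ▸ mem_sup_right (mem_zpowers x)))
  set N2 := normalizer ((N : Subgroup P) : Set P) with hN2
  have hlt2 : N < N2 := by
    have := Fusion.lt_inf_normalizer (H := N) (S := (⊤ : Subgroup P)) (hP.to_subgroup ⊤)
      (lt_top_iff_ne_top.2 h.normalizer_ne_top)
    rwa [top_inf_eq] at this
  obtain ⟨g, hgN2, hgN⟩ := SetLike.exists_of_lt hlt2
  set E' := E.map (MulAut.conj g).toMonoidHom with hE'
  have hE'N : E' ≤ N := (map_mono hEN.le).trans (map_conj_eq_self_iff.2 hgN2).le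
  have hE'ne : ¬ E' ≤ E := fun hle => hgN (map_conj_eq_self_iff.1
    (eq_of_le_of_card_ge hle (card_map_conj E g).ge))
  have hsup : E ⊔ E' = N := le_antisymm (sup_le hEN.le hE'N)
    (h.normalizer_le hP le_sup_left fun e => hE'ne (le_sup_right.trans e.le))
  have hE'ab := (h.map_conj g).ab
  set Z1 := E ⊓ E' with hZ1
  have hZ1c : Z1 ≤ centralizer (N : Set P) := by
    rw [le_centralizer_iff, ← hsup, sup_le_iff]
    exact ⟨fun a ha => mem_centralizer_iff.2 fun b hb => h.ab b hb.1 a ha,
      fun a ha => mem_centralizer_iff.2 fun b hb => hE'ab b hb.2 a ha⟩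
  have hE'N' : E' ≤ normalizer (E : Set P) := hE'N
  have hidx : Z1.relIndex E = p := by
    rw [hZ1, inf_relIndex_left]
    have h1 : E'.relIndex N = p := by
      have e : (N.map (MulAut.conj g).toMonoidHom) = N := map_conj_eq_self_iff.2 hgN2
      rw [← e, relIndex_map_map_of_injective _ _ (MulAut.conj g).injective]
      exact h.idx
    obtain ⟨j, hj⟩ := relIndex_pow hP E' E
    have h2 : E'.relIndex E ∣ p := by
      have h3 := relIndex_mul_relIndex (E ⊓ E') E N inf_le_left hEN.le
      have h4 := relIndex_mul_relIndex (E ⊓ E') E' N inf_le_right hE'N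
      rw [inf_relIndex_left, h.idx] at h3
      rw [inf_relIndex_right, h1] at h4
      have h5 : E.relIndex E' ∣ p := by
        haveI : (E.subgroupOf N).Normal := normal_in_normalizer
        have := relIndex_dvd_index_of_normal (E.subgroupOf N) (E'.subgroupOf N)
        rw [relIndex_subgroupOf hE'N] at this
        exact h.idx ▸ this
      rw [Nat.eq_of_mul_eq_mul_right hp.out.pos (h3.trans h4.symm)]
      exact h5
    rcases (Nat.dvd_prime hp.out).1 h2 with h3 | h3
    · exact absurd (eq_of_le_of_card_ge (relIndex_eq_one.1 h3) (card_map_conj E g).le).ge hE'ne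
    · exact h3
  have hxconj : ∀ e ∈ E, x * e * x⁻¹ ∈ E := fun e he => (mem_normalizer_iff.1 hxN e).1 he
  let f : E →* P := MonoidHom.mk' (fun e => (x : P) * e * x⁻¹ * (e : P)⁻¹) (by
    rintro ⟨a, ha⟩ ⟨b, hb⟩
    show x * (a * b) * x⁻¹ * (a * b)⁻¹ = x * a * x⁻¹ * a⁻¹ * (x * b * x⁻¹ * b⁻¹)
    have h1 := h.ab _ (mul_mem (hxconj b hb) (inv_mem hb)) _ (inv_mem ha)
    calc x * (a * b) * x⁻¹ * (a * b)⁻¹ = x * a * x⁻¹ * ((x * b * x⁻¹ * b⁻¹) * a⁻¹) := by group
      _ = x * a * x⁻¹ * (a⁻¹ * (x * b * x⁻¹ * b⁻¹)) := by rw [h1]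
      _ = _ := by group)
  set R := f.range with hR
  have hRE : R ≤ E := by
    rintro _ ⟨⟨e, he⟩, rfl⟩
    exact mul_mem (hxconj e he) (inv_mem he)
  have hfker : Z1.subgroupOf E ≤ f.ker := by
    rintro ⟨e, he⟩ hz
    rw [MonoidHom.mem_ker]
    show x * e * x⁻¹ * e⁻¹ = 1
    have := mem_centralizer_iff.1 (hZ1c (mem_subgroupOf.1 hz)) x hxN
    rw [this]; group
  have hRp : Nat.card R = p := by
    rw [hR, ← index_ker]
    have h1 : f.ker.index ∣ p := by
      rw [← hidx]; exact index_dvd_of_le hfker
    refine ((Nat.dvd_prime hp.out).1 h1).resolve_left fun h2 => hxE (h.cent ?_)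
    rw [index_eq_one] at h2
    refine mem_centralizer_iff.2 fun e he => ?_
    have : (⟨e, he⟩ : E) ∈ f.ker := h2 ▸ mem_top _
    rw [MonoidHom.mem_ker] at this
    exact (mul_inv_eq_iff_eq_mul.1 (mul_inv_eq_one.1 this)).symm
  have hRx : R.map (MulAut.conj x).toMonoidHom = R := by
    refine eq_of_le_of_card_ge ?_ (card_map_conj _ _).ge
    rintro _ ⟨_, ⟨⟨e, he⟩, rfl⟩, rfl⟩
    refine ⟨⟨x * e * x⁻¹, hxconj e he⟩, ?_⟩
    show x * (x * e * x⁻¹) * x⁻¹ * (x * e * x⁻¹)⁻¹ = x * (x * e * x⁻¹ * e⁻¹) * x⁻¹
    group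
  have hNR : N ≤ normalizer (R : Set P) := by
    rw [← hExN, sup_le_iff, zpowers_le]
    refine ⟨fun e he => ?_, map_conj_eq_self_iff.1 hRx⟩
    refine centralizer_le_normalizer (R : Set P) (mem_centralizer_iff.2 fun r hr => ?_)
    exact h.ab r (hRE hr) e he
  have hcomm : ⁅N, N⁆ ≤ R := by
    let R₀ := R.subgroupOf N
    haveI : R₀.Normal := normal_subgroupOf_of_le_normalizer hNR
    set π := QuotientGroup.mk' R₀ with hπ
    have key : ∀ a b : N, ((a : P) ∈ E ∨ (a : P) = x) → ((b : P) ∈ E ∨ (b : P) = x) →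
        π a * π b = π b * π a := by
      have k1 : ∀ a b : N, (b : P) = x → (a : P) ∈ E → π b * π a = π a * π b := by
        intro a b hb ha
        have h1 : b * a * b⁻¹ * a⁻¹ ∈ R₀ := by
          rw [mem_subgroupOf]
          exact ⟨⟨a, ha⟩, by show x * (a : P) * x⁻¹ * (a : P)⁻¹ = _; simp [← hb]⟩
        have h2 := (QuotientGroup.eq_one_iff _).2 h1
        change π (b * a * b⁻¹ * a⁻¹) = 1 at h2
        rw [map_mul, map_mul, map_mul, map_inv, map_inv] at h2
        exact mul_inv_eq_iff_eq_mul.1 (mul_inv_eq_one.1 h2)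
      rintro a b (ha | ha) (hb | hb)
      · rw [← map_mul, ← map_mul]; congr 1; exact Subtype.ext (h.ab _ ha _ hb)
      · exact (k1 a b hb ha).symm
      · exact k1 b a ha hb
      · rw [show a = b from Subtype.ext (ha.trans hb.symm)]
    have hgen : ∀ a : N, ∀ b : N, π a * π b = π b * π a := by
      have hstep : ∀ b : N, ((b : P) ∈ E ∨ (b : P) = x) → ∀ a : N, π a * π b = π b * π a := by
        intro b hb a
        have hle : N ≤ (((centralizer ({π b} : Set (N ⧸ R₀))).comap π).map N.subtype) := by
          conv_lhs => rw [← hExN]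
          rw [sup_le_iff, zpowers_le]
          refine ⟨fun e he => ⟨⟨e, hEN.le he⟩, ?_, rfl⟩, ⟨⟨x, hxN⟩, ?_, rfl⟩⟩
          · exact mem_centralizer_singleton_iff.2 (key _ _ (Or.inl he) hb)
          · exact mem_centralizer_singleton_iff.2 (key _ _ (Or.inr rfl) hb)
        obtain ⟨a', ha', e⟩ := hle a.2
        rw [← show a' = a from Subtype.ext e]
        exact mem_centralizer_singleton_iff.1 ha'
      intro a b
      have hle : N ≤ (((centralizer ({π a} : Set (N ⧸ R₀))).comap π).map N.subtype) := by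
        conv_lhs => rw [← hExN]
        rw [sup_le_iff, zpowers_le]
        refine ⟨fun e he => ⟨⟨e, hEN.le he⟩, ?_, rfl⟩, ⟨⟨x, hxN⟩, ?_, rfl⟩⟩
        · exact mem_centralizer_singleton_iff.2 (hstep _ (Or.inl he) a).symm
        · exact mem_centralizer_singleton_iff.2 (hstep _ (Or.inr rfl) a).symm
      obtain ⟨b', hb', e⟩ := hle b.2
      rw [← show b' = b from Subtype.ext e]
      exact (mem_centralizer_singleton_iff.1 hb').symm
    rw [commutator_le]
    intro a ha b hb
    have h1 : π ⁅(⟨a, ha⟩ : N), ⟨b, hb⟩⁆ = 1 := by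
      rw [map_commutatorElement, commutatorElement_eq_one_iff_mul_comm]; exact hgen _ _
    exact (QuotientGroup.eq_one_iff (N := R₀) _).1 h1
  refine ⟨⟨R, hRp, hRE, hcomm, fun Z hZ => ?_⟩, ?_⟩
  · rintro _ ⟨⟨e, he⟩, rfl⟩
    show x * e * x⁻¹ * e⁻¹ ∈ Z
    have h1 : ⁅x, e⁆ ∈ Z := by
      rw [← commutatorElement_inv]
      exact inv_mem (hZ (commutator_mem_commutator he hxN))
    rwa [commutatorElement_def] at h1
  -- the second normalizer
  set Z := Z1.subgroupOf N2 with hZdef
  have hZN : Z1 = N ⊓ centralizer (N : Set P) := by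
    refine le_antisymm (le_inf (inf_le_left.trans hEN.le) hZ1c) fun z hz => ?_
    have h1 : ∀ X : Subgroup P, X ≤ N → z ∈ centralizer (X : Set P) := fun X hX =>
      centralizer_le hX hz.2
    exact ⟨h.cent (h1 E hEN.le), (h.map_conj g).cent (h1 E' hE'N)⟩
  have hN2Z : N2 ≤ normalizer (Z1 : Set P) := by
    intro y hy
    rw [hZN]
    exact mem_normalizer_inf hy (normalizer_le_normalizer_centralizer N hy)
  haveI : Z.Normal := normal_subgroupOf_of_le_normalizer hN2Z
  set π := QuotientGroup.mk' Z with hπ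
  set Nb := (N.subgroupOf N2).map π with hNb
  set Eb := (E.subgroupOf N2).map π with hEb
  have hEN2 : E ≤ N2 := hEN.le.trans le_normalizer
  have hZ1E : Z1.subgroupOf N2 ≤ E.subgroupOf N2 := fun y hy => hy.1
  haveI : (N.subgroupOf N2).Normal := normal_in_normalizer
  haveI : Nb.Normal := (inferInstance : (N.subgroupOf N2).Normal).map π (QuotientGroup.mk'_surjective _)
  have hQ : IsPGroup p (N2 ⧸ Z) := (hP.to_subgroup N2).to_quotient Z
  have hcardNb : Nat.card Nb = p * p := by
    have h1 : Nat.card Nb = Z1.relIndex N := by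
      rw [hNb, ← relIndex_bot_left]
      have h2 := relIndex_comap (⊥ : Subgroup (N2 ⧸ Z)) π (N.subgroupOf N2)
      rw [MonoidHom.comap_bot, hπ, QuotientGroup.ker_mk'] at h2
      rw [← hπ] at h2
      rw [← h2, hZdef, relIndex_subgroupOf le_normalizer]
    rw [h1, ← relIndex_mul_relIndex Z1 E N inf_le_left hEN.le, hidx, h.idx]
  have hcardEb : Nat.card Eb = p := by
    rw [hEb, ← relIndex_bot_left]
    have h2 := relIndex_comap (⊥ : Subgroup (N2 ⧸ Z)) π (E.subgroupOf N2)
    rw [MonoidHom.comap_bot, hπ, QuotientGroup.ker_mk'] at h2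
    rw [← hπ] at h2
    rw [← h2, hZdef, relIndex_subgroupOf hEN2, hidx]
  -- a central line
  obtain ⟨w, hwNb, hwne, hwc⟩ : ∃ w ∈ Nb, w ≠ 1 ∧ ∀ q : N2 ⧸ Z, q * w * q⁻¹ = w := by
    let act : MulAction (N2 ⧸ Z) Nb :=
      { smul := fun q w => ⟨q * w.1 * q⁻¹, (inferInstance : Nb.Normal).conj_mem _ w.2 q⟩
        one_smul := fun w => Subtype.ext (by show (1 : N2 ⧸ Z) * w.1 * 1⁻¹ = w.1; simp)
        mul_smul := fun q q' w => Subtype.ext (by
          show (q * q') * w.1 * (q * q')⁻¹ = q * (q' * w.1 * q'⁻¹) * q⁻¹; group) }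
    obtain ⟨w, hw, hw1⟩ := hQ.exists_fixed_point_of_prime_dvd_card_of_fixed_point Nb
      (hcardNb ▸ dvd_mul_right p p) (a := (1 : Nb))
      (fun q => Subtype.ext (by show q * (1 : N2 ⧸ Z) * q⁻¹ = 1; simp))
    exact ⟨w.1, w.2, fun e => hw1 (Subtype.ext e.symm), fun q => congrArg Subtype.val (hw q)⟩
  set W := zpowers w with hW
  haveI : W.Normal := ⟨fun y hy q => by
    obtain ⟨i, rfl⟩ := hy
    refine ⟨i, ?_⟩
    show w ^ i = q * w ^ i * q⁻¹
    rw [← conj_zpow, hwc q]⟩
  set σ := QuotientGroup.mk' W with hσ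
  obtain ⟨e0, he0, he0ne⟩ : ∃ e ∈ Eb, e ≠ 1 := by
    by_contra! hc
    have := hcardEb
    rw [(eq_bot_iff_forall _).2 hc, Subgroup.card_bot] at this
    exact hp.out.one_lt.ne this
  have he0Nb : e0 ∈ Nb := map_mono (fun y hy => hEN.le hy : E.subgroupOf N2 ≤ N.subgroupOf N2) he0
  have hcW : Nat.card W = p := by
    obtain ⟨n, hn⟩ := IsPGroup.iff_card.1 (hQ.to_subgroup W)
    have h1 : Nat.card W ∣ p * p := hcardNb ▸ card_dvd_of_le (zpowers_le.2 hwNb)
    have hne : Nat.card W ≠ 1 := fun e => hwne (by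
      rw [card_eq_one, hW, zpowers_eq_bot] at e; exact e)
    rcases (Nat.dvd_prime_pow hp.out).1 (pow_two p ▸ h1) with ⟨k, hk, hk'⟩
    interval_cases k
    · exact absurd (hk'.trans (pow_zero p)) hne
    · simpa using hk'
    · exfalso
      -- `N / Z1` would be central, so `E` would be normal in `N2`
      have hWN : W = Nb := eq_of_le_of_card_ge (zpowers_le.2 hwNb) (by rw [hk', hcardNb, pow_two])
      apply hE'ne
      rintro y ⟨e, he, rfl⟩
      have h3 : π ⟨e, hEN2 he⟩ ∈ Nb := mem_map_of_mem π (show (⟨e, hEN2 he⟩ : N2) ∈ N.subgroupOf N2 from hEN.le he)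
      rw [← hWN] at h3
      obtain ⟨i, hi⟩ := h3
      have h4 : π (⟨g, hgN2⟩ * ⟨e, hEN2 he⟩ * ⟨g, hgN2⟩⁻¹) = π ⟨e, hEN2 he⟩ := by
        rw [map_mul, map_mul, map_inv, ← show w ^ i = π ⟨e, hEN2 he⟩ from hi, ← conj_zpow, hwc]
      have h5 := (QuotientGroup.eq (s := Z)).1 h4.symm
      have h6 : e⁻¹ * (g * e * g⁻¹) ∈ Z1 := h5
      show g * e * g⁻¹ ∈ E
      simpa using mul_mem he h6.1
  have horb : ∀ q : N2 ⧸ Z, ∃ i : Fin p, q * e0 * q⁻¹ = e0 * w ^ (i : ℕ) := by
    intro q
    have hWle : W ≤ Nb := zpowers_le.2 hwNb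
    have hcard : Nat.card (Nb.map σ) = p := by
      have h1 := relIndex_comap (⊥ : Subgroup ((N2 ⧸ Z) ⧸ W)) σ Nb
      rw [MonoidHom.comap_bot, hσ, QuotientGroup.ker_mk'] at h1
      rw [← hσ, relIndex_bot_left] at h1
      have h2 := relIndex_mul_relIndex ⊥ W Nb bot_le hWle
      rw [relIndex_bot_left, relIndex_bot_left, hcW, hcardNb, h1] at h2
      exact Nat.eq_of_mul_eq_mul_left hp.out.pos h2
    have hcen : σ (q * e0 * q⁻¹) = σ e0 := by
      let ψ := MulAut.conj (σ q)
      haveI : (Nb.map σ).Normal := (inferInstance : Nb.Normal).map σ (QuotientGroup.mk'_surjective _)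
      haveI := (hQ.to_quotient W)
      have hle : Nb.map σ ≤ center ((N2 ⧸ Z) ⧸ W) :=
        le_center_of_card_eq (hQ.to_quotient W) _ hcard
      rw [map_mul, map_mul, map_inv, mem_center_iff.1 (hle (mem_map_of_mem σ he0Nb)) (σ q),
        mul_inv_cancel_right]
    have h2 := (QuotientGroup.eq (s := W)).1 hcen.symm
    obtain ⟨i, hi⟩ := mem_powers_iff_mem_zpowers.2 h2
    refine ⟨⟨i % p, Nat.mod_lt _ hp.out.pos⟩, ?_⟩
    have h3 : w ^ p = 1 := by
      have := _root_.orderOf_dvd_natCard (⟨w, mem_zpowers w⟩ : W)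
      rw [hcW] at this
      simpa using congrArg Subtype.val (orderOf_dvd_iff_pow_eq_one.1 this)
    rw [← pow_eq_pow_mod i h3, show w ^ i = e0⁻¹ * (q * e0 * q⁻¹) from hi, mul_inv_cancel_left]
  choose F hF using horb
  have hstab : ∀ q : N2, π q * e0 * (π q)⁻¹ = e0 → (q : P) ∈ N := by
    intro q hq
    have hEb0 : zpowers e0 = Eb := by
      refine eq_of_le_of_card_ge (zpowers_le.2 he0) ?_
      rw [hcardEb, Nat.card_zpowers]
      rcases (Nat.dvd_prime hp.out).1 (hcardEb ▸ Subgroup.orderOf_dvd_natCard Eb he0) with h1 | h1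
      · exact absurd (orderOf_eq_one_iff.1 h1) he0ne
      · exact h1.ge
    refine map_conj_eq_self_iff.1 (eq_of_le_of_card_ge ?_ (card_map_conj E _).ge)
    rintro _ ⟨e, he, rfl⟩
    have h1 : π ⟨e, hEN2 he⟩ ∈ zpowers e0 := hEb0 ▸ mem_map_of_mem π (show (⟨e, hEN2 he⟩ : N2) ∈ E.subgroupOf N2 from he)
    obtain ⟨i, hi⟩ := h1
    have h2 : π (q * ⟨e, hEN2 he⟩ * q⁻¹) = π ⟨e, hEN2 he⟩ := by
      rw [map_mul, map_mul, map_inv, ← show e0 ^ i = π ⟨e, hEN2 he⟩ from hi, ← conj_zpow, hq]
    have h3 : e⁻¹ * ((q : P) * e * (q : P)⁻¹) ∈ Z1 := (QuotientGroup.eq (s := Z)).1 h2.symm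
    show (q : P) * e * (q : P)⁻¹ ∈ E
    simpa using mul_mem he h3.1
  have hle : N.relIndex N2 ≤ p := by
    rw [← Nat.card_fin p]
    show Nat.card (N2 ⧸ N.subgroupOf N2) ≤ _
    refine Nat.card_le_card_of_injective (fun c => F (π (Quotient.out c))) ?_
    intro c c' hcc
    rw [← QuotientGroup.out_eq' c, ← QuotientGroup.out_eq' c', QuotientGroup.eq, mem_subgroupOf]
    set y := Quotient.out c
    set y' := Quotient.out c'
    refine hstab (y⁻¹ * y') ?_
    have e1 := hF (π y)
    have e2 := hF (π y')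
    simp only at hcc
    rw [hcc, ← e2] at e1
    rw [map_mul, map_inv]
    calc (π y)⁻¹ * π y' * e0 * ((π y)⁻¹ * π y')⁻¹ = (π y)⁻¹ * (π y' * e0 * (π y')⁻¹) * π y := by group
      _ = (π y)⁻¹ * (π y * e0 * (π y)⁻¹) * π y := by rw [e1]
      _ = e0 := by group
  exact le_antisymm hle (relIndex_eq_one_or_prime_le hP fun hle' => hlt2.not_ge hle')

/-- The tower of a soft subgroup. -/
theorem tower (n : ℕ) : ∀ (P : Type u) [Group P] [Finite P], Nat.card P = n → IsPGroup p P →
    ∀ E : Subgroup P, IsSoft p E → IsTower p E := by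
  induction n using Nat.strong_induction_on with
  | _ n ih =>
    intro P _ _ hn hP E h
    haveI : Nontrivial P := by
      by_contra hc
      rw [not_nontrivial_iff_subsingleton] at hc
      exact h.normalizer_ne_top (Subsingleton.elim _ _)
    haveI : Nontrivial (center P) := hP.center_nontrivial
    obtain ⟨k, hk0, hk⟩ := (hP.to_subgroup (center P)).nontrivial_iff_card.1 inferInstance
    obtain ⟨z, hz⟩ := exists_prime_orderOf_dvd_card' (G := center P) p
      (hk ▸ dvd_pow_self p (by omega))
    set Z := zpowers (z : P) with hZ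
    have hzc : (z : P) ∈ center P := z.2
    haveI hZn : Z.Normal := ⟨fun y hy q => by
      rwa [mem_center_iff.1 (zpowers_le.2 hzc hy) q, mul_inv_cancel_right]⟩
    have hZp : Nat.card Z = p := by rw [hZ, Nat.card_zpowers, Subgroup.orderOf_coe, hz]
    have hZE : Z ≤ E := zpowers_le.2 (h.cent (center_le_centralizer _ hzc))
    set π := QuotientGroup.mk' Z with hπ
    have hsurj : Function.Surjective π := QuotientGroup.mk'_surjective Z
    have hcm : ∀ K : Subgroup P, Z ≤ K → (K.map π).comap π = K := fun K hK => by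
      rw [comap_map_eq, hπ, QuotientGroup.ker_mk', sup_eq_left.2 hK]
    have hlt : Nat.card (P ⧸ Z) < n := by
      rw [← hn, card_eq_card_quotient_mul_card_subgroup Z, hZp]
      exact lt_mul_of_one_lt_right Nat.card_pos hp.out.one_lt
    have hPb : IsPGroup p (P ⧸ Z) := hP.to_quotient Z
    have hidxm : ∀ K : Subgroup P, Z ≤ K → (K.map π).index = K.index := fun K hK => by
      conv_rhs => rw [← hcm K hK, index_comap_of_surjective _ hsurj]
    have hnm : ∀ K : Subgroup P, Z ≤ K →
        normalizer ((K.map π : Subgroup (P ⧸ Z)) : Set (P ⧸ Z)) = (normalizer (K : Set P)).map π := by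
      intro K hK
      conv_rhs => rw [← hcm K hK]
      rw [← Subgroup.comap_normalizer_eq_of_surjective _ hsurj, map_comap_eq_self_of_surjective hsurj]
    have hrim : ∀ K : Subgroup P, Z ≤ K →
        (K.map π).relIndex (normalizer ((K.map π : Subgroup (P ⧸ Z)) : Set (P ⧸ Z))) =
          K.relIndex (normalizer (K : Set P)) := by
      intro K hK
      rw [hnm K hK, ← relIndex_comap, hcm K hK]
    have hmne : ∀ K : Subgroup P, Z ≤ K → K ≠ ⊤ → K.map π ≠ ⊤ := fun K hK hne e =>
      hne (by rw [← hcm K hK, e, comap_top])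
    have hlcs : ∀ (K T : Subgroup P) (i : ℕ), Z ≤ T →
        (K.map π).lowerCentralSeries i ≤ T.map π → K.lowerCentralSeries i ≤ T := by
      intro K T i hT hle
      rw [← Subgroup.map_lowerCentralSeries, map_le_iff_le_comap, hcm T hT] at hle
      exact hle
    obtain ⟨⟨R, hRp, hRE, hRN, hRmin⟩, hN2⟩ := h.exists_line hP
    set N := normalizer (E : Set P) with hNdef
    have hEN : E ≤ N := le_normalizer
    by_cases hRZ : R ≤ Z
    · -- the line is `Z`
      have hNab : ∀ a ∈ N.map π, ∀ b ∈ N.map π, a * b = b * a := by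
        rintro _ ⟨a, ha, rfl⟩ _ ⟨b, hb, rfl⟩
        have h1 : π ⁅a, b⁆ = 1 :=
          (QuotientGroup.eq_one_iff _).2 (hRZ (hRN (commutator_mem_commutator ha hb)))
        rwa [map_commutatorElement, commutatorElement_eq_one_iff_mul_comm] at h1
      have hover : ∀ K : Subgroup P, E ≤ K → K = E ∨ N ≤ K := fun K hK => by
        by_cases e : K = E
        · exact Or.inl e
        · exact Or.inr (h.normalizer_le hP hK e)
      have hNi : E.index = N.index * p := by
        rw [← relIndex_mul_index hEN, h.idx, mul_comm]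
      by_cases hbig : p ^ 2 ≤ N.index
      · have hsoft : IsSoft p (N.map π) := by
          refine ⟨hNab, ?_, ?_, ?_⟩
          · intro y hy
            obtain ⟨y, rfl⟩ := hsurj y
            refine mem_map_of_mem π ?_
            refine map_conj_eq_self_iff.1 (eq_of_le_of_card_ge ?_ (card_map_conj E _).ge)
            rintro _ ⟨e, he, rfl⟩
            have h1 := mem_centralizer_iff.1 hy _ (mem_map_of_mem π (hEN he))
            have h2 : π (e⁻¹ * (y * e * y⁻¹)) = 1 := by
              rw [map_mul, map_mul, map_mul, map_inv, map_inv, ← h1, mul_inv_cancel_right, inv_mul_cancel]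
            show y * e * y⁻¹ ∈ E
            simpa using mul_mem he (hZE ((QuotientGroup.eq_one_iff _).1 h2))
          · rw [hrim N (hZE.trans hEN), hN2]
          · rw [hidxm N (hZE.trans hEN)]; exact hbig
        obtain ⟨hC, hNo, hU⟩ := ih _ hlt (P ⧸ Z) rfl hPb _ hsoft
        have hCP : ∀ K L : Subgroup P, E ≤ K → E ≤ L → K ≤ L ∨ L ≤ K := by
          intro K L hK hL
          rcases hover K hK with rfl | hK'
          · exact Or.inl hL
          rcases hover L hL with rfl | hL'
          · exact Or.inr hK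
          rcases hC _ _ (map_mono hK') (map_mono hL') with h1 | h1
          · exact Or.inl (by rw [← hcm K (hZE.trans hK), ← hcm L (hZE.trans hL)]; exact comap_mono h1)
          · exact Or.inr (by rw [← hcm K (hZE.trans hK), ← hcm L (hZE.trans hL)]; exact comap_mono h1)
        have hNP : ∀ K : Subgroup P, E ≤ K → K ≠ ⊤ → K.relIndex (normalizer (K : Set P)) = p := by
          intro K hK hKt
          rcases hover K hK with rfl | hK'
          · exact h.idx
          · rw [← hrim K (hZE.trans hK)]
            exact hNo _ (map_mono hK') (hmne K (hZE.trans hK) hKt)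
        refine ⟨hCP, hNP, fun i K hK hKt hi => ?_⟩
        rcases hover K hK with rfl | hK'
        · exact Subgroup.lowerCentralSeries_le_self _ i
        rcases i with _ | j
        · rw [pow_zero, mul_one] at hi
          have h1 := relIndex_mul_index hK
          rw [← hi] at h1
          have := (Nat.mul_eq_right index_ne_zero_of_finite).1 h1
          exact (Subgroup.lowerCentralSeries_le_self _ _).trans (relIndex_eq_one.1 this)
        have hj : K.lowerCentralSeries j ≤ N := by
          refine hlcs K N j (hZE.trans hEN) (hU j _ (map_mono hK') (hmne K (hZE.trans hK) hKt) ?_)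
          rw [hidxm K (hZE.trans hK), hidxm N (hZE.trans hEN)]
          rw [hNi, pow_succ, ← mul_assoc] at hi
          exact Nat.eq_of_mul_eq_mul_right hp.out.pos hi
        obtain ⟨g, hg, hgen⟩ := sup_conj_eq hP hCP hNP hK hKt
        have hKg : K.map (MulAut.conj g).toMonoidHom = K := map_conj_eq_self_iff.2 hg
        have hjg : K.lowerCentralSeries j ≤ N.map (MulAut.conj g).toMonoidHom := by
          rw [← hKg, ← Subgroup.map_lowerCentralSeries]; exact map_mono hj
        have h2 : K.map π ≤ centralizer ((K.lowerCentralSeries j).map π : Set (P ⧸ Z)) := by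
          conv_lhs => rw [← hgen, Subgroup.map_sup]
          refine sup_le ?_ ?_
          · rintro _ ⟨e, he, rfl⟩
            rw [mem_centralizer_iff]
            rintro _ ⟨a, ha, rfl⟩
            exact hNab _ (mem_map_of_mem π (hj ha)) _ (mem_map_of_mem π (hEN he))
          · rintro _ ⟨_, ⟨e, he, rfl⟩, rfl⟩
            rw [mem_centralizer_iff]
            rintro _ ⟨a, ha, rfl⟩
            obtain ⟨a', ha', rfl⟩ := hjg ha
            have := hNab _ (mem_map_of_mem π ha') _ (mem_map_of_mem π (hEN he))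
            simp only [MulEquiv.coe_toMonoidHom, MulAut.conj_apply, map_mul, map_inv]
            calc π g * π a' * (π g)⁻¹ * (π g * π e * (π g)⁻¹) = π g * (π a' * π e) * (π g)⁻¹ := by group
              _ = π g * (π e * π a') * (π g)⁻¹ := by rw [this]
              _ = π g * π e * (π g)⁻¹ * (π g * π a' * (π g)⁻¹) := by group
        rw [Subgroup.lowerCentralSeries_succ, commutator_le]
        intro a ha b hb
        have h3 := mem_centralizer_iff.1 (h2 (mem_map_of_mem π hb)) _ (mem_map_of_mem π ha)
        have h4 : π ⁅a, b⁆ = 1 := by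
          rw [map_commutatorElement, commutatorElement_eq_one_iff_mul_comm]; exact h3
        exact hZE ((QuotientGroup.eq_one_iff _).1 h4)
      · -- `N` has index `p`
        have hNp : N.index = p := by
          obtain ⟨j, hj⟩ := relIndex_pow hP N ⊤
          rw [relIndex_top_right] at hj
          rcases j with _ | _ | j
          · exact absurd (index_eq_one.1 (by simpa using hj)) h.normalizer_ne_top
          · simpa using hj
          · exact absurd (hj ▸ Nat.pow_le_pow_right hp.out.pos (by omega)) hbig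
        have hover' : ∀ K : Subgroup P, E ≤ K → K = E ∨ K = N ∨ K = ⊤ := by
          intro K hK
          rcases hover K hK with e | hK'
          · exact Or.inl e
          right
          have h1 := relIndex_mul_index hK'
          rw [hNp] at h1
          rcases (Nat.dvd_prime hp.out).1 (Dvd.intro _ h1) with h2 | h2
          · exact Or.inl (le_antisymm (relIndex_eq_one.1 h2) hK')
          · rw [h2] at h1
            exact Or.inr (index_eq_one.1 ((Nat.mul_eq_left hp.out.ne_zero).1 h1))
        refine ⟨fun K L hK hL => ?_, fun K hK hKt => ?_, fun i K hK hKt hi => ?_⟩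
        · rcases hover' K hK with rfl | rfl | rfl <;> rcases hover' L hL with e | e | e <;>
            subst e <;> simp [hEN]
        · rcases hover' K hK with rfl | rfl | rfl
          · exact h.idx
          · exact hN2
          · exact absurd rfl hKt
        · rcases hover' K hK with rfl | rfl | rfl
          · exact Subgroup.lowerCentralSeries_le_self _ i
          · rcases i with _ | i
            · rw [hNi, pow_zero, mul_one] at hi
              exact absurd ((Nat.mul_eq_left index_ne_zero_of_finite).1 hi.symm) hp.out.ne_one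
            · refine (Subgroup.lowerCentralSeries_antitone _ (Nat.succ_le_succ (Nat.zero_le i))).trans ?_
              rw [Subgroup.lowerCentralSeries_succ, Subgroup.lowerCentralSeries_zero]
              exact hRN.trans hRE
          · exact absurd rfl hKt
    · -- the line is not `Z`
      have hsoft : IsSoft p (E.map π) := by
        refine ⟨?_, ?_, ?_, ?_⟩
        · rintro _ ⟨a, ha, rfl⟩ _ ⟨b, hb, rfl⟩
          rw [← map_mul, h.ab a ha b hb, map_mul]
        · intro y hy
          obtain ⟨y, rfl⟩ := hsurj y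
          by_contra hyE
          have hyE' : y ∉ E := fun h' => hyE (mem_map_of_mem π h')
          have hyN : y ∈ N := by
            refine map_conj_eq_self_iff.1 (eq_of_le_of_card_ge ?_ (card_map_conj E _).ge)
            rintro _ ⟨e, he, rfl⟩
            have h1 := mem_centralizer_iff.1 hy _ (mem_map_of_mem π he)
            have h2 : π (e⁻¹ * (y * e * y⁻¹)) = 1 := by
              rw [map_mul, map_mul, map_mul, map_inv, map_inv, ← h1, mul_inv_cancel_right, inv_mul_cancel]
            show y * e * y⁻¹ ∈ E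
            simpa using mul_mem he (hZE ((QuotientGroup.eq_one_iff _).1 h2))
          have hgen : E ⊔ zpowers y = N := le_antisymm (sup_le hEN (zpowers_le.2 hyN))
            (h.normalizer_le hP le_sup_left fun e => hyE' (e ▸ mem_sup_right (mem_zpowers y)))
          apply hRZ
          refine hRmin Z ?_
          rw [commutator_le]
          intro a ha b hb
          have h1 : π b ∈ centralizer ((E.map π : Subgroup (P ⧸ Z)) : Set (P ⧸ Z)) := by
            have : N.map π ≤ centralizer ((E.map π : Subgroup (P ⧸ Z)) : Set (P ⧸ Z)) := by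
              rw [← hgen, Subgroup.map_sup, MonoidHom.map_zpowers, sup_le_iff, zpowers_le]
              refine ⟨?_, hy⟩
              rintro _ ⟨e, he, rfl⟩
              rw [mem_centralizer_iff]
              rintro _ ⟨e', he', rfl⟩
              rw [← map_mul, h.ab e' he' e he, map_mul]
            exact this (mem_map_of_mem π hb)
          have h2 : π ⁅a, b⁆ = 1 := by
            rw [map_commutatorElement, commutatorElement_eq_one_iff_mul_comm]
            exact mem_centralizer_iff.1 h1 _ (mem_map_of_mem π ha)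
          exact (QuotientGroup.eq_one_iff _).1 h2
        · rw [hrim E hZE]; exact h.idx
        · rw [hidxm E hZE]; exact h.big
      obtain ⟨hC, hNo, hU⟩ := ih _ hlt (P ⧸ Z) rfl hPb _ hsoft
      refine ⟨fun K L hK hL => ?_, fun K hK hKt => ?_, fun i K hK hKt hi => ?_⟩
      · rcases hC _ _ (map_mono hK) (map_mono hL) with h1 | h1
        · exact Or.inl (by rw [← hcm K (hZE.trans hK), ← hcm L (hZE.trans hL)]; exact comap_mono h1)
        · exact Or.inr (by rw [← hcm K (hZE.trans hK), ← hcm L (hZE.trans hL)]; exact comap_mono h1)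
      · rw [← hrim K (hZE.trans hK)]
        exact hNo _ (map_mono hK) (hmne K (hZE.trans hK) hKt)
      · refine hlcs K E i hZE (hU i _ (map_mono hK) (hmne K (hZE.trans hK) hKt) ?_)
        rw [hidxm K (hZE.trans hK), hidxm E hZE]; exact hi

/-- The `i`-th member of the tower has class exactly `i + 1`. -/
theorem nilpotencyClass_eq (hP : IsPGroup p P) {E : Subgroup P} (h : IsSoft p E) {i : ℕ}
    {K : Subgroup P} [Group.IsNilpotent K] (hK : E ≤ K) (hKt : K ≠ ⊤)
    (hi : K.index * p ^ i = E.index) : Group.nilpotencyClass K = i + 1 := by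
  obtain ⟨hC, hNo, hU⟩ := tower _ P rfl hP E h
  obtain ⟨g, hg, hgen⟩ := sup_conj_eq hP hC hNo hK hKt
  have hEK : E.relIndex K = p ^ i := by
    have h1 := relIndex_mul_index hK
    rw [← hi, mul_comm K.index] at h1
    exact Nat.eq_of_mul_eq_mul_right (Nat.pos_of_ne_zero index_ne_zero_of_finite) h1
  have hlow : ∀ (j : ℕ) (L : Subgroup P), E ≤ L → L ≤ K → K.lowerCentralSeries j ≤ L →
      L.relIndex K ≤ p ^ j := by
    intro j
    induction j with
    | zero =>
      intro L _ _ hle
      rw [relIndex_eq_one.2 (by simpa using hle), pow_zero]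
    | succ j ih =>
      intro L hEL hLK hle
      by_cases hLK' : L = K
      · rw [hLK', relIndex_self]; exact Nat.one_le_pow _ _ hp.out.pos
      have hLt : L ≠ ⊤ := fun e => hKt (top_le_iff.1 (e ▸ hLK))
      have hle' : K.lowerCentralSeries j ≤ normalizer (L : Set P) := by
        refine le_normalizer_iff_commutator_le_left.2 ?_
        rw [Subgroup.commutator_comm]
        exact (commutator_mono le_rfl hLK).trans hle
      have hNK : normalizer (L : Set P) ≤ K := by
        rcases hC (normalizer (L : Set P)) K (hEL.trans le_normalizer) hK with h1 | h1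
        · exact h1
        · have h2 := relIndex_mul_relIndex L K (normalizer (L : Set P)) hLK h1
          rw [hNo L hEL hLt] at h2
          have h3 := relIndex_eq_one_or_prime_le hP (H := L) (K := K) fun h' => hLK' (le_antisymm hLK h')
          have h4 : K.relIndex (normalizer (L : Set P)) ≠ 0 := index_ne_zero_of_finite
          have h5 : K.relIndex (normalizer (L : Set P)) = 1 := by nlinarith [hp.out.pos]
          exact relIndex_eq_one.1 h5
      have h6 := ih _ (hEL.trans le_normalizer) hNK hle'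
      rw [← relIndex_mul_relIndex L (normalizer (L : Set P)) K le_normalizer hNK, hNo L hEL hLt,
        pow_succ']
      exact Nat.mul_le_mul_left p h6
  have hupper : K.lowerCentralSeries (i + 1) = ⊥ := by
    have hKg : K.map (MulAut.conj g).toMonoidHom = K := map_conj_eq_self_iff.2 hg
    have h1 : K.lowerCentralSeries i ≤ E := hU i K hK hKt hi
    have h2 : K.lowerCentralSeries i ≤ E.map (MulAut.conj g).toMonoidHom := by
      rw [← hKg, ← Subgroup.map_lowerCentralSeries]; exact map_mono h1
    rw [Subgroup.lowerCentralSeries_succ, commutator_eq_bot_iff_le_centralizer, le_centralizer_iff]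
    conv_lhs => rw [← hgen]
    exact sup_le (fun e he => mem_centralizer_iff.2 fun a ha => h.ab a (h1 ha) e he)
      (fun e he => mem_centralizer_iff.2 fun a ha => (h.map_conj g).ab a (h2 ha) e he)
  have hlower : K.lowerCentralSeries i ≠ ⊥ := by
    intro hbot
    rcases i with _ | j
    · rw [Subgroup.lowerCentralSeries_zero] at hbot
      have hE : E = ⊥ := le_bot_iff.1 (hbot ▸ hK)
      exact h.normalizer_ne_top (by rw [hE, normalizer_eq_top])
    · rw [Subgroup.lowerCentralSeries_succ, commutator_eq_bot_iff_le_centralizer] at hbot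
      have := hlow j E le_rfl hK ((hbot.trans (centralizer_le hK)).trans h.cent)
      rw [hEK] at this
      exact absurd this (not_le.2 (Nat.pow_lt_pow_right hp.out.one_lt (Nat.lt_succ_self j)))
  refine le_antisymm (Subgroup.lowerCentralSeries_eq_bot_iff_nilpotencyClass_le.1 ?_) ?_
  · exact (map_eq_bot_iff_of_injective _ K.subtype_injective).1
      (by rw [Subgroup.top_subtype_lowerCentralSeries]; exact hupper)
  · by_contra hlt
    apply hlower
    rw [← Subgroup.top_subtype_lowerCentralSeries, map_eq_bot_iff_of_injective _ K.subtype_injective]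
    exact Subgroup.lowerCentralSeries_eq_bot_iff_nilpotencyClass_le.2 (by omega)

end CfsgLib.SoftSubgroup
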