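import Mathlib
import Cfsg.Agent.Lib.PGroup.Extraspecial
import Cfsg.Agent.Lib.PGroup.SoftSubgroup
import Cfsg.Agent.Lib.Coprime.Commutator

/-!
# `p`-groups with an abelian or extraspecial subgroup of index `p`
-/

namespace CfsgLib.PGroup

open scoped commutatorElement

variable {S : Type*} [Group S] [Finite S] {p : ℕ} [hp : Fact p.Prime]

theorem normal_of_index_eq (hS : IsPGroup p S) {A : Subgroup S} (hA : A.index = p) : A.Normal := by
  obtain ⟨n, hn⟩ := hS.exists_card_eq
  refine Subgroup.normal_of_index_eq_minFac_card ?_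
  rcases n with _ | n
  · exfalso
    have h1 := A.index_dvd_card
    rw [hA, hn, pow_zero, Nat.dvd_one] at h1
    exact hp.out.ne_one h1
  · rw [hA, hn, Nat.pow_minFac (by omega), hp.out.minFac_eq]

theorem sup_eq_top_of_notMem {A : Subgroup S} (hA : A.index = p) {x : S} (hx : x ∉ A) :
    A ⊔ Subgroup.zpowers x = ⊤ := by
  rcases hp.out.eq_one_or_self_of_dvd _ (hA ▸ Subgroup.index_dvd_of_le (le_sup_left : A ≤ A ⊔ Subgroup.zpowers x)) with h | h
  · exact Subgroup.index_eq_one.mp h
  · exfalso
    have h1 : A = A ⊔ Subgroup.zpowers x := by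
      refine Subgroup.eq_of_le_of_card_ge le_sup_left (le_of_eq ?_)
      have e1 := A.card_mul_index
      have e2 := (A ⊔ Subgroup.zpowers x).card_mul_index
      rw [hA] at e1
      rw [h, ← e1] at e2
      exact Nat.eq_of_mul_eq_mul_right hp.out.pos e2
    exact hx (h1.ge (Subgroup.mem_sup_right (Subgroup.mem_zpowers x)))

omit [Finite S] in
theorem isMulCommutative_of_sup {A : Subgroup S} (hA : IsMulCommutative A) {x : S}
    (hx : x ∈ Subgroup.centralizer (A : Set S)) (h : A ⊔ Subgroup.zpowers x = ⊤) : IsMulCommutative S := by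
  have hc : ⊤ ≤ Subgroup.centralizer ((⊤ : Subgroup S) : Set S) := by
    rw [← h]
    refine sup_le (Subgroup.le_centralizer_iff.mp (sup_le ?_ ?_))
      (Subgroup.le_centralizer_iff.mp (sup_le ?_ ?_))
    · exact Subgroup.le_centralizer_iff_isMulCommutative.mpr hA
    · exact Subgroup.zpowers_le.mpr hx
    · exact Subgroup.le_centralizer_iff.mp (Subgroup.zpowers_le.mpr hx)
    · exact Subgroup.le_centralizer_iff_isMulCommutative.mpr inferInstance
  exact ⟨⟨fun a b => (hc (Subgroup.mem_top b) a (Subgroup.mem_top a))⟩⟩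

theorem center_le_of_abelian_index (hna : ¬ IsMulCommutative S) {A : Subgroup S} (hA : IsMulCommutative A)
    (hi : A.index = p) : Subgroup.center S ≤ A := fun z hz => by_contra fun h =>
  hna (isMulCommutative_of_sup hA (fun a _ => Subgroup.mem_center_iff.mp hz a) (sup_eq_top_of_notMem hi h))

/-- `[S : Z(S)] = p |S'|` when an abelian subgroup has index `p`. -/
theorem index_center_of_abelian_index (hS : IsPGroup p S) (hna : ¬ IsMulCommutative S) {A : Subgroup S}
    (hA : IsMulCommutative A) (hi : A.index = p) :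
    (Subgroup.center S).index = p * Nat.card (commutator S) := by
  have hn := normal_of_index_eq hS hi
  have hne : A ≠ ⊤ := fun h => by rw [h, Subgroup.index_top] at hi; exact hp.out.ne_one hi.symm
  obtain ⟨x, -, hx⟩ := SetLike.exists_of_lt hne.lt_top
  have hsup := sup_eq_top_of_notMem hi hx
  have hcA : ∀ a ∈ A, ∀ b ∈ A, a * b = b * a := fun a ha b hb =>
    congrArg Subtype.val (hA.is_comm.comm ⟨a, ha⟩ ⟨b, hb⟩)
  have hmem : ∀ a ∈ A, ⁅x, a⁆ ∈ A := fun a ha => by
    rw [commutatorElement_def]; exact A.mul_mem (hn.conj_mem a ha x) (A.inv_mem ha)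
  let f : A →* A :=
    { toFun := fun a => ⟨⁅x, a⁆, hmem a a.2⟩
      map_one' := Subtype.ext (by simp [commutatorElement_def])
      map_mul' := fun a b => Subtype.ext (by
        show ⁅x, (a : S) * b⁆ = ⁅x, (a : S)⁆ * ⁅x, (b : S)⁆
        rw [commutatorElement_def, commutatorElement_def, commutatorElement_def,
          show x * ((a : S) * b) * x⁻¹ * ((a : S) * b)⁻¹ = (x * a * x⁻¹) * ((x * b * x⁻¹ * (b : S)⁻¹) * (a : S)⁻¹) by group,
          hcA _ (by rw [← commutatorElement_def]; exact hmem b b.2) _ (A.inv_mem a.2)]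
        group) }
  have hker : f.ker.map A.subtype = Subgroup.center S := by
    refine le_antisymm ?_ fun z hz => ⟨⟨z, center_le_of_abelian_index hna hA hi hz⟩, ?_, rfl⟩
    · rintro _ ⟨a, ha, rfl⟩
      refine Subgroup.mem_center_iff.mpr fun g => ?_
      have hx : x * (a : S) = a * x := commutatorElement_eq_one_iff_mul_comm.mp (congrArg Subtype.val ha)
      have : g ∈ Subgroup.centralizer ({(a : S)} : Set S) := by
        refine (hsup ▸ sup_le ?_ ?_ : ⊤ ≤ Subgroup.centralizer ({(a : S)} : Set S)) (Subgroup.mem_top g)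
        · exact fun b hb => Subgroup.mem_centralizer_singleton_iff.mpr (hcA b hb a a.2)
        · exact Subgroup.zpowers_le.mpr (Subgroup.mem_centralizer_singleton_iff.mpr hx)
      exact Subgroup.mem_centralizer_singleton_iff.mp this
    · exact Subtype.ext (commutatorElement_eq_one_iff_mul_comm.mpr (Subgroup.mem_center_iff.mp hz x))
  set I := f.range.map A.subtype with hI
  have hIn : I.Normal := by
    refine Subgroup.normalizer_eq_top_iff.mp (top_le_iff.mp ?_)
    rw [← hsup]
    refine sup_le (fun b hb => Subgroup.centralizer_le_normalizer _ fun c hc => ?_) ?_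
    · obtain ⟨d, -, rfl⟩ := hc
      exact hcA _ d.2 b hb
    · refine Subgroup.zpowers_le.mpr (CfsgLib.Coprime.mem_normalizer_of_forall_conj ?_)
      rintro _ ⟨_, ⟨a, rfl⟩, rfl⟩
      refine ⟨f ⟨x * a * x⁻¹, hn.conj_mem a a.2 x⟩, ⟨_, rfl⟩, ?_⟩
      show ⁅x, x * (a : S) * x⁻¹⁆ = x * ⁅x, (a : S)⁆ * x⁻¹
      simp only [commutatorElement_def]; group
  have hIcomm : commutator S = I := by
    refine le_antisymm ?_ ?_
    · have hab : IsMulCommutative (S ⧸ I) := by
        refine isMulCommutative_of_sup (A := A.map (QuotientGroup.mk' I)) ⟨⟨?_⟩⟩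
          (x := QuotientGroup.mk' I x) ?_ ?_
        · rintro ⟨_, a, ha, rfl⟩ ⟨_, b, hb, rfl⟩
          exact Subtype.ext (by
            show QuotientGroup.mk' I a * QuotientGroup.mk' I b = QuotientGroup.mk' I b * QuotientGroup.mk' I a
            rw [← map_mul, hcA a ha b hb, map_mul])
        · rintro _ ⟨a, ha, rfl⟩
          refine (commutatorElement_eq_one_iff_mul_comm.mp ?_).symm
          rw [← map_commutatorElement]
          exact (QuotientGroup.eq_one_iff _).mpr ⟨f ⟨a, ha⟩, ⟨_, rfl⟩, rfl⟩
        · rw [← MonoidHom.map_zpowers, ← Subgroup.map_sup, hsup,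
            Subgroup.map_top_of_surjective _ (QuotientGroup.mk'_surjective I)]
      rw [← QuotientGroup.ker_mk' I, commutator_def, Subgroup.commutator_le]
      intro g _ h _
      rw [MonoidHom.mem_ker, map_commutatorElement, commutatorElement_eq_one_iff_mul_comm]
      exact hab.is_comm.comm _ _
    · rintro _ ⟨_, ⟨a, rfl⟩, rfl⟩
      exact Subgroup.commutator_mem_commutator (Subgroup.mem_top x) (Subgroup.mem_top (a : S))
  rw [hIcomm, hI, Subgroup.card_map_of_injective A.subtype_injective,
    ← Subgroup.relIndex_mul_index (center_le_of_abelian_index hna hA hi), hi, mul_comm]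
  congr 1
  rw [Subgroup.relIndex, ← Nat.card_congr (QuotientGroup.quotientKerEquivRange f).toEquiv, ← Subgroup.index]
  congr 1
  rw [← hker, ← Subgroup.comap_subtype, Subgroup.comap_map_eq_self_of_injective A.subtype_injective]

theorem extraspecial_center_map_le (hS : IsPGroup p S) {Q : Subgroup S} [Q.Normal]
    (hQ : Cfsg.IsExtraspecial p Q) :
    (Subgroup.center Q).map Q.subtype ≤ Subgroup.center S := by
  have : (Subgroup.center Q).Characteristic := inferInstance
  have : ((Subgroup.center Q).map Q.subtype).Normal := inferInstance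
  exact CfsgLib.SoftSubgroup.le_center_of_card_eq hS _
    (by rw [Subgroup.card_map_of_injective Q.subtype_injective]; exact hQ.2)

end CfsgLib.PGroup
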