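import Cfsg.Agent.Lib.SubgroupCount.Basic

/-!
Non-abelian `p`-groups with a cyclic subgroup of index `p`.
-/

set_option autoImplicit false

namespace CfsgLib.CyclicIndex

open Subgroup

variable {G : Type*} [Group G] [Finite G] {p : ℕ} [hp : Fact p.Prime]

theorem zpow_eq_zpow {a : G} {N : ℕ} (ha : orderOf a = N) {i j : ℤ} (h : (N : ℤ) ∣ i - j) :
    a ^ i = a ^ j := by
  have h1 : a ^ (i - j) = 1 := orderOf_dvd_iff_zpow_eq_one.1 (ha ▸ h)
  calc a ^ i = a ^ (i - j) * a ^ j := by rw [← zpow_add, sub_add_cancel]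
    _ = a ^ j := by rw [h1, one_mul]

theorem dvd_sub_of_zpow_eq {a : G} {N : ℕ} (ha : orderOf a = N) {i j : ℤ} (h : a ^ i = a ^ j) :
    (N : ℤ) ∣ i - j :=
  ha ▸ orderOf_dvd_iff_zpow_eq_one.2 (by rw [zpow_sub, h, mul_inv_cancel])

/-- Generators: `a` of order `p ^ (n - 1)`, `y ∉ ⟨a⟩` with `y a y⁻¹ = a ^ r`, `y ^ p = a ^ (p j)`. -/
theorem data {n : ℕ} (hn : 3 ≤ n) (hG : Nat.card G = p ^ n) (C : Subgroup G) (hC : IsCyclic C)
    (hCi : C.index = p) (hna : ∃ x y : G, x * y ≠ y * x) :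
    ∃ (a y : G) (r j : ℤ), orderOf a = p ^ (n - 1) ∧ y ∉ zpowers a ∧ y * a * y⁻¹ = a ^ r ∧
      y ^ p = a ^ ((p : ℤ) * j) ∧ ¬ ((p ^ (n - 1) : ℕ) : ℤ) ∣ r - 1 ∧
      ((p ^ (n - 1) : ℕ) : ℤ) ∣ r ^ p - 1 ∧ ((p ^ (n - 1) : ℕ) : ℤ) ∣ (p : ℤ) * j * r - (p : ℤ) * j := by
  obtain ⟨a, rfl⟩ := (Subgroup.isCyclic_iff_exists_zpowers_eq_top C).1 hC
  have ha : orderOf a = p ^ (n - 1) := by
    have h := card_mul_index (zpowers a)
    rw [Nat.card_zpowers, hCi, hG, show p ^ n = p ^ (n - 1) * p by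
      rw [← pow_succ]; congr 1; omega] at h
    exact Nat.eq_of_mul_eq_mul_right hp.out.pos h
  haveI : (zpowers a).Normal := by
    haveI := (IsPGroup.of_card hG).isNilpotent
    refine normal_of_index_eq_minFac_card ?_
    rw [hCi, hG, Nat.pow_minFac (by omega), hp.out.minFac_eq]
  obtain ⟨y, hy⟩ : ∃ y, y ∉ zpowers a := by
    by_contra h
    push Not at h
    have h1 : zpowers a = ⊤ := (eq_top_iff' _).2 h
    rw [h1, index_top] at hCi
    exact hp.out.one_lt.ne hCi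
  obtain ⟨r, hr⟩ := mem_zpowers_iff.1
    ((inferInstance : (zpowers a).Normal).conj_mem a (mem_zpowers a) y)
  have hyp : y ^ p ∈ zpowers a := by
    rw [← hCi]
    exact Subgroup.pow_index_mem _ y
  obtain ⟨e, he⟩ := mem_zpowers_iff.1 hyp
  have hgen : zpowers a ⊔ zpowers y = ⊤ := by
    have hlt : zpowers a < zpowers a ⊔ zpowers y :=
      lt_of_le_of_ne le_sup_left fun h => hy (h.ge (mem_sup_right (mem_zpowers y)))
    have h1 := relIndex_mul_index (le_sup_left : zpowers a ≤ zpowers a ⊔ zpowers y)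
    rw [hCi] at h1
    rcases (Nat.dvd_prime hp.out).1 (h1 ▸ dvd_mul_left _ _) with h2 | h2
    · exact index_eq_one.1 h2
    · rw [h2, mul_eq_right₀ hp.out.ne_zero, relIndex_eq_one] at h1
      exact absurd h1 hlt.not_ge
  have hnc : ¬ Commute a y := by
    intro hc
    obtain ⟨u, v, huv⟩ := hna
    apply huv
    have : IsMulCommutative (⊤ : Subgroup G) := by
      rw [← hgen, zpowers_eq_closure, zpowers_eq_closure, ← Subgroup.closure_union]
      refine Subgroup.isMulCommutative_closure ?_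
      rintro s (rfl | rfl) t (rfl | rfl)
      · rfl
      · exact hc.eq
      · exact hc.eq.symm
      · rfl
    exact setLike_mul_comm (mem_top u) (mem_top v)
  have hconj : y * a * y⁻¹ = a ^ r := hr.symm
  have hpow : ∀ (i : ℕ), y ^ i * a * (y ^ i)⁻¹ = a ^ (r ^ i) := by
    intro i
    induction i with
    | zero => simp
    | succ i ih =>
      calc y ^ (i + 1) * a * (y ^ (i + 1))⁻¹ = y * (y ^ i * a * (y ^ i)⁻¹) * y⁻¹ := by
            rw [pow_succ']; group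
        _ = (y * a * y⁻¹) ^ (r ^ i) := by rw [ih, conj_zpow]
        _ = a ^ (r ^ (i + 1)) := by rw [hconj, ← zpow_mul, pow_succ']
  -- `p ∣ e`
  obtain ⟨j, rfl⟩ : (p : ℤ) ∣ e := by
    by_contra hpe
    apply hnc
    have hcop : IsCoprime e ((p ^ (n - 1) : ℕ) : ℤ) := by
      push_cast
      exact (((Nat.prime_iff_prime_int.1 hp.out).coprime_iff_not_dvd.2 hpe).symm).pow_right
    obtain ⟨u, v, huv⟩ := hcop
    have hmem : a = (y ^ p) ^ u := by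
      rw [← he, ← zpow_mul]
      conv_lhs => rw [← zpow_one a]
      exact zpow_eq_zpow ha ⟨v, by linear_combination -huv⟩
    rw [hmem]
    exact ((Commute.refl y).pow_left p).zpow_left u
  refine ⟨a, y, r, j, ha, hy, hconj, he.symm, fun h => hnc ?_, ?_, ?_⟩
  · rw [zpow_eq_zpow ha (j := 1) h, zpow_one, mul_inv_eq_iff_eq_mul] at hconj
    exact hconj.symm
  · refine dvd_sub_of_zpow_eq ha ?_
    rw [← hpow p, zpow_one, ← he]
    group
  · refine dvd_sub_of_zpow_eq ha ?_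
    rw [mul_comm ((p : ℤ) * j) r, zpow_mul, ← hconj, conj_zpow, he, ((Commute.refl y).pow_right p).eq,
      mul_inv_cancel_right]

theorem odd_classification (hp2 : p ≠ 2) {n : ℕ} (hn : 3 ≤ n) (hG : Nat.card G = p ^ n)
    (C : Subgroup G) (hC : IsCyclic C) (hCi : C.index = p) (hna : ∃ x y : G, x * y ≠ y * x) :
    ∃ a b : G, orderOf a = p ^ (n - 1) ∧ orderOf b = p ∧ b ∉ zpowers a ∧
      b * a * b⁻¹ = a ^ (1 + p ^ (n - 2)) := by
  obtain ⟨a, y, r, j, ha, hy, hconj, hyp, hr1, hrp, -⟩ := data hn hG C hC hCi hna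
  obtain ⟨k, rfl⟩ : ∃ k, n = k + 3 := ⟨n - 3, by omega⟩
  rw [show k + 3 - 1 = k + 2 by omega] at *
  rw [show k + 3 - 2 = k + 1 by omega]
  push_cast at hr1 hrp
  have hpi : Prime (p : ℤ) := Nat.prime_iff_prime_int.1 hp.out
  have hpr : (p : ℤ) ∣ r - 1 := by
    have h1 : (p : ℤ) ∣ r ^ p - 1 := (dvd_pow_self _ (by omega)).trans hrp
    rw [← ZMod.intCast_zmod_eq_zero_iff_dvd] at h1 ⊢
    push_cast at h1 ⊢
    rwa [ZMod.pow_card] at h1
  obtain ⟨t, ht⟩ := hpr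
  have h2 := odd_sq_dvd_geom_sum₂_sub (p := p) (R := ℤ) 1 t (hp.out.odd_of_ne_two hp2)
  simp only [one_pow, mul_one, show (1 : ℤ) + p * t = r by linarith] at h2
  obtain ⟨w, hw⟩ := h2
  have hgeo := mul_geom_sum r p
  have hu : ∑ i ∈ Finset.range p, r ^ i = (p : ℤ) * (1 + p * w) := by linarith
  have hnd : ¬ (p : ℤ) ∣ 1 + p * w := fun hd => by
    have := dvd_sub hd (Dvd.intro w rfl : (p : ℤ) ∣ p * w)
    simp at this
    exact hpi.not_dvd_one this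
  have hlift : (p : ℤ) ^ (k + 1) ∣ r - 1 := by
    have h3 : (p : ℤ) ^ (k + 1) * p ∣ (r - 1) * (1 + p * w) * p := by
      rw [← pow_succ, show (r - 1) * (1 + p * w) * p = (r - 1) * ((p : ℤ) * (1 + p * w)) by ring,
        ← hu, hgeo]
      exact hrp
    exact hpi.pow_dvd_of_dvd_mul_right _ hnd (Int.dvd_of_mul_dvd_mul_right hpi.ne_zero h3)
  obtain ⟨s, hs⟩ := hlift
  have hps : ¬ (p : ℤ) ∣ s := fun ⟨s', hs'⟩ => hr1 ⟨s', by rw [hs, hs', pow_succ _ (k + 1)]; ring⟩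
  obtain ⟨α, hα⟩ := CfsgLib.SubgroupCount.exists_pow_eq_one_of_cyclic_index hp.out a y ha r j hconj
    ⟨t, ht⟩ (fun h => absurd h hp2) hyp
  set b₀ := a ^ α * y with hb₀
  have hb₀a : b₀ * a * b₀⁻¹ = a * a ^ ((p : ℤ) ^ (k + 1) * s) := by
    rw [← hs]
    calc b₀ * a * b₀⁻¹ = a ^ α * (y * a * y⁻¹) * (a ^ α)⁻¹ := by rw [hb₀]; group
      _ = _ := by rw [hconj]; group
  set z := a ^ ((p : ℤ) ^ (k + 1) * s) with hz
  have hzc : b₀ * z * b₀⁻¹ = z := by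
    rw [hz, ← conj_zpow, hb₀a, hz]
    rw [← zpow_one_add, ← zpow_mul]
    refine zpow_eq_zpow ha ⟨(p : ℤ) ^ k * s * s, ?_⟩
    push_cast
    ring
  have hiter : ∀ i : ℕ, b₀ ^ i * a * (b₀ ^ i)⁻¹ = a * z ^ i := by
    intro i
    induction i with
    | zero => simp
    | succ i ih =>
      calc b₀ ^ (i + 1) * a * (b₀ ^ (i + 1))⁻¹ = b₀ * (b₀ ^ i * a * (b₀ ^ i)⁻¹) * b₀⁻¹ := by
            rw [pow_succ']; group
        _ = (b₀ * a * b₀⁻¹) * (b₀ * z * b₀⁻¹) ^ i := by rw [ih, conj_pow]; group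
        _ = a * z ^ (i + 1) := by rw [hzc, hb₀a, pow_succ', mul_assoc]
  obtain ⟨u, v, huv⟩ := hpi.coprime_iff_not_dvd.2 hps
  set m : ℕ := (v % (p : ℤ)).toNat with hm
  have hm' : (m : ℤ) = v % (p : ℤ) :=
    Int.toNat_of_nonneg (Int.emod_nonneg _ (by exact_mod_cast hp.out.ne_zero))
  have hms : (p : ℤ) ∣ m * s - 1 := by
    rw [hm']
    refine ⟨-(u + v / p * s), ?_⟩
    have := Int.emod_def v (p : ℤ)
    linear_combination huv + s * this
  have hb₀ne : b₀ ∉ zpowers a := fun h => hy (by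
    have := mul_mem (inv_mem (zpow_mem (mem_zpowers a) α)) h
    rwa [hb₀, inv_mul_cancel_left] at this)
  have hco : Nat.Coprime m p := by
    rw [Nat.coprime_comm, hp.out.coprime_iff_not_dvd]
    intro hd
    have h1 : (p : ℤ) ∣ (m : ℤ) * s := dvd_mul_of_dvd_left (by exact_mod_cast hd) s
    have := dvd_sub h1 hms
    simp at this
    exact hpi.not_dvd_one this
  refine ⟨a, b₀ ^ m, ha, ?_, ?_, ?_⟩
  · rw [Nat.Coprime.orderOf_pow]
    · exact orderOf_eq_prime hα fun h => hb₀ne (h ▸ one_mem _)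
    · rw [orderOf_eq_prime hα fun h => hb₀ne (h ▸ one_mem _)]
      exact hco.symm
  · intro h
    apply hb₀ne
    obtain ⟨u', v', huv'⟩ := (Nat.isCoprime_iff_coprime.2 hco)
    have e : b₀ = (b₀ ^ m) ^ u' := by
      calc b₀ = b₀ ^ ((1 : ℤ)) := (zpow_one _).symm
        _ = b₀ ^ (u' * m + v' * p) := by rw [huv']
        _ = _ := by
          rw [zpow_add, mul_comm v' (p : ℤ), zpow_mul b₀ (p : ℤ), zpow_natCast b₀ p, hα, one_zpow,
            mul_one, mul_comm u' (m : ℤ), zpow_mul, zpow_natCast]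
    rw [e]
    exact zpow_mem h u'
  · rw [hiter, hz, ← zpow_natCast, ← zpow_mul, ← zpow_one_add, ← zpow_natCast]
    refine zpow_eq_zpow ha ?_
    obtain ⟨q, hq⟩ := hms
    refine ⟨q, ?_⟩
    push_cast
    linear_combination (p : ℤ) ^ (k + 1) * hq

theorem pow_dvd_or {k : ℕ} {r : ℤ} (h : (2 : ℤ) ^ (k + 2) ∣ r ^ 2 - 1) :
    (2 : ℤ) ^ (k + 1) ∣ r - 1 ∨ (2 : ℤ) ^ (k + 1) ∣ r + 1 := by
  have h2 : (2 : ℤ) ∣ r ^ 2 - 1 := (dvd_pow_self _ (by omega)).trans h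
  obtain ⟨s, hs⟩ : Odd r := by
    rcases Int.even_or_odd r with ⟨w, hw⟩ | h'
    · obtain ⟨q, hq⟩ := h2
      subst hw
      exfalso
      have : (1 : ℤ) = 2 * (2 * w * w - q) := by linarith
      omega
    · exact h'
  subst hs
  have h4 : (2 : ℤ) ^ k * 4 ∣ s * (s + 1) * 4 := by
    rw [show (2 : ℤ) ^ k * 4 = 2 ^ (k + 2) by ring, show s * (s + 1) * 4 = (2 * s + 1) ^ 2 - 1 by ring]
    exact h
  have hd := Int.dvd_of_mul_dvd_mul_right (by norm_num) h4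
  rcases Int.even_or_odd s with hs' | hs'
  · left
    have hnd : ¬ (2 : ℤ) ∣ s + 1 := by
      obtain ⟨w, rfl⟩ := hs'; omega
    have := (Int.prime_two).pow_dvd_of_dvd_mul_right _ hnd hd
    rw [show 2 * s + 1 - 1 = s * 2 by ring, pow_succ]
    exact mul_dvd_mul_right this 2
  · right
    have hnd : ¬ (2 : ℤ) ∣ s := by
      obtain ⟨w, rfl⟩ := hs'; omega
    have := (Int.prime_two).pow_dvd_of_dvd_mul_left _ hnd hd
    rw [show 2 * s + 1 + 1 = (s + 1) * 2 by ring, pow_succ]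
    exact mul_dvd_mul_right this 2

theorem two_classification {G : Type*} [Group G] [Finite G] {n : ℕ} (hn : 3 ≤ n)
    (hG : Nat.card G = 2 ^ n) (C : Subgroup G) (hC : IsCyclic C) (hCi : C.index = 2)
    (hna : ∃ x y : G, x * y ≠ y * x) :
    ∃ a b : G, orderOf a = 2 ^ (n - 1) ∧ b ∉ zpowers a ∧
      ((b ^ 2 = 1 ∧ b * a * b⁻¹ = a⁻¹) ∨
       (b ^ 2 = a ^ (2 ^ (n - 2)) ∧ b * a * b⁻¹ = a⁻¹) ∨
       (4 ≤ n ∧ b ^ 2 = 1 ∧ b * a * b⁻¹ = a ^ (1 + 2 ^ (n - 2))) ∨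
       (4 ≤ n ∧ b ^ 2 = 1 ∧ b * a * b⁻¹ = a ^ (2 ^ (n - 2) - 1))) := by
  haveI := Fact.mk Nat.prime_two
  obtain ⟨a, y, r, j, ha, hy, hconj, hy2, hr1, hrp, hrj⟩ := data (p := 2) hn hG C hC hCi hna
  obtain ⟨k, rfl⟩ : ∃ k, n = k + 3 := ⟨n - 3, by omega⟩
  rw [show k + 3 - 1 = k + 2 by omega] at *
  rw [show k + 3 - 2 = k + 1 by omega]
  push_cast at hr1 hrp hrj hy2
  refine ⟨a, ?_⟩
  have hneg : ∀ {b : G} {c : ℤ}, b * a * b⁻¹ = a ^ c → ((2 : ℤ) ^ (k + 2)) ∣ c + 1 →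
      b * a * b⁻¹ = a⁻¹ := by
    intro b c h1 h2
    rw [h1, ← zpow_neg_one]
    exact zpow_eq_zpow ha (by push_cast; simpa using h2)
  have hdih : (2 : ℤ) ^ (k + 2) ∣ r + 1 →
      ∃ b : G, orderOf a = 2 ^ (k + 2) ∧ b ∉ zpowers a ∧
        ((b ^ 2 = 1 ∧ b * a * b⁻¹ = a⁻¹) ∨ (b ^ 2 = a ^ (2 ^ (k + 1)) ∧ b * a * b⁻¹ = a⁻¹)) := by
    intro hm
    refine ⟨y, ha, hy, ?_⟩
    obtain ⟨q, hq⟩ := hm
    obtain ⟨q', hq'⟩ := hrj
    have h4j : (2 : ℤ) ^ k * 4 ∣ j * 4 := ⟨2 * j * q - q', by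
      linear_combination (-1 : ℤ) * hq' + 2 * j * hq⟩
    obtain ⟨i, hi⟩ := Int.dvd_of_mul_dvd_mul_right (by norm_num) h4j
    have hc := hneg hconj ⟨q, hq⟩
    rw [hy2]
    rcases Int.even_or_odd i with ⟨w, hw⟩ | ⟨w, hw⟩
    · refine Or.inl ⟨?_, hc⟩
      rw [← orderOf_dvd_iff_zpow_eq_one, ha]
      exact ⟨w, by rw [hi, hw]; push_cast; ring⟩
    · refine Or.inr ⟨?_, hc⟩
      rw [← zpow_natCast]
      exact zpow_eq_zpow ha ⟨w, by rw [hi, hw]; push_cast; ring⟩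
  rcases pow_dvd_or hrp with ⟨q, hq⟩ | ⟨q, hq⟩
  · -- `r = 1 + 2 ^ (k + 1) q`
    obtain ⟨w, hw⟩ : Odd q := by
      rcases Int.even_or_odd q with ⟨w, hw⟩ | h'
      · exact absurd ⟨w, by rw [hq, hw]; ring⟩ hr1
      · exact h'
    rcases Nat.eq_zero_or_pos k with rfl | hk
    · obtain ⟨b, hb⟩ := hdih ⟨w + 1, by simp at hq ⊢; linarith⟩
      exact ⟨b, hb.1, hb.2.1, hb.2.2.imp id Or.inl⟩
    obtain ⟨α, hα⟩ := CfsgLib.SubgroupCount.exists_pow_eq_one_of_cyclic_index Nat.prime_two a y ha r j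
      hconj (dvd_trans (dvd_pow_self _ (Nat.succ_ne_zero k)) ⟨q, by push_cast; exact hq⟩)
      (fun _ => dvd_trans (show (4 : ℤ) ∣ 2 ^ (k + 1) by
        simpa using pow_dvd_pow (2 : ℤ) (show 2 ≤ k + 1 by omega)) ⟨q, hq⟩) hy2
    refine ⟨a ^ α * y, ha, fun h => hy ?_, Or.inr (Or.inr (Or.inl ⟨by omega, hα, ?_⟩))⟩
    · have := mul_mem (inv_mem (zpow_mem (mem_zpowers a) α)) h
      rwa [inv_mul_cancel_left] at this
    · calc a ^ α * y * a * (a ^ α * y)⁻¹ = a ^ α * (y * a * y⁻¹) * (a ^ α)⁻¹ := by group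
        _ = a ^ r := by rw [hconj]; group
        _ = _ := by
          rw [← zpow_natCast]
          exact zpow_eq_zpow ha ⟨w, by push_cast; rw [hw] at hq; linear_combination hq⟩
  · -- `r = -1 + 2 ^ (k + 1) q`
    rcases Int.even_or_odd q with ⟨w, hw⟩ | ⟨w, hw⟩
    · obtain ⟨b, hb⟩ := hdih ⟨w, by rw [hq, hw]; ring⟩
      exact ⟨b, hb.1, hb.2.1, hb.2.2.imp id Or.inl⟩
    rcases Nat.eq_zero_or_pos k with rfl | hk
    · exact absurd ⟨w, by simp at hq ⊢; linarith⟩ hr1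
    -- `k ≥ 1`
    have hsemi : a ^ r = a ^ (2 ^ (k + 1) - 1) := by
      rw [← zpow_natCast]
      refine zpow_eq_zpow ha ⟨w, ?_⟩
      push_cast [Nat.one_le_two_pow]
      rw [hw] at hq
      linear_combination hq
    have hj : (2 : ℤ) ^ k ∣ j := by
      obtain ⟨q', hq'⟩ := hrj
      have hodd : ¬ (2 : ℤ) ∣ 2 ^ k * q - 1 := by
        obtain ⟨k', rfl⟩ : ∃ k', k = k' + 1 := ⟨k - 1, by omega⟩
        rw [pow_succ]
        rintro ⟨z, hz⟩
        have : (1 : ℤ) = 2 * (2 ^ k' * q - z) := by linarith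
        omega
      have h4 : (2 : ℤ) ^ k * 4 ∣ j * (2 ^ k * q - 1) * 4 :=
        ⟨q', by linear_combination hq' - 2 * j * hq⟩
      exact (Int.prime_two).pow_dvd_of_dvd_mul_right _ hodd
        (Int.dvd_of_mul_dvd_mul_right (by norm_num) h4)
    obtain ⟨i, hi⟩ := hj
    rcases Int.even_or_odd i with ⟨v, hv⟩ | ⟨v, hv⟩
    · refine ⟨y, ha, hy, Or.inr (Or.inr (Or.inr ⟨by omega, ?_, hconj.trans hsemi⟩))⟩
      rw [hy2, ← orderOf_dvd_iff_zpow_eq_one, ha]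
      exact ⟨v, by rw [hi, hv]; push_cast; ring⟩
    · refine ⟨a * y, ha, fun h => hy ?_, Or.inr (Or.inr (Or.inr ⟨by omega, ?_, ?_⟩))⟩
      · have := mul_mem (inv_mem (mem_zpowers a)) h
        rwa [inv_mul_cancel_left] at this
      · calc (a * y) ^ 2 = a * (y * a * y⁻¹) * y ^ 2 := by rw [pow_two, pow_two]; group
          _ = a ^ (1 + r + 2 * j) := by rw [hconj, hy2]; group
          _ = a ^ (0 : ℤ) := zpow_eq_zpow ha
              ⟨w + v + 1, by push_cast; rw [hw] at hq; rw [hi, hv]; linear_combination hq⟩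
          _ = 1 := zpow_zero a
      · calc a * y * a * (a * y)⁻¹ = a * (y * a * y⁻¹) * a⁻¹ := by group
          _ = a ^ r := by rw [hconj]; group
          _ = _ := hsemi

end CfsgLib.CyclicIndex
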