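import Cfsg.Agent.Lib.Fusion.MaxClass
import Cfsg.Agent.Lib.PGroup.Frattini
import Cfsg.Agent.Lib.H82.HallPetrescu
import Cfsg.Prelude.Def_PLocal

/-!
# An elementary abelian section in a `p`-group of maximal class
-/

namespace CfsgLib.MaxClassRank

open Subgroup
open scoped commutatorElement IsMulCommutative

variable {G : Type*} [Group G] [Finite G] {p n : ℕ} [hp : Fact p.Prime]

theorem lcs_mk' {T : Type*} [Group T] (N : Subgroup T) [N.Normal] (i : ℕ) :
    ((⊤ : Subgroup T).lowerCentralSeries i).map (QuotientGroup.mk' N) =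
      (⊤ : Subgroup (T ⧸ N)).lowerCentralSeries i := by
  rw [Subgroup.map_lowerCentralSeries, Subgroup.map_top_of_surjective _ (QuotientGroup.mk'_surjective N)]

omit [Finite G] hp in
/-- The terms of the lower central series decrease strictly. -/
theorem not_le_succ (hbot : (⊤ : Subgroup G).lowerCentralSeries (n - 1) = ⊥)
    (hne : (⊤ : Subgroup G).lowerCentralSeries (n - 2) ≠ ⊥) {i : ℕ} (hi : i + 2 ≤ n) :
    ¬ (⊤ : Subgroup G).lowerCentralSeries i ≤ (⊤ : Subgroup G).lowerCentralSeries (i + 1) := by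
  intro h
  have hall : ∀ j, (⊤ : Subgroup G).lowerCentralSeries i ≤ (⊤ : Subgroup G).lowerCentralSeries (i + j) := by
    intro j
    induction j with
    | zero => exact le_rfl
    | succ j ih =>
      refine h.trans ?_
      rw [← Nat.add_assoc, Subgroup.lowerCentralSeries_succ, Subgroup.lowerCentralSeries_succ]
      exact Subgroup.commutator_mono ih le_rfl
  refine hne (le_bot_iff.mp (((⊤ : Subgroup G).lowerCentralSeries_antitone (show i ≤ n - 2 by omega)).trans ?_))
  rw [← hbot]
  exact (hall (n - 1 - i)).trans (le_of_eq (by congr 1; omega))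

/-- The orders of the terms of the lower central series. -/
theorem card_lcs (hG : Nat.card G = p ^ n) (hn : 3 ≤ n) (hbot : (⊤ : Subgroup G).lowerCentralSeries (n - 1) = ⊥)
    (hne : (⊤ : Subgroup G).lowerCentralSeries (n - 2) ≠ ⊥) :
    ∀ i, 1 ≤ i → i + 1 ≤ n → Nat.card ((⊤ : Subgroup G).lowerCentralSeries i) = p ^ (n - 1 - i) := by
  have hGp := IsPGroup.of_card hG
  have : Group.IsNilpotent G := hGp.isNilpotent
  have hup : ∀ j, Nat.card ((⊤ : Subgroup G).lowerCentralSeries (1 + j)) * p ^ j ≤
      Nat.card ((⊤ : Subgroup G).lowerCentralSeries 1) ∨ n ≤ 1 + j := by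
    intro j
    induction j with
    | zero => left; simp
    | succ j ih =>
      rcases Nat.lt_or_ge (1 + (j + 1)) n with h | h
      · left
        have hlt : (⊤ : Subgroup G).lowerCentralSeries (1 + j + 1) < (⊤ : Subgroup G).lowerCentralSeries (1 + j) :=
          lt_of_le_not_ge ((⊤ : Subgroup G).lowerCentralSeries_antitone (by omega)) (not_le_succ hbot hne (by omega))
        have h1 := CfsgLib.Fusion.MaxClass.mul_card_le_of_lt hGp hlt
        have h2 := ih.resolve_right (by omega)
        calc Nat.card ((⊤ : Subgroup G).lowerCentralSeries (1 + (j + 1))) * p ^ (j + 1)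
            = p * Nat.card ((⊤ : Subgroup G).lowerCentralSeries (1 + j + 1)) * p ^ j := by
              rw [Nat.add_assoc, pow_succ]; ring
          _ ≤ Nat.card ((⊤ : Subgroup G).lowerCentralSeries (1 + j)) * p ^ j := Nat.mul_le_mul_right _ h1
          _ ≤ _ := h2
      · exact Or.inr h
  have hlo : ∀ j, j + 1 ≤ n → 1 ≤ n - 1 - j →
      p ^ j ≤ Nat.card ((⊤ : Subgroup G).lowerCentralSeries (n - 1 - j)) := by
    intro j
    induction j with
    | zero => intro _ _; rw [pow_zero]; exact Nat.card_pos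
    | succ j ih =>
      intro h h1
      have hlt : (⊤ : Subgroup G).lowerCentralSeries (n - 1 - j) <
          (⊤ : Subgroup G).lowerCentralSeries (n - 1 - (j + 1)) := by
        rw [show n - 1 - j = n - 1 - (j + 1) + 1 by omega]
        exact lt_of_le_not_ge ((⊤ : Subgroup G).lowerCentralSeries_antitone (by omega))
          (not_le_succ hbot hne (by omega))
      calc p ^ (j + 1) = p * p ^ j := pow_succ' p j
        _ ≤ p * _ := Nat.mul_le_mul_left _ (ih (by omega) (by omega))
        _ ≤ _ := CfsgLib.Fusion.MaxClass.mul_card_le_of_lt hGp hlt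
  have h1 : Nat.card ((⊤ : Subgroup G).lowerCentralSeries 1) ≤ p ^ (n - 2) := by
    rw [← CfsgLib.Fusion.MaxClass.card_upperCentralSeries hGp hG hn hne (k := n - 2) (by omega)]
    refine Subgroup.card_le_of_le ?_
    have hcl : Group.nilpotencyClass G ≤ n - 1 := Subgroup.lowerCentralSeries_eq_bot_iff_nilpotencyClass_le.mp hbot
    have key : ∀ j, j + 1 ≤ n → (⊤ : Subgroup G).lowerCentralSeries (n - 1 - j) ≤ Subgroup.upperCentralSeries G j := by
      intro j
      induction j with
      | zero => intro _; rw [Nat.sub_zero, hbot]; exact bot_le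
      | succ j ih =>
        intro h z hz
        rw [Subgroup.mem_upperCentralSeries_succ_iff]
        intro y
        refine ih (by omega) ?_
        rw [show n - 1 - j = n - 1 - (j + 1) + 1 by omega, Subgroup.lowerCentralSeries_succ]
        exact Subgroup.commutator_mem_commutator hz (mem_top y)
    have := key (n - 2) (by omega)
    rwa [show n - 1 - (n - 2) = 1 by omega] at this
  intro i hi hin
  refine le_antisymm ?_ ?_
  · have h2 := (hup (i - 1)).resolve_right (by omega)
    rw [show 1 + (i - 1) = i by omega] at h2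
    refine Nat.le_of_mul_le_mul_right (h2.trans (h1.trans (le_of_eq ?_))) (pow_pos hp.out.pos (i - 1))
    rw [← pow_add]; congr 1; omega
  · have := hlo (n - 1 - i) (by omega) (by omega)
    rwa [show n - 1 - (n - 1 - i) = i by omega] at this

/-- Each term is generated by any element outside the next one together with the next one. -/
theorem le_sup_zpowers (hG : Nat.card G = p ^ n) (hn : 3 ≤ n) (hbot : (⊤ : Subgroup G).lowerCentralSeries (n - 1) = ⊥)
    (hne : (⊤ : Subgroup G).lowerCentralSeries (n - 2) ≠ ⊥) {i : ℕ} (hi : 1 ≤ i) (hin : i + 2 ≤ n) {x : G}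
    (hx : x ∈ (⊤ : Subgroup G).lowerCentralSeries i) (hx' : x ∉ (⊤ : Subgroup G).lowerCentralSeries (i + 1)) :
    (⊤ : Subgroup G).lowerCentralSeries i ≤ (⊤ : Subgroup G).lowerCentralSeries (i + 1) ⊔ zpowers x := by
  set M := (⊤ : Subgroup G).lowerCentralSeries (i + 1) ⊔ zpowers x with hM
  have hle : M ≤ (⊤ : Subgroup G).lowerCentralSeries i :=
    sup_le ((⊤ : Subgroup G).lowerCentralSeries_antitone (by omega)) (zpowers_le.mpr hx)
  have hlt : (⊤ : Subgroup G).lowerCentralSeries (i + 1) < M :=
    lt_of_le_not_ge le_sup_left fun h => hx' (h (mem_sup_right (mem_zpowers x)))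
  refine (Subgroup.eq_of_le_of_card_ge hle ?_).ge
  have h1 := CfsgLib.Fusion.MaxClass.mul_card_le_of_lt (IsPGroup.of_card hG) hlt
  rw [card_lcs hG hn hbot hne (i + 1) (by omega) (by omega), ← pow_succ'] at h1
  rw [card_lcs hG hn hbot hne i hi (by omega)]
  exact le_trans (le_of_eq (by congr 1; omega)) h1

/-- The abelianization is elementary abelian of order `p²`. -/
theorem abelianization_props (hG : Nat.card G = p ^ n) (hn : 3 ≤ n)
    (hbot : (⊤ : Subgroup G).lowerCentralSeries (n - 1) = ⊥)
    (hne : (⊤ : Subgroup G).lowerCentralSeries (n - 2) ≠ ⊥) :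
    Nat.card (G ⧸ (⊤ : Subgroup G).lowerCentralSeries 1) = p ^ 2 ∧
      ∀ x : G, x ^ p ∈ (⊤ : Subgroup G).lowerCentralSeries 1 := by
  have hc : Nat.card (G ⧸ (⊤ : Subgroup G).lowerCentralSeries 1) = p ^ 2 := by
    have h := Subgroup.card_eq_card_quotient_mul_card_subgroup ((⊤ : Subgroup G).lowerCentralSeries 1)
    rw [hG, card_lcs hG hn hbot hne 1 le_rfl (by omega), show p ^ n = p ^ 2 * p ^ (n - 1 - 1) by
      rw [← pow_add]; congr 1; omega] at h
    exact (Nat.eq_of_mul_eq_mul_right (pow_pos hp.out.pos _) h).symm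
  refine ⟨hc, fun x => ?_⟩
  rw [← QuotientGroup.eq_one_iff, QuotientGroup.mk_pow]
  obtain ⟨j, hj, hxj⟩ := (Nat.dvd_prime_pow hp.out).mp (hc ▸ orderOf_dvd_natCard
    (x : G ⧸ (⊤ : Subgroup G).lowerCentralSeries 1))
  rcases Nat.lt_or_ge j 2 with hj2 | hj2
  · exact orderOf_dvd_iff_pow_eq_one.mp (hxj ▸ (Nat.pow_dvd_pow p (show j ≤ 1 by omega)).trans (by rw [pow_one]))
  exfalso
  have : IsCyclic (G ⧸ (⊤ : Subgroup G).lowerCentralSeries 1) :=
    isCyclic_of_orderOf_eq_card (x : G ⧸ (⊤ : Subgroup G).lowerCentralSeries 1) (by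
      rw [hxj, hc]; congr 1; omega)
  set N := (⊤ : Subgroup G).lowerCentralSeries 2
  let π : G ⧸ N →* G ⧸ (⊤ : Subgroup G).lowerCentralSeries 1 :=
    QuotientGroup.map N _ (MonoidHom.id G) (fun x hx => (⊤ : Subgroup G).lowerCentralSeries_antitone (show 1 ≤ 2 by norm_num) hx)
  have hker : π.ker ≤ center (G ⧸ N) := by
    intro y hy
    obtain ⟨a, rfl⟩ := QuotientGroup.mk'_surjective N y
    have ha : a ∈ (⊤ : Subgroup G).lowerCentralSeries 1 := (QuotientGroup.eq_one_iff a).mp hy
    rw [mem_center_iff]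
    intro z
    obtain ⟨b, rfl⟩ := QuotientGroup.mk'_surjective N z
    refine (commutatorElement_eq_one_iff_mul_comm.mp ?_).symm
    rw [← map_commutatorElement]
    exact (QuotientGroup.eq_one_iff _).mpr (commutator_mem_commutator ha (mem_top b))
  have hcomm := π.isMulCommutative_of_isCyclic_of_ker_le_center hker
  refine not_le_succ hbot hne (i := 1) (by omega) ?_
  rw [Subgroup.lowerCentralSeries_succ, Subgroup.lowerCentralSeries_zero, commutator_le]
  intro a _ b _
  refine (QuotientGroup.eq_one_iff _).mp ?_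
  show QuotientGroup.mk' N ⁅a, b⁆ = 1
  rw [map_commutatorElement, commutatorElement_eq_one_iff_mul_comm]
  exact hcomm.is_comm.comm _ _

/-- The centralizer of the `i`-th factor. -/
def twoStep (G : Type*) [Group G] (i : ℕ) : Subgroup G :=
  (centralizer ((((⊤ : Subgroup G).lowerCentralSeries i).map
    (QuotientGroup.mk' ((⊤ : Subgroup G).lowerCentralSeries (i + 2)))) : Set _)).comap
    (QuotientGroup.mk' ((⊤ : Subgroup G).lowerCentralSeries (i + 2)))

omit [Finite G] hp in
theorem mem_twoStep_iff {i : ℕ} {x : G} : x ∈ twoStep G i ↔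
    ∀ y ∈ (⊤ : Subgroup G).lowerCentralSeries i, ⁅y, x⁆ ∈ (⊤ : Subgroup G).lowerCentralSeries (i + 2) := by
  rw [twoStep, mem_comap, mem_centralizer_iff]
  constructor
  · intro h y hy
    refine (QuotientGroup.eq_one_iff _).mp ?_
    show QuotientGroup.mk' _ ⁅y, x⁆ = 1
    rw [map_commutatorElement, commutatorElement_eq_one_iff_mul_comm]
    exact h _ ⟨y, hy, rfl⟩
  · rintro h _ ⟨y, hy, rfl⟩
    refine commutatorElement_eq_one_iff_mul_comm.mp ?_
    rw [← map_commutatorElement]
    exact (QuotientGroup.eq_one_iff _).mpr (h y hy)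

omit [Finite G] hp in
theorem lcs_one_le_twoStep (i : ℕ) : (⊤ : Subgroup G).lowerCentralSeries 1 ≤ twoStep G i := fun _ hx =>
  mem_twoStep_iff.mpr fun _ hy => CfsgLib.HallPetrescu82.lcs_commutator i 1 (commutator_mem_commutator hy hx)

omit [Finite G] hp in
theorem twoStep_ne_top (hbot : (⊤ : Subgroup G).lowerCentralSeries (n - 1) = ⊥)
    (hne : (⊤ : Subgroup G).lowerCentralSeries (n - 2) ≠ ⊥) {i : ℕ} (hi : i + 3 ≤ n) : twoStep G i ≠ ⊤ := by
  intro h
  refine not_le_succ hbot hne (i := i + 1) (by omega) ?_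
  rw [Subgroup.lowerCentralSeries_succ, commutator_le]
  intro y hy x _
  exact mem_twoStep_iff.mp (h ▸ mem_top x) y hy

/-- An element outside `twoStep G i` moves every element of the `i`-th layer. -/
theorem commutator_not_mem (hG : Nat.card G = p ^ n) (hn : 3 ≤ n)
    (hbot : (⊤ : Subgroup G).lowerCentralSeries (n - 1) = ⊥)
    (hne : (⊤ : Subgroup G).lowerCentralSeries (n - 2) ≠ ⊥) {i : ℕ} (hi : 1 ≤ i) (hin : i + 3 ≤ n) {s x : G}
    (hs : s ∉ twoStep G i) (hx : x ∈ (⊤ : Subgroup G).lowerCentralSeries i)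
    (hx' : x ∉ (⊤ : Subgroup G).lowerCentralSeries (i + 1)) :
    ⁅x, s⁆ ∉ (⊤ : Subgroup G).lowerCentralSeries (i + 2) := by
  intro h
  set f := QuotientGroup.mk' ((⊤ : Subgroup G).lowerCentralSeries (i + 2))
  let D := (centralizer ({f s} : Set _)).comap f
  have hmem : ∀ y, ⁅y, s⁆ ∈ (⊤ : Subgroup G).lowerCentralSeries (i + 2) ↔ y ∈ D := fun y => by
    rw [mem_comap, mem_centralizer_singleton_iff, ← commutatorElement_eq_one_iff_mul_comm, ← map_commutatorElement]
    exact (QuotientGroup.eq_one_iff _).symm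
  have hle : (⊤ : Subgroup G).lowerCentralSeries i ≤ D := by
    refine (le_sup_zpowers hG hn hbot hne hi (by omega) hx hx').trans (sup_le ?_ (zpowers_le.mpr ((hmem x).mp h)))
    intro y hy
    refine (hmem y).mp ?_
    rw [Subgroup.lowerCentralSeries_succ (n := i + 1)]
    exact commutator_mem_commutator hy (mem_top s)
  exact hs (mem_twoStep_iff.mpr fun y hy => (hmem y).mpr (hle hy))

/-- The power of an element outside the two-step centralizers lies deep. -/
theorem pow_mem_of_not_mem_twoStep (hG : Nat.card G = p ^ n) (hn : 3 ≤ n)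
    (hbot : (⊤ : Subgroup G).lowerCentralSeries (n - 1) = ⊥)
    (hne : (⊤ : Subgroup G).lowerCentralSeries (n - 2) ≠ ⊥) {s : G} {a m : ℕ} (ha : 1 ≤ a) (hm : m + 2 ≤ n)
    (hsa : s ^ p ∈ (⊤ : Subgroup G).lowerCentralSeries a)
    (hs : ∀ i, a ≤ i → i < m → s ∉ twoStep G i) : s ^ p ∈ (⊤ : Subgroup G).lowerCentralSeries (max a m) := by
  induction m with
  | zero => rwa [max_eq_left (Nat.zero_le a)]
  | succ m ih =>
    rcases Nat.lt_or_ge m a with h | h
    · rwa [max_eq_left (by omega)]
    have h1 := ih (by omega) fun i hi hi' => hs i hi (by omega)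
    rw [max_eq_right h] at h1
    rw [max_eq_right (by omega)]
    by_contra h2
    refine commutator_not_mem hG hn hbot hne (by omega) (by omega) (hs m h (by omega)) h1 h2 ?_
    rw [show ⁅s ^ p, s⁆ = 1 from commutatorElement_eq_one_iff_commute.mpr (Commute.pow_self s p)]
    exact one_mem _

omit hp in
/-- At most `p` proper subgroups containing a subgroup of index `p²` do not cover the group. -/
theorem exists_not_mem [hp : Fact p.Prime] (N : Subgroup G) [N.Normal] (hN : Nat.card (G ⧸ N) = p ^ 2) {ι : Type*}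
    (t : Finset ι) (ht : t.card ≤ p) (C : ι → Subgroup G) (hC : ∀ i ∈ t, N ≤ C i ∧ C i ≠ ⊤) :
    ∃ s : G, ∀ i ∈ t, s ∉ C i := by
  classical
  by_contra h
  push Not at h
  have := Fintype.ofFinite (G ⧸ N)
  set f := QuotientGroup.mk' N with hf
  have hcard : ∀ i ∈ t, ((Finset.univ.filter (· ∈ (C i).map f)).erase 1).card ≤ p - 1 := by
    intro i hi
    have h1 : Nat.card ((C i).map f) ∣ p ^ 2 := hN ▸ Subgroup.card_subgroup_dvd_card _
    obtain ⟨j, hj, hj'⟩ := (Nat.dvd_prime_pow hp.out).mp h1
    have hj1 : j ≠ 2 := by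
      rintro rfl
      have h2 : (C i).map f = ⊤ := Subgroup.eq_top_of_card_eq _ (by rw [hj', hN])
      refine (hC i hi).2 ?_
      have h3 := congrArg (Subgroup.comap f) h2
      rwa [Subgroup.comap_map_eq, comap_top, QuotientGroup.ker_mk', sup_eq_left.mpr (hC i hi).1] at h3
    rw [Finset.card_erase_of_mem (Finset.mem_filter.mpr ⟨Finset.mem_univ _, one_mem _⟩)]
    refine Nat.sub_le_sub_right ?_ 1
    rw [← Fintype.card_subtype, ← Nat.card_eq_fintype_card]
    exact hj'.le.trans (le_trans (Nat.pow_le_pow_right hp.out.pos (show j ≤ 1 by omega)) (pow_one p).le)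
  have hcover : (Finset.univ : Finset (G ⧸ N)) ⊆
      insert 1 (t.biUnion fun i => (Finset.univ.filter (· ∈ (C i).map f)).erase 1) := by
    intro y _
    rw [Finset.mem_insert, Finset.mem_biUnion]
    by_cases hy : y = 1
    · exact Or.inl hy
    obtain ⟨g, rfl⟩ := QuotientGroup.mk'_surjective N y
    obtain ⟨i, hi, hgi⟩ := h g
    exact Or.inr ⟨i, hi, Finset.mem_erase.mpr ⟨hy, Finset.mem_filter.mpr ⟨Finset.mem_univ _, Subgroup.mem_map_of_mem f hgi⟩⟩⟩
  have h1 := (Finset.card_le_card hcover).trans (Finset.card_insert_le _ _)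
  rw [Finset.card_univ, ← Nat.card_eq_fintype_card, hN] at h1
  have h2 := Finset.card_biUnion_le_card_mul t _ (p - 1) hcard
  have h3 : t.card * (p - 1) ≤ p * (p - 1) := Nat.mul_le_mul_right _ ht
  have := hp.out.two_le
  have h4 : p * (p - 1) + p = p ^ 2 := by rw [sq, ← Nat.mul_succ, Nat.succ_eq_add_one]; congr 1; omega
  omega

/-- The geometric sum of a unipotent endomorphism. -/
theorem geom_sum_one_add {R : Type*} [Ring R] (x : R) (m : ℕ) :
    ∑ i ∈ Finset.range m, (1 + x) ^ i = ∑ j ∈ Finset.range m, (m.choose (j + 1)) • x ^ j := by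
  induction m with
  | zero => simp
  | succ m ih =>
    rw [Finset.sum_range_succ, ih]
    simp only [Nat.choose_succ_succ', add_nsmul, Finset.sum_add_distrib]
    rw [add_comm (∑ j ∈ Finset.range (m + 1), m.choose j • x ^ j), Finset.sum_range_succ
      (fun j => m.choose (j + 1) • x ^ j), Nat.choose_eq_zero_of_lt (Nat.lt_succ_self m), zero_nsmul, add_zero]
    congr 1
    rw [add_comm 1 x, (Commute.one_right x).add_pow]
    exact Finset.sum_congr rfl fun j _ => by rw [one_pow, mul_one, nsmul_eq_mul, Nat.cast_comm]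

/-- The key step: a maximal class group of order `p^(2k+1)`, `k + 2 ≤ p`, has an elementary abelian
normal subgroup of order `p^(k+1)`. -/
theorem exists_elementary (k : ℕ) (hk : 2 ≤ k) (hpk : k + 2 ≤ p) (hG : Nat.card G = p ^ (2 * k + 1))
    (hbot : (⊤ : Subgroup G).lowerCentralSeries (2 * k) = ⊥)
    (hne : (⊤ : Subgroup G).lowerCentralSeries (2 * k - 1) ≠ ⊥) :
    ∃ A : Subgroup G, IsMulCommutative A ∧ (∀ a ∈ A, a ^ p = 1) ∧ Nat.card A = p ^ (k + 1) := by
  classical
  obtain ⟨n, hn_def⟩ : ∃ n, n = 2 * k + 1 := ⟨_, rfl⟩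
  rw [← hn_def] at hG
  have hn : 3 ≤ n := by omega
  have hbot' : (⊤ : Subgroup G).lowerCentralSeries (n - 1) = ⊥ := by rw [← hbot]; congr 1; omega
  have hne' : (⊤ : Subgroup G).lowerCentralSeries (n - 2) ≠ ⊥ := by
    rwa [show n - 2 = 2 * k - 1 by omega]
  have hGp := IsPGroup.of_card hG
  have : Group.IsNilpotent G := hGp.isNilpotent
  obtain ⟨hab, hpow⟩ := abelianization_props hG hn hbot' hne'
  set N := (⊤ : Subgroup G).lowerCentralSeries 1 with hN
  -- step 1: `p`-th powers lie in the `(k-2)`-nd term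
  have step1 : ∀ x : G, x ^ p ∈ (⊤ : Subgroup G).lowerCentralSeries (k - 2) := by
    rcases Nat.lt_or_ge k 4 with h4 | h4
    · intro x
      exact (⊤ : Subgroup G).lowerCentralSeries_antitone (show k - 2 ≤ 1 by omega) (hpow x)
    let t : Finset (Option ℕ) := (Finset.Ico 1 (k - 2)).map ⟨some, Option.some_injective ℕ⟩
    have ht : t.card = k - 3 := by simp only [t, Finset.card_map, Nat.card_Ico]; omega
    let C : Option ℕ → Subgroup G := fun o => o.elim N fun i => twoStep G i
    have hC : ∀ o ∈ t, N ≤ C o ∧ C o ≠ ⊤ := by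
      intro o ho
      obtain ⟨i, hi, rfl⟩ := Finset.mem_map.mp ho
      rw [Finset.mem_Ico] at hi
      exact ⟨lcs_one_le_twoStep i, twoStep_ne_top hbot' hne' (by omega)⟩
    have hNne : N ≠ ⊤ := by
      intro e
      have := Subgroup.card_eq_card_quotient_mul_card_subgroup N
      rw [hab, e, card_top, hG] at this
      have h2 : 1 < p ^ 2 := Nat.one_lt_pow two_ne_zero hp.out.one_lt
      have h3 : 0 < p ^ n := pow_pos hp.out.pos n
      nlinarith
    obtain ⟨s₁, hs₁⟩ := exists_not_mem N hab (insert none t) (le_trans (Finset.card_insert_le _ _) (by omega)) C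
      (fun o ho => (Finset.mem_insert.mp ho).elim (fun e => e ▸ ⟨le_rfl, hNne⟩) (hC o))
    have hs₁N : s₁ ∉ N := hs₁ none (Finset.mem_insert_self _ _)
    set M := N ⊔ zpowers s₁ with hM
    have hMne : M ≠ ⊤ := by
      intro e
      have h1 : (zpowers s₁).map (QuotientGroup.mk' N) = ⊤ := by
        have h2 := congrArg (Subgroup.map (QuotientGroup.mk' N)) e
        rwa [Subgroup.map_sup, (Subgroup.map_eq_bot_iff _).mpr (QuotientGroup.ker_mk' N).ge, bot_sup_eq,
          map_top_of_surjective _ (QuotientGroup.mk'_surjective N)] at h2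
      rw [MonoidHom.map_zpowers] at h1
      have h3 := congrArg (fun H : Subgroup (G ⧸ N) => Nat.card H) h1
      simp only [Nat.card_zpowers, card_top, hab] at h3
      have h5 : orderOf (QuotientGroup.mk' N s₁) ≤ p := Nat.le_of_dvd hp.out.pos
        (orderOf_dvd_of_pow_eq_one (by rw [← map_pow]; exact (QuotientGroup.eq_one_iff _).mpr (hpow s₁)))
      rw [h3, sq] at h5
      exact absurd h5 (not_le.mpr (lt_mul_left hp.out.pos hp.out.one_lt))
    let C' : Option ℕ → Subgroup G := fun o => o.elim M fun i => twoStep G i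
    obtain ⟨s₂, hs₂⟩ := exists_not_mem N hab (insert none t) (le_trans (Finset.card_insert_le _ _) (by omega)) C'
      (fun o ho => (Finset.mem_insert.mp ho).elim (fun e => e ▸ ⟨le_sup_left, hMne⟩) (fun h => by
        obtain ⟨i, hi, rfl⟩ := Finset.mem_map.mp h
        exact hC _ h))
    have hs₂M : s₂ ∉ M := hs₂ none (Finset.mem_insert_self _ _)
    have hdeep : ∀ s, (∀ i ∈ Finset.Ico 1 (k - 2), s ∉ twoStep G i) →
        s ^ p ∈ (⊤ : Subgroup G).lowerCentralSeries (k - 2) := by
      intro s hs
      have := pow_mem_of_not_mem_twoStep hG hn hbot' hne' (s := s) (a := 1) (m := k - 2) le_rfl (by omega) (hpow s)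
        (fun i h1 h2 => hs i (Finset.mem_Ico.mpr ⟨h1, h2⟩))
      rwa [max_eq_right (by omega)] at this
    have h₁ := hdeep s₁ fun i hi => hs₁ (some i) (Finset.mem_insert_of_mem (Finset.mem_map_of_mem _ hi))
    have h₂ := hdeep s₂ fun i hi => hs₂ (some i) (Finset.mem_insert_of_mem (Finset.mem_map_of_mem _ hi))
    have hgen : closure ({s₁, s₂} : Set G) = ⊤ := by
      refine frattini_nongenerating ?_
      have hNle : N ≤ frattini G := by
        rw [hN, Subgroup.top_lowerCentralSeries_one]
        exact CfsgLib.PGroup.commutator_le_frattini hGp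
      have h6 : N ⊔ zpowers s₁ ⊔ zpowers s₂ = ⊤ := by
        have hlt : M < M ⊔ zpowers s₂ := lt_of_le_not_ge le_sup_left fun e => hs₂M (e (mem_sup_right (mem_zpowers _)))
        have hlt' : N < M := lt_of_le_not_ge le_sup_left fun e => hs₁N (e (mem_sup_right (mem_zpowers _)))
        refine Subgroup.eq_top_of_le_card _ ?_
        have a1 := CfsgLib.Fusion.MaxClass.mul_card_le_of_lt hGp hlt
        have a2 := CfsgLib.Fusion.MaxClass.mul_card_le_of_lt hGp hlt'
        have a3 := Subgroup.card_eq_card_quotient_mul_card_subgroup N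
        rw [hab] at a3
        rw [a3, sq, mul_assoc]
        exact (Nat.mul_le_mul_left p a2).trans a1
      rw [eq_top_iff, ← h6]
      refine sup_le (sup_le (hNle.trans le_sup_right) ?_) ?_ <;>
        exact (zpowers_le.mpr (subset_closure (by simp))).trans le_sup_left
    set f := QuotientGroup.mk' ((⊤ : Subgroup G).lowerCentralSeries (k - 2))
    have hreg : Cfsg.IsRegularPGroup p (G ⧸ (⊤ : Subgroup G).lowerCentralSeries (k - 2)) :=
      CfsgLib.HallPetrescu82.isRegular_of_class_lt (hGp.to_quotient _) (by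
        rw [← lcs_mk', eq_bot_iff, map_le_iff_le_comap, MonoidHom.comap_bot, QuotientGroup.ker_mk']
        exact (⊤ : Subgroup G).lowerCentralSeries_antitone (by omega))
    have hle : closure ({s₁, s₂} : Set G) ≤ (CfsgLib.Regular82.omega hreg 1).comap f := by
      rw [closure_le]
      rintro z (rfl | rfl) <;>
      · show f _ ^ p ^ 1 = 1
        rw [pow_one, ← map_pow]
        exact (QuotientGroup.eq_one_iff _).mpr (by assumption)
    intro x
    have h := hle (hgen ▸ mem_top x)
    have h' : f x ^ p ^ 1 = 1 := h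
    rw [pow_one, ← map_pow] at h'
    exact (QuotientGroup.eq_one_iff _).mp h'
  -- step 2: a uniform element
  obtain ⟨s, hs⟩ := exists_not_mem N hab (Finset.Icc (k - 2) (2 * k - 2))
    (by rw [Nat.card_Icc]; omega) (twoStep G) (fun i hi => by
      rw [Finset.mem_Icc] at hi
      exact ⟨lcs_one_le_twoStep i, twoStep_ne_top hbot' hne' (by omega)⟩)
  have hs' : ∀ i, k - 2 ≤ i → i ≤ 2 * k - 2 → s ∉ twoStep G i := fun i h1 h2 => hs i (Finset.mem_Icc.mpr ⟨h1, h2⟩)
  have hsp : s ^ p ∈ center G := by
    have h1 : s ^ p ∈ (⊤ : Subgroup G).lowerCentralSeries (max (max 1 (k - 2)) (2 * k - 1)) := by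
      refine pow_mem_of_not_mem_twoStep hG hn hbot' hne' (le_max_left _ _) (by omega) ?_ fun i hi hi' =>
        hs' i (le_trans (le_max_right _ _) hi) (by omega)
      rcases Nat.lt_or_ge 1 (k - 2) with h | h
      · rw [max_eq_right h.le]; exact step1 s
      · rw [max_eq_left h]; exact hpow s
    rw [max_eq_right (by omega)] at h1
    rw [mem_center_iff]
    intro g
    refine (commutatorElement_eq_one_iff_mul_comm.mp ?_).symm
    have h2 : ⁅s ^ p, g⁆ ∈ (⊤ : Subgroup G).lowerCentralSeries (2 * k) := by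
      rw [show 2 * k = 2 * k - 1 + 1 by omega, Subgroup.lowerCentralSeries_succ]
      exact commutator_mem_commutator h1 (mem_top g)
    rwa [hbot, mem_bot] at h2
  obtain ⟨b, hb, hbs⟩ : ∃ b ∈ (⊤ : Subgroup G).lowerCentralSeries (k - 2),
      ⁅b, s⁆ ∉ (⊤ : Subgroup G).lowerCentralSeries k := by
    by_contra h
    push Not at h
    refine hs' (k - 2) le_rfl (by omega) (mem_twoStep_iff.mpr fun y hy => ?_)
    rw [show k - 2 + 2 = k by omega]
    exact h y hy
  set A := (⊤ : Subgroup G).lowerCentralSeries (k - 1) with hA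
  have hcA : ⁅b, s⁆ ∈ A := by
    rw [hA, show k - 1 = k - 2 + 1 by omega, Subgroup.lowerCentralSeries_succ]
    exact commutator_mem_commutator hb (mem_top s)
  have hcen : ∀ a ∈ A, ∀ z ∈ (⊤ : Subgroup G).lowerCentralSeries k, a * z = z * a := by
    intro a ha z hz
    refine commutatorElement_eq_one_iff_mul_comm.mp ?_
    have h := CfsgLib.HallPetrescu82.lcs_commutator (k - 1) k (commutator_mem_commutator ha hz)
    rwa [show k - 1 + k + 1 = 2 * k by omega, hbot, mem_bot] at h
  have hAsup : A ≤ (⊤ : Subgroup G).lowerCentralSeries k ⊔ zpowers ⁅b, s⁆ := by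
    have := le_sup_zpowers hG hn hbot' hne' (i := k - 1) (by omega) (by omega) hcA
      (by rwa [show k - 1 + 1 = k by omega])
    rwa [show k - 1 + 1 = k by omega] at this
  have hAcomm : IsMulCommutative A := by
    have hle : A ≤ centralizer (A : Set G) := by
      refine hAsup.trans (sup_le (fun z hz => mem_centralizer_iff.mpr fun a ha => hcen a ha z hz) (zpowers_le.mpr ?_))
      rw [mem_centralizer_iff]
      have h2 : A ≤ centralizer ({⁅b, s⁆} : Set G) := by
        refine hAsup.trans (sup_le (fun z hz => mem_centralizer_singleton_iff.mpr (hcen _ hcA z hz).symm) (zpowers_le.mpr ?_))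
        exact mem_centralizer_singleton_iff.mpr rfl
      exact fun a ha => mem_centralizer_singleton_iff.mp (h2 ha)
    exact ⟨⟨fun x y => Subtype.ext (mem_centralizer_iff.mp (hle y.2) x x.2)⟩⟩
  refine ⟨A, hAcomm, ?_, ?_⟩
  swap
  · rw [hA, card_lcs hG hn hbot' hne' (k - 1) (by omega) (by omega)]
    congr 1
    omega
  have : A.Normal := by rw [hA]; infer_instance
  let U : AddMonoid.End (Additive A) := MonoidHom.toAdditive (MulAut.conjNormal (H := A) s).toMonoidHom
  let val : Additive A → G := fun x => ((Additive.toMul x : A) : G)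
  have hU : ∀ x, val (U x) = s * val x * s⁻¹ := fun x => MulAut.conjNormal_apply s (Additive.toMul x)
  let c : Additive A := Additive.ofMul ⟨⁅b, s⁆, hcA⟩
  have hadd : ∀ (f g : AddMonoid.End (Additive A)) x, (f + g) x = f x + g x := fun _ _ _ => rfl
  have hsub : ∀ (f g : AddMonoid.End (Additive A)) x, (f - g) x = f x - g x := fun _ _ _ => rfl
  have hsmul : ∀ (m : ℕ) (f : AddMonoid.End (Additive A)) x, (m • f) x = m • f x := fun _ _ _ => rfl
  have happ : ∀ (t : Finset ℕ) (f : ℕ → AddMonoid.End (Additive A)) x, (∑ i ∈ t, f i) x = ∑ i ∈ t, f i x :=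
    fun t f x => AddMonoidHom.finsetSum_apply f t x
  have hnorm : ∀ m : ℕ, (⁅b, s⁆ * s) ^ m = val ((∑ i ∈ Finset.range m, U ^ i) c) * s ^ m := by
    intro m
    induction m with
    | zero => simp [val]
    | succ m ih =>
      rw [geom_sum_succ, hadd, AddMonoid.End.coe_mul, Function.comp_apply,
        show val (U ((∑ i ∈ Finset.range m, U ^ i) c) + (1 : AddMonoid.End (Additive A)) c) =
          ⁅b, s⁆ * val (U ((∑ i ∈ Finset.range m, U ^ i) c)) from by
            rw [AddMonoid.End.coe_one, id, add_comm]; rfl,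
        hU, pow_succ' (⁅b, s⁆ * s), ih, pow_succ' s]
      group
  have hsum : (∑ i ∈ Finset.range p, U ^ i) c = 0 := by
    have h1 := hnorm p
    rw [commutatorElement_def, inv_mul_cancel_right, conj_pow, mem_center_iff.mp hsp b, mul_inv_cancel_right,
      right_eq_mul] at h1
    exact Additive.toMul.injective (Subtype.ext h1)
  set D : AddMonoid.End (Additive A) := U - 1 with hD
  have hUD : U = 1 + D := by rw [hD]; abel
  have hDval : ∀ x, val (D x) = ⁅s, val x⁆ := by
    intro x
    rw [hD, hsub, AddMonoid.End.coe_one, id, commutatorElement_def]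
    show ((Additive.toMul (U x - x) : A) : G) = _
    rw [toMul_sub, div_eq_mul_inv, Subgroup.coe_mul, Subgroup.coe_inv]
    exact congrArg (· * _) (hU x)
  have hlayer : ∀ j, val ((D ^ j) c) ∈ (⊤ : Subgroup G).lowerCentralSeries (k - 1 + j) := by
    intro j
    induction j with
    | zero => exact hcA
    | succ j ih =>
      rw [pow_succ', AddMonoid.End.coe_mul, Function.comp_apply, hDval, ← inv_mem_iff, commutatorElement_inv,
        ← Nat.add_assoc, Subgroup.lowerCentralSeries_succ]
      exact commutator_mem_commutator ih (mem_top s)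
  have hlayer' : ∀ j, j ≤ k → val ((D ^ j) c) ∉ (⊤ : Subgroup G).lowerCentralSeries (k + j) := by
    intro j
    induction j with
    | zero => intro _; exact hbs
    | succ j ih =>
      intro hj
      rw [pow_succ', AddMonoid.End.coe_mul, Function.comp_apply, hDval, ← inv_mem_iff, commutatorElement_inv]
      have h := commutator_not_mem hG hn hbot' hne' (i := k - 1 + j) (by omega) (by omega)
        (hs' _ (by omega) (by omega)) (hlayer j) (by rw [show k - 1 + j + 1 = k + j by omega]; exact ih (by omega))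
      rwa [show k - 1 + j + 2 = k + (j + 1) by omega] at h
  have hzero : ∀ j, k < j → (D ^ j) c = 0 := by
    intro j hj
    have h := (⊤ : Subgroup G).lowerCentralSeries_antitone (show 2 * k ≤ k - 1 + j by omega) (hlayer j)
    rw [hbot, mem_bot] at h
    exact Additive.toMul.injective (Subtype.ext h)
  have hpD : ∀ d j, k + 1 - j ≤ d → p • (D ^ j) c = 0 := by
    intro d
    induction d with
    | zero => intro j hj; rw [hzero j (by omega), nsmul_zero]
    | succ d ih =>
      intro j hj
      have h1 := congrArg (D ^ j) hsum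
      rw [hUD, geom_sum_one_add, map_zero, happ, map_sum] at h1
      have h2 : ∀ l ∈ Finset.range p, l ≠ 0 → (D ^ j) ((p.choose (l + 1) • D ^ l) c) = 0 := by
        intro l hl hl0
        rw [Finset.mem_range] at hl
        rw [hsmul, map_nsmul, ← Function.comp_apply (f := D ^ j), ← AddMonoid.End.coe_mul,
          ← pow_add]
        rcases Nat.lt_or_ge (l + 1) p with h | h
        · obtain ⟨q, hq⟩ := hp.out.dvd_choose_self (Nat.succ_ne_zero l) h
          rw [hq, mul_comm p q, mul_nsmul', ih (j + l) (by omega), nsmul_zero]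
        · rw [hzero (j + l) (by omega), nsmul_zero]
      rw [Finset.sum_eq_single 0 h2 (fun h => absurd (Finset.mem_range.mpr hp.out.pos) h), Nat.choose_one_right,
        hsmul, map_nsmul, pow_zero, AddMonoid.End.coe_one, id] at h1
      exact h1
  have hval : ∀ j, val ((D ^ j) c) ^ p = 1 := fun j => by
    have h := congrArg val (hpD (k + 1) j (Nat.sub_le _ _))
    exact h
  let Ω : Subgroup A := (powMonoidHom p).ker
  have hΩ : ∀ d i, 2 * k - i ≤ d → k - 1 ≤ i → (⊤ : Subgroup G).lowerCentralSeries i ≤ Ω.map A.subtype := by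
    intro d
    induction d with
    | zero =>
      intro i hi _
      exact ((⊤ : Subgroup G).lowerCentralSeries_antitone (by omega)).trans (hbot.le.trans bot_le)
    | succ d ih =>
      intro i hi hki
      rcases Nat.lt_or_ge i (2 * k) with h2k | h2k
      swap
      · exact ((⊤ : Subgroup G).lowerCentralSeries_antitone h2k).trans (hbot.le.trans bot_le)
      obtain ⟨j, rfl⟩ : ∃ j, i = k - 1 + j := ⟨i - (k - 1), by omega⟩
      refine (le_sup_zpowers hG hn hbot' hne' (by omega) (by omega) (hlayer j)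
        (by rw [show k - 1 + j + 1 = k + j by omega]; exact hlayer' j (by omega))).trans (sup_le ?_ (zpowers_le.mpr ?_))
      · exact ih _ (by omega) (by omega)
      · exact ⟨Additive.toMul ((D ^ j) c), Subtype.ext (hval j), rfl⟩
  intro a ha
  obtain ⟨w, hw, hwa⟩ := hΩ (2 * k) (k - 1) (Nat.sub_le _ _) le_rfl ha
  have h : w ^ p = 1 := hw
  rw [← hwa, ← map_pow, h, map_one]

/-- A group of maximal class with sectional rank at most `k`, `p ≥ k + 2`, has order at most `p^(2k)`. -/
theorem card_le_of_sectionalPRankLE {S : Type*} [Group S] [Finite S] [Group.IsNilpotent S] (n k : ℕ) (hn : 2 ≤ n)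
    (hS : Nat.card S = p ^ n) (hmax : Group.nilpotencyClass S = n - 1) (hk : 1 ≤ k)
    (hsr : Cfsg.SectionalPRankLE p k S) (hpk : k + 2 ≤ p) : Nat.card S ≤ p ^ (2 * k) := by
  rw [hS]
  refine Nat.pow_le_pow_right hp.out.pos ?_
  by_contra h
  push Not at h
  have hbot : (⊤ : Subgroup S).lowerCentralSeries (n - 1) = ⊥ :=
    Subgroup.lowerCentralSeries_eq_bot_iff_nilpotencyClass_le.mpr hmax.le
  have hne : (⊤ : Subgroup S).lowerCentralSeries (n - 2) ≠ ⊥ := fun e => by
    have := Subgroup.lowerCentralSeries_eq_bot_iff_nilpotencyClass_le.mp e; omega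
  -- a rank bound for every quotient of `S`
  have hquot : ∀ (N : Subgroup S) [N.Normal] (A : Subgroup (S ⧸ N)), IsMulCommutative A →
      (∀ a ∈ A, a ^ p = 1) → Nat.card A ≤ p ^ k := by
    intro N _ A hA hexp
    let g : (⊤ : Subgroup S) →* S ⧸ N := (QuotientGroup.mk' N).comp Subgroup.topEquiv.toMonoidHom
    have hg : Function.Surjective g := (QuotientGroup.mk'_surjective N).comp Subgroup.topEquiv.surjective
    let e := QuotientGroup.quotientKerEquivOfSurjective g hg
    have hA' : IsMulCommutative (A.map e.symm.toMonoidHom) := Subgroup.map_isMulCommutative A _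
    have h1 := hsr ⊤ g.ker (A.map e.symm.toMonoidHom) hA' (by
      rintro _ ⟨a, ha, rfl⟩
      rw [← map_pow, hexp a ha, map_one])
    rwa [Subgroup.card_map_of_injective (f := e.symm.toMonoidHom) e.symm.injective] at h1
  rcases Nat.lt_or_ge k 2 with hk2 | hk2
  · obtain ⟨hab, hpow⟩ := abelianization_props hS (by omega) hbot hne
    have hcomm : IsMulCommutative (⊤ : Subgroup (S ⧸ (⊤ : Subgroup S).lowerCentralSeries 1)) := by
      refine ⟨⟨fun x y => Subtype.ext ?_⟩⟩
      obtain ⟨a, ha⟩ := QuotientGroup.mk'_surjective _ x.1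
      obtain ⟨b, hb⟩ := QuotientGroup.mk'_surjective _ y.1
      show x.1 * y.1 = y.1 * x.1
      rw [← ha, ← hb]
      refine commutatorElement_eq_one_iff_mul_comm.mp ?_
      rw [← map_commutatorElement]
      exact (QuotientGroup.eq_one_iff _).mpr (commutator_mem_commutator (mem_top a) (mem_top b))
    have h1 := hquot _ ⊤ hcomm (fun a _ => by
      obtain ⟨a, rfl⟩ := QuotientGroup.mk'_surjective _ a
      rw [← map_pow]; exact (QuotientGroup.eq_one_iff _).mpr (hpow a))
    rw [card_top, hab] at h1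
    have := (Nat.pow_le_pow_iff_right hp.out.one_lt).mp h1
    omega
  set M := (⊤ : Subgroup S).lowerCentralSeries (2 * k) with hM
  have hq : Nat.card (S ⧸ M) = p ^ (2 * k + 1) := by
    have h1 := Subgroup.card_eq_card_quotient_mul_card_subgroup M
    rw [hM, card_lcs hS (by omega) hbot hne (2 * k) (by omega) (by omega), hS,
      show p ^ n = p ^ (2 * k + 1) * p ^ (n - 1 - 2 * k) by rw [← pow_add]; congr 1; omega] at h1
    exact (Nat.eq_of_mul_eq_mul_right (pow_pos hp.out.pos _) h1).symm
  obtain ⟨A, hA, hexp, hcA⟩ := exists_elementary k hk2 hpk hq (by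
      rw [← lcs_mk', Subgroup.map_eq_bot_iff, QuotientGroup.ker_mk'])
    (fun e => not_le_succ hbot hne (i := 2 * k - 1) (by omega) (by
      rw [← lcs_mk', Subgroup.map_eq_bot_iff, QuotientGroup.ker_mk'] at e
      rwa [show 2 * k - 1 + 1 = 2 * k by omega]))
  have := (Nat.pow_le_pow_iff_right hp.out.one_lt).mp (hcA ▸ hquot M A hA hexp)
  omega

end CfsgLib.MaxClassRank
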