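import Cfsg.Agent.Lib.PGroup.MaxClassGood
import Cfsg.Agent.Lib.Fusion.TameAlperin
import Cfsg.Agent.Lib.PCore.Basic
import Cfsg.Agent.Lib.Transfer.NormalComplement
import Cfsg.Prelude.Def_CaseTheorems

/-!
A group with Sylow `p`-subgroup of maximal class in which no element has centralizer with `p`-part
`p²` is quasisimple.
-/

set_option autoImplicit false
set_option linter.unusedSectionVars false

namespace CfsgLib.MaxClassDich

open Subgroup CfsgLib.MaxClassGood CfsgLib.TameAlperin CfsgLib.Techniques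
open scoped commutatorElement

variable {G : Type*} [Group G] [Finite G] {p n : ℕ} [Fact p.Prime] (P : Sylow p G)

theorem central_commutator {H : Type*} [Group H] {a b za zb : H} (h1 : Commute za a) (h2 : Commute za b)
    (h3 : Commute zb a) (h4 : Commute zb b) (h5 : Commute za zb) : ⁅za * a, zb * b⁆ = ⁅a, b⁆ := by
  rw [commutatorElement_def, commutatorElement_def, mul_inv_rev, mul_inv_rev]
  calc za * a * (zb * b) * (a⁻¹ * za⁻¹) * (b⁻¹ * zb⁻¹)
      = za * ((a * zb) * b * a⁻¹) * za⁻¹ * b⁻¹ * zb⁻¹ := by group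
    _ = za * zb * (a * b * a⁻¹) * za⁻¹ * b⁻¹ * zb⁻¹ := by rw [← h3.eq]; group
    _ = zb * za * ((a * b * a⁻¹) * za⁻¹) * b⁻¹ * zb⁻¹ := by rw [h5.eq]; group
    _ = zb * za * (za⁻¹ * (a * b * a⁻¹)) * b⁻¹ * zb⁻¹ := by
      rw [((h1.mul_right h2).mul_right h1.inv_right).inv_left.eq]
    _ = zb * (a * b * a⁻¹ * b⁻¹) * zb⁻¹ := by group
    _ = a * b * a⁻¹ * b⁻¹ := by
      rw [(((h3.mul_right h4).mul_right h3.inv_right).mul_right h4.inv_right).eq]; group

/-- The image of a good element under fusion is good or conjugate into a deep term. -/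
theorem walk (hM : IsMax ↥(P : Subgroup G) p n) :
    ∀ (l : List (Sylow p G × G)) (u : ↥(P : Subgroup G)), Good n u → Moves P {(u : G)} l →
      (∃ v : ↥(P : Subgroup G), IsConj (u : G) (v : G) ∧ v ∈ (⊤ : Subgroup ↥(P : Subgroup G)).lowerCentralSeries (max 1 (n - 3))) ∨
        ∃ w : ↥(P : Subgroup G), Good n w ∧ (w : G) = (val l)⁻¹ * u * val l
  | [], u, hu, _ => Or.inr ⟨u, hu, by simp [val]⟩
  | s :: l, u, hu, ⟨hgood, hsub, hmov⟩ => by
    set D : Subgroup G := (P : Subgroup G) ⊓ (s.1 : Subgroup G)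
    have hg : s.2⁻¹ ∈ normalizer (D : Set G) := inv_mem hgood.1
    have huD : (u : G) ∈ D := hsub rfl
    have hu' : s.2⁻¹ * (u : G) * s.2⁻¹⁻¹ ∈ D := (mem_normalizer_iff.mp hg _).mp huD
    set u' : ↥(P : Subgroup G) := ⟨s.2⁻¹ * (u : G) * s.2⁻¹⁻¹, hu'.1⟩ with hu'def
    have hconj : IsConj (u : G) (u' : G) := isConj_iff.mpr ⟨s.2⁻¹, rfl⟩
    set E : Subgroup ↥(P : Subgroup G) := D.subgroupOf (P : Subgroup G)
    have hcase : Good n u' ∨ u' ∈ (⊤ : Subgroup ↥(P : Subgroup G)).lowerCentralSeries (max 1 (n - 3)) := by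
      by_cases hE : E = ⊤
      · left
        have hPD : D = (P : Subgroup G) := le_antisymm inf_le_left fun x hx => by
          have : (⟨x, hx⟩ : ↥(P : Subgroup G)) ∈ E := hE ▸ mem_top _
          exact this
        have hg' : s.2⁻¹ ∈ normalizer ((P : Subgroup G) : Set G) := hPD ▸ hg
        let φ : ↥(P : Subgroup G) ≃* ↥(P : Subgroup G) :=
          (MulEquiv.subgroupMap (MulAut.conj s.2⁻¹) (P : Subgroup G)).trans
            (MulEquiv.subgroupCongr (map_conj_eq_self_iff.mpr hg'))
        have hφ : φ u = u' := Subtype.ext rfl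
        exact hφ ▸ good_map hM φ hu
      · refine good_or_deep hM (f := (P : Subgroup G).subtype) Subtype.val_injective hu hE
          (mem_subgroupOf.mpr huD) (mem_subgroupOf.mpr hu') s.2⁻¹ ?_ rfl
        have hmap : E.map (P : Subgroup G).subtype = D := by
          rw [Subgroup.subgroupOf_map_subtype, inf_eq_left]
          exact inf_le_left
        rw [hmap]
        exact map_conj_eq_self_iff.mpr hg
    rcases hcase with hgd | hdeep
    · have hset : cj s.2 {(u : G)} = {(u' : G)} := by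
        simp [cj, hu'def, mul_assoc]
      rcases walk hM l u' hgd (hset ▸ hmov) with ⟨v, hv, hv'⟩ | ⟨w, hw, hw'⟩
      · exact Or.inl ⟨v, hconj.trans hv, hv'⟩
      · refine Or.inr ⟨w, hw, ?_⟩
        rw [hw', val_cons, hu'def]
        simp [mul_assoc]
    · exact Or.inl ⟨u', hconj, hdeep⟩

/-- A good element whose centralizer in `G` is large is conjugate into a deep term. -/
theorem exists_deep (hM : IsMax ↥(P : Subgroup G) p n)
    (hfail : ∀ x ∈ (P : Subgroup G), (Nat.card (centralizer ({x} : Set G))).factorization p ≠ 2)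
    {u : ↥(P : Subgroup G)} (hu : Good n u) :
    ∃ v : ↥(P : Subgroup G), IsConj (u : G) (v : G) ∧ v ∈ (⊤ : Subgroup ↥(P : Subgroup G)).lowerCentralSeries (max 1 (n - 3)) := by
  have hp := (Fact.out : p.Prime)
  set C := centralizer ({(u : G)} : Set G)
  have hC0 : Nat.card C ≠ 0 := Nat.card_ne_zero.mpr ⟨inferInstance, inferInstance⟩
  -- the local centralizer sits in the global one
  let ι : ↥(centralizer ({u} : Set ↥(P : Subgroup G))) →* ↥C :=
    ((P : Subgroup G).subtype.comp (centralizer ({u} : Set ↥(P : Subgroup G))).subtype).codRestrict C fun x =>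
      mem_centralizer_singleton_iff.mpr (congrArg Subtype.val (mem_centralizer_singleton_iff.mp x.2))
  have hι : Function.Injective ι := fun a b h =>
    Subtype.ext (Subtype.ext (congrArg (fun c : ↥C => (c : G)) h))
  have h2 : p ^ 2 ∣ Nat.card C := by
    rw [← card_cent hM hu]
    exact Subgroup.card_dvd_of_injective ι hι
  have h2' := (hp.pow_dvd_iff_le_factorization hC0).mp h2
  have h3 : p ^ 3 ∣ Nat.card C :=
    (hp.pow_dvd_iff_le_factorization hC0).mpr (by
      have : (Nat.card C).factorization p ≠ 2 := hfail u u.2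
      omega)
  have huC : (u : G) ∈ C := mem_centralizer_singleton_iff.mpr rfl
  have hzp : IsPGroup p ↥(zpowers (⟨(u : G), huC⟩ : C)) := by
    obtain ⟨k, hk⟩ := P.2 u
    refine IsPGroup.iff_orderOf.mpr fun x => ?_
    have hx : x ^ p ^ k = 1 := by
      obtain ⟨i, hi⟩ := mem_zpowers_iff.mp x.2
      refine Subtype.ext (Subtype.ext ?_)
      have hk' : (u : G) ^ p ^ k = 1 := by simpa using congrArg Subtype.val hk
      push_cast
      rw [← hi]
      push_cast
      rw [← zpow_natCast, ← zpow_mul, mul_comm, zpow_mul, zpow_natCast, hk', one_zpow]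
    obtain ⟨j, -, hj⟩ := (Nat.dvd_prime_pow hp).mp (orderOf_dvd_of_pow_eq_one hx)
    exact ⟨j, hj⟩
  obtain ⟨R, hR⟩ := hzp.exists_le_sylow
  have hR' : p ^ 3 ∣ Nat.card (R : Subgroup C) := R.pow_dvd_card_of_pow_dvd_card h3
  obtain ⟨Q, hQ⟩ := (R.2.map C.subtype).exists_le_sylow
  obtain ⟨g, hg⟩ := MulAction.exists_smul_eq G Q P
  have hRP : ∀ r ∈ (R : Subgroup C), g * (r : G) * g⁻¹ ∈ (P : Subgroup G) := by
    intro r hr
    rw [← hg, coe_smul', mem_map_conj]
    refine hQ ?_
    rw [show g⁻¹ * (g * (r : G) * g⁻¹) * g = r by group]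
    exact Subgroup.mem_map_of_mem C.subtype hr
  have hy := hRP _ (hR (mem_zpowers _))
  set y : ↥(P : Subgroup G) := ⟨g * (u : G) * g⁻¹, hy⟩
  have hybad : ¬ Good n y := by
    intro hyg
    let κ : ↥(R : Subgroup C) →* ↥(centralizer ({y} : Set ↥(P : Subgroup G))) :=
      { toFun := fun r => ⟨⟨g * ((r : C) : G) * g⁻¹, hRP r r.2⟩,
          mem_centralizer_singleton_iff.mpr (Subtype.ext (by
            show g * ((r : C) : G) * g⁻¹ * (g * (u : G) * g⁻¹) = g * (u : G) * g⁻¹ * (g * ((r : C) : G) * g⁻¹)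
            have h := mem_centralizer_singleton_iff.mp (r : C).2
            calc g * ((r : C) : G) * g⁻¹ * (g * (u : G) * g⁻¹) = g * (((r : C) : G) * u) * g⁻¹ := by group
              _ = g * (u : G) * g⁻¹ * (g * ((r : C) : G) * g⁻¹) := by rw [h]; group))⟩
        map_one' := Subtype.ext (Subtype.ext (by simp))
        map_mul' := fun a b => Subtype.ext (Subtype.ext (by simp [mul_assoc])) }
    have hκ : Function.Injective κ := fun a b h => by
      have := congrArg (fun c : ↥(centralizer ({y} : Set ↥(P : Subgroup G))) => ((c : ↥(P : Subgroup G)) : G)) h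
      exact Subtype.ext (Subtype.ext (mul_left_cancel (mul_right_cancel this)))
    have := hR'.trans (Subgroup.card_dvd_of_injective κ hκ)
    rw [card_cent hM hyg] at this
    exact absurd ((Nat.pow_dvd_pow_iff_le_right hp.one_lt).mp this) (by norm_num)
  obtain ⟨l, hl, hlm⟩ := exists_factorisation P {(u : G)} g⁻¹ (Set.singleton_subset_iff.mpr u.2) (by
    rintro _ ⟨a, ha, rfl⟩
    rw [Set.mem_singleton_iff] at ha
    subst ha
    show g⁻¹⁻¹ * (u : G) * g⁻¹ ∈ (P : Subgroup G)
    rw [inv_inv]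
    exact hy)
  rcases walk P hM l u hu hlm with h | ⟨w, hw, hwe⟩
  · exact h
  · refine absurd hw ?_
    rwa [show w = y from Subtype.ext (by rw [hwe, hl, inv_inv])]

variable (hM : IsMax ↥(P : Subgroup G) p n)
  (hfail : ∀ x ∈ (P : Subgroup G), (Nat.card (centralizer ({x} : Set G))).factorization p ≠ 2)
  (hres : ∀ N : Subgroup G, N.Normal → (N.index).Coprime p → N = ⊤)

include hM hfail hres in
theorem eq_top_of_deep {N : Subgroup G} [hN : N.Normal]
    (h : (⊤ : Subgroup ↥(P : Subgroup G)).lowerCentralSeries (max 1 (n - 3)) ≤ N.subgroupOf (P : Subgroup G)) : N = ⊤ := by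
  have hQ : N.subgroupOf (P : Subgroup G) = ⊤ := by
    by_contra hne
    obtain ⟨u, hu, huN⟩ := exists_good hM hne
    obtain ⟨v, hv, hvL⟩ := exists_deep P hM hfail hu
    obtain ⟨c, hc⟩ := isConj_iff.mp hv.symm
    exact huN (mem_subgroupOf.mpr (hc ▸ hN.conj_mem _ (mem_subgroupOf.mp (h hvL)) c))
  refine hres N hN ?_
  rw [Nat.coprime_comm, (Fact.out : p.Prime).coprime_iff_not_dvd]
  exact fun hd => P.not_dvd_index (hd.trans (index_dvd_of_le (subgroupOf_eq_top.mp hQ)))

include hM hfail hres in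
/-- A proper normal subgroup is central of order at most `p`, and is trivial for `n = 3`. -/
theorem normal_cases (hcore : Cfsg.pPrimeCore p G = ⊥) {N : Subgroup G} [hN : N.Normal] (hNt : N ≠ ⊤) :
    N = ⊥ ∨ (4 ≤ n ∧ N ≤ center G ∧ Nat.card N = p) := by
  have hp := (Fact.out : p.Prime)
  have h3 := hM.three
  by_cases hpN : p ∣ Nat.card N
  swap
  · exact Or.inl (le_bot_iff.mp (hcore ▸ CfsgLib.PCore.le_pPrimeCore_of_not_dvd hN hpN))
  right
  set Q := N.subgroupOf (P : Subgroup G)
  obtain ⟨SN, -⟩ : ∃ SN : Sylow p N, True := ⟨default, trivial⟩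
  obtain ⟨S', hS'⟩ := (SN.2.map N.subtype).exists_le_sylow
  obtain ⟨c, hc⟩ := MulAction.exists_smul_eq G S' P
  have hinto : ∀ x ∈ (SN : Subgroup N), c * (x : G) * c⁻¹ ∈ (P : Subgroup G) := by
    intro x hx
    rw [← hc, coe_smul', mem_map_conj]
    refine hS' ?_
    rw [show c⁻¹ * (c * (x : G) * c⁻¹) * c = x by group]
    exact Subgroup.mem_map_of_mem N.subtype hx
  let κ : ↥(SN : Subgroup N) →* ↥Q :=
    { toFun := fun x => ⟨⟨c * ((x : N) : G) * c⁻¹, hinto x x.2⟩,
        mem_subgroupOf.mpr (hN.conj_mem _ (x : N).2 c)⟩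
      map_one' := Subtype.ext (Subtype.ext (by simp))
      map_mul' := fun a b => Subtype.ext (Subtype.ext (by simp [mul_assoc])) }
  have hκ : Function.Injective κ := fun a b h => by
    have := congrArg (fun z : ↥Q => ((z : ↥(P : Subgroup G)) : G)) h
    exact Subtype.ext (Subtype.ext (mul_left_cancel (mul_right_cancel this)))
  have hQbot : Q ≠ ⊥ := fun e => by
    have h1 := Subgroup.card_dvd_of_injective κ hκ
    rw [e, Subgroup.card_bot] at h1
    have h2 : p ^ 1 ∣ Nat.card (SN : Subgroup N) := SN.pow_dvd_card_of_pow_dvd_card (by rwa [pow_one])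
    exact hp.not_dvd_one (pow_one p ▸ h2.trans h1)
  have hlow : (⊤ : Subgroup ↥(P : Subgroup G)).lowerCentralSeries (n - 2) ≤ Q := by
    refine ((⊤ : Subgroup ↥(P : Subgroup G)).lowerCentralSeries_antitone (show max 1 (n - 1 - 1) ≤ n - 2 by omega)).trans
      (le_of_normal hM (k := n - 1) (by omega) (by omega) ?_)
    rw [hM.bot]
    exact fun h => hQbot (le_bot_iff.mp h)
  have hup : Q ≤ (⊤ : Subgroup ↥(P : Subgroup G)).lowerCentralSeries (n - 2) := by
    by_contra h
    have := le_of_normal hM (k := n - 2) (by omega) (by omega) h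
    rw [show n - 2 - 1 = n - 3 by omega] at this
    exact hNt (eq_top_of_deep P hM hfail hres this)
  have hn4 : 4 ≤ n := by
    by_contra h
    refine hNt (eq_top_of_deep P hM hfail hres ?_)
    rwa [show max 1 (n - 3) = n - 2 by omega]
  have hQeq : Q = (⊤ : Subgroup ↥(P : Subgroup G)).lowerCentralSeries (n - 2) := le_antisymm hup hlow
  have hlast : Nat.card ↥((⊤ : Subgroup ↥(P : Subgroup G)).lowerCentralSeries (n - 2)) = p := by
    rw [CfsgLib.MaxClassRank.card_lcs hM.card h3 hM.bot hM.ne (n - 2) (by omega) (by omega),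
      show n - 1 - (n - 2) = 1 by omega, pow_one]
  set Z := ((⊤ : Subgroup ↥(P : Subgroup G)).lowerCentralSeries (n - 2)).map (P : Subgroup G).subtype with hZdef
  have hZcard : Nat.card Z = p := by
    rw [hZdef, Subgroup.card_map_of_injective Subtype.val_injective, hlast]
  have hZN : Z ≤ N := by
    rintro _ ⟨z, hz, rfl⟩
    exact mem_subgroupOf.mp (hlow hz)
  have hPC : (P : Subgroup G) ≤ centralizer (Z : Set G) := by
    intro a ha
    rw [mem_centralizer_iff]
    rintro _ ⟨z, hz, rfl⟩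
    exact congrArg Subtype.val ((mem_center_iff.mp (last_le_center hM hz) ⟨a, ha⟩)).symm
  -- Sylow subgroups of `N` have order `p`
  have hSNcard : Nat.card (SN : Subgroup N) ∣ p := by
    have h := Subgroup.card_dvd_of_injective κ hκ
    rwa [hQeq, hlast] at h
  have hpN2 : ¬ p ^ 2 ∣ Nat.card N := fun h => by
    have := (SN.pow_dvd_card_of_pow_dvd_card h).trans hSNcard
    exact absurd (Nat.le_of_dvd hp.pos this) (by nlinarith [hp.two_le])
  set ZN := Z.subgroupOf N
  have hZNcard : Nat.card ZN = p := by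
    rw [Nat.card_congr (subgroupOfEquivOfLe hZN).toEquiv, hZcard]
  have hZNp : IsPGroup p ZN := IsPGroup.of_card (n := 1) (by rw [hZNcard, pow_one])
  obtain ⟨SZ, hSZ⟩ := hZNp.exists_le_sylow
  have hSZeq : (SZ : Subgroup N) = ZN := by
    refine (Subgroup.eq_of_le_of_card_ge hSZ ?_).symm
    obtain ⟨k, hk⟩ := IsPGroup.iff_card.mp SZ.2
    have hd : p ^ k ∣ Nat.card N := hk ▸ Subgroup.card_subgroup_dvd_card _
    rw [hk, hZNcard]
    refine le_trans (Nat.pow_le_pow_right hp.pos ?_) (pow_one p).le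
    by_contra hk1
    exact hpN2 ((pow_dvd_pow p (show 2 ≤ k by omega)).trans hd)
  -- the normalizer of `Z` in `N` centralizes it
  set C := centralizer (Z : Set G) with hCdef
  have hburn : ∀ h ∈ N, h ∈ normalizer (Z : Set G) → h ∈ C := by
    intro h hhN hhZ
    have hhC : ∀ a ∈ C, h * a * h⁻¹ ∈ C := by
      intro a ha
      rw [hCdef, mem_centralizer_iff] at ha ⊢
      intro z hz
      have hz' : h⁻¹ * z * h ∈ Z := by
        have := (mem_normalizer_iff.mp (inv_mem hhZ) z).mp hz
        rwa [inv_inv] at this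
      have e := ha _ hz'
      calc z * (h * a * h⁻¹) = h * ((h⁻¹ * z * h) * a) * h⁻¹ := by group
        _ = h * a * h⁻¹ * z := by rw [e]; group
    set M := C ⊓ N with hMdef
    set R := (Cfsg.pPrimeCore p ↥M).map M.subtype with hRdef
    -- the structure of `C ⊓ N`
    have hZM : Z ≤ M := le_inf (by
      intro z hz
      rw [hCdef, mem_centralizer_iff]
      intro z' hz'
      obtain ⟨a, ha, rfl⟩ := hz
      exact mem_centralizer_iff.mp (hPC a.2) z' hz') hZN
    have hZMcard : Nat.card (Z.subgroupOf M) = p := by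
      rw [Nat.card_congr (subgroupOfEquivOfLe hZM).toEquiv, hZcard]
    obtain ⟨SM, hSM⟩ := (IsPGroup.of_card (n := 1) (by rw [hZMcard, pow_one]) :
      IsPGroup p (Z.subgroupOf M)).exists_le_sylow
    have hSMeq : (SM : Subgroup M) = Z.subgroupOf M := by
      refine (Subgroup.eq_of_le_of_card_ge hSM ?_).symm
      obtain ⟨k, hk⟩ := IsPGroup.iff_card.mp SM.2
      have hd : p ^ k ∣ Nat.card N :=
        hk ▸ (Subgroup.card_subgroup_dvd_card _).trans (card_dvd_of_le inf_le_right)
      rw [hk, hZMcard]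
      refine le_trans (Nat.pow_le_pow_right hp.pos ?_) (pow_one p).le
      by_contra hk1
      exact hpN2 ((pow_dvd_pow p (show 2 ≤ k by omega)).trans hd)
    have hMnpc : Cfsg.HasNormalPComplement p ↥M := by
      refine CfsgLib.Transfer.hasNormalPComplement_of_normalizer_le SM ?_
      rw [hSMeq]
      intro a _
      rw [mem_centralizer_iff]
      intro z hz
      exact Subtype.ext (mem_centralizer_iff.mp a.2.1 _ hz)
    obtain ⟨SK, K, hK, hKc⟩ := hMnpc
    have hKle : K ≤ Cfsg.pPrimeCore p ↥M := CfsgLib.PCore.le_pPrimeCore_of_not_dvd hK (by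
      rw [← hKc.index_eq_card]
      exact SK.not_dvd_index)
    have hdec : ∀ a ∈ M, ∃ r ∈ R, ∃ z ∈ Z, a = r * z := by
      intro a ha
      have hsup : (⟨a, ha⟩ : M) ∈ Cfsg.pPrimeCore p ↥M ⊔ (SM : Subgroup M) := by
        obtain ⟨m, hm⟩ := MulAction.exists_smul_eq ↥M SK SM
        have htop : Cfsg.pPrimeCore p ↥M ⊔ (SM : Subgroup M) = ⊤ := by
          refine top_le_iff.mp ?_
          have h1 : ((K ⊔ (SK : Subgroup M)).map (MulAut.conj m).toMonoidHom) = ⊤ := by
            rw [hKc.sup_eq_top, Subgroup.map_top_of_surjective _ (MulAut.conj m).surjective]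
          rw [← h1, Subgroup.map_sup]
          refine sup_le_sup ?_ ?_
          · rintro _ ⟨k, hk, rfl⟩
            exact hKle (hK.conj_mem k hk m)
          · rw [← coe_smul', hm]
        exact htop ▸ mem_top _
      obtain ⟨r, hr, z, hz, e⟩ := mem_sup_of_normal_left.mp hsup
      rw [hSMeq, mem_subgroupOf] at hz
      exact ⟨r, mem_map_of_mem _ hr, z, hz, (congrArg Subtype.val e).symm⟩
    have hnorm : ∀ a, (∀ x ∈ M, a * x * a⁻¹ ∈ M) → a ∈ normalizer (R : Set G) := by
      intro a ha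
      have hmap : M.map (MulAut.conj a).toMonoidHom = M :=
        Subgroup.eq_of_le_of_card_ge (by rintro _ ⟨x, hx, rfl⟩; exact ha x hx)
          (by rw [Subgroup.card_map_of_injective (MulAut.conj a).injective])
      let φ : ↥M ≃* ↥M :=
        (MulEquiv.subgroupMap (MulAut.conj a) M).trans (MulEquiv.subgroupCongr hmap)
      refine map_conj_eq_self_iff.mp ?_
      have hφ : M.subtype.comp φ.toMonoidHom = (MulAut.conj a).toMonoidHom.comp M.subtype :=
        MonoidHom.ext fun x => rfl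
      rw [hRdef, Subgroup.map_map, ← hφ, ← Subgroup.map_map,
        Subgroup.characteristic_iff_map_eq.mp inferInstance φ]
    have hCnorm : ∀ a ∈ C, a ∈ normalizer (R : Set G) := fun a ha => hnorm a fun x hx =>
      Subgroup.mem_inf.mpr ⟨mul_mem (mul_mem ha hx.1) (inv_mem ha), hN.conj_mem x hx.2 a⟩
    have hhnorm : h ∈ normalizer (R : Set G) := hnorm h fun x hx => ⟨hhC x hx.1, hN.conj_mem x hx.2 h⟩
    set H := normalizer (R : Set G)
    let π := QuotientGroup.mk' (R.subgroupOf H)
    have hker : ∀ (x : G) (hx : x ∈ H), π ⟨x, hx⟩ = 1 ↔ x ∈ R := fun x hx => by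
      rw [QuotientGroup.mk'_apply, QuotientGroup.eq_one_iff, mem_subgroupOf]
    -- `π h` centralizes the image of the derived subgroup of `P`
    let ψ : ↥(P : Subgroup G) →* ↥H ⧸ R.subgroupOf H :=
      π.comp (Subgroup.inclusion fun a ha => hCnorm a (hPC ha))
    have hshift : ∀ a : ↥(P : Subgroup G), ∃ z, (∀ b, Commute z (ψ b)) ∧
        (∀ z' : G, ∀ hz' : z' ∈ Z, Commute z (π ⟨z', hCnorm z' (hZM hz').1⟩)) ∧
        π ⟨h, hhnorm⟩ * ψ a * (π ⟨h, hhnorm⟩)⁻¹ = z * ψ a ∧
        ∃ z₀, ∃ hz₀ : z₀ ∈ Z, z = π ⟨z₀, hCnorm z₀ (hZM hz₀).1⟩ := by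
      intro a
      have hmem : h * (a : G) * h⁻¹ * (a : G)⁻¹ ∈ M :=
        Subgroup.mem_inf.mpr ⟨mul_mem (hhC a (hPC a.2)) (inv_mem (hPC a.2)), by
          rw [show h * (a : G) * h⁻¹ * (a : G)⁻¹ = h * ((a : G) * h⁻¹ * (a : G)⁻¹) by group]
          exact mul_mem hhN (hN.conj_mem _ (inv_mem hhN) a)⟩
      obtain ⟨r, hr, z, hz, e⟩ := hdec _ hmem
      have hrH : r ∈ H := Subgroup.le_normalizer hr
      refine ⟨π ⟨z, hCnorm z (hZM hz).1⟩, fun b => ?_, fun z' hz' => ?_, ?_, z, hz, rfl⟩
      · exact (Commute.map (show Commute (⟨z, hCnorm z (hZM hz).1⟩ : ↥H) ⟨b, hCnorm _ (hPC b.2)⟩ from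
          Subtype.ext (mem_centralizer_iff.mp (hPC b.2) z hz)) π)
      · exact (Commute.map (show Commute (⟨z, hCnorm z (hZM hz).1⟩ : ↥H) ⟨z', hCnorm z' (hZM hz').1⟩ from
          Subtype.ext (mem_centralizer_iff.mp (hZM hz').1 z hz)) π)
      · show π ⟨h, hhnorm⟩ * π ⟨a, _⟩ * (π ⟨h, hhnorm⟩)⁻¹ = π ⟨z, _⟩ * π ⟨a, _⟩
        rw [← map_inv, ← map_mul, ← map_mul, ← map_mul]
        refine Eq.trans (congrArg π (Subtype.ext (show h * (a : G) * h⁻¹ = r * (z * a) from ?_)) :
          _ = π (⟨r, hrH⟩ * (⟨z, hCnorm z (hZM hz).1⟩ * ⟨a, hCnorm _ (hPC a.2)⟩))) ?_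
        · rw [← mul_assoc, ← e]
          group
        · rw [map_mul, (hker r hrH).mpr hr, one_mul]
    have hD : commutator ↥(P : Subgroup G) ≤ (centralizer ({π ⟨h, hhnorm⟩} : Set _)).comap ψ := by
      rw [commutator_eq_closure, closure_le]
      rintro _ ⟨a, b, rfl⟩
      rw [SetLike.mem_coe, mem_comap, mem_centralizer_singleton_iff]
      obtain ⟨za, ha1, ha2, ha3, -⟩ := hshift a
      obtain ⟨zb, hb1, -, hb3, z₀, hz₀, rfl⟩ := hshift b
      have hconj : π ⟨h, hhnorm⟩ * ψ ⁅a, b⁆ * (π ⟨h, hhnorm⟩)⁻¹ = ψ ⁅a, b⁆ := by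
        rw [map_commutatorElement, ← MulAut.conj_apply, map_commutatorElement, MulAut.conj_apply,
          MulAut.conj_apply, ha3, hb3]
        have c1 := (ha1 a).eq; have c2 := (ha1 b).eq; have c3 := (hb1 a).eq; have c4 := (hb1 b).eq
        have c5 : Commute za (π ⟨z₀, hCnorm z₀ (hZM hz₀).1⟩) := ha2 z₀ hz₀
        exact central_commutator (ha1 a) (ha1 b) (hb1 a) (hb1 b) c5
      exact (mul_inv_eq_iff_eq_mul.mp hconj).symm
    rw [hCdef, mem_centralizer_iff]
    intro z hz
    obtain ⟨a, ha, rfl⟩ := hz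
    have ha' : a ∈ commutator ↥(P : Subgroup G) := by
      rw [← Subgroup.top_lowerCentralSeries_one]
      exact (⊤ : Subgroup ↥(P : Subgroup G)).lowerCentralSeries_antitone (show 1 ≤ n - 2 by omega) ha
    have h1 := hD ha'
    rw [mem_comap, mem_centralizer_singleton_iff] at h1
    have hzZ : (a : G) ∈ Z := mem_map_of_mem _ ha
    have hR1 : (a : G) * h * (a : G)⁻¹ * h⁻¹ ∈ R := by
      refine (hker _ (mul_mem (mul_mem (mul_mem (hCnorm _ (hPC a.2)) hhnorm) (inv_mem (hCnorm _ (hPC a.2))))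
        (inv_mem hhnorm))).mp ?_
      show π (⟨a, hCnorm _ (hPC a.2)⟩ * ⟨h, hhnorm⟩ * ⟨a, hCnorm _ (hPC a.2)⟩⁻¹ * ⟨h, hhnorm⟩⁻¹) = 1
      rw [map_mul, map_mul, map_mul, map_inv, map_inv]
      show ψ a * π ⟨h, hhnorm⟩ * (ψ a)⁻¹ * (π ⟨h, hhnorm⟩)⁻¹ = 1
      rw [h1]; group
    have hZ1 : (a : G) * h * (a : G)⁻¹ * h⁻¹ ∈ Z := by
      rw [show (a : G) * h * (a : G)⁻¹ * h⁻¹ = (a : G) * (h * (a : G)⁻¹ * h⁻¹) by group]
      exact mul_mem hzZ ((mem_normalizer_iff.mp hhZ _).mp (inv_mem hzZ))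
    have h1' : (a : G) * h * (a : G)⁻¹ * h⁻¹ ∈ Z ⊓ R := ⟨hZ1, hR1⟩
    rw [disjoint_iff.mp (disjoint_of_coprime_natCard (H := Z) (K := R) (by
      rw [hZcard, hRdef, Subgroup.card_map_of_injective Subtype.val_injective]
      exact (CfsgLib.PCore.pPrimeCore_coprime (G := ↥M)).symm)), mem_bot] at h1'
    show (a : G) * h = h * (a : G)
    exact mul_inv_eq_iff_eq_mul.mp (mul_inv_eq_one.mp h1')
  have hnpc : Cfsg.HasNormalPComplement p ↥N := by
    refine CfsgLib.Transfer.hasNormalPComplement_of_normalizer_le SZ ?_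
    rw [hSZeq]
    intro h hh
    rw [mem_centralizer_iff]
    intro z hz
    refine Subtype.ext (mem_centralizer_iff.mp (hburn h h.2 ?_) _ hz)
    rw [mem_normalizer_iff]
    intro x
    constructor
    · intro hx
      exact (mem_normalizer_iff.mp hh ⟨x, hZN hx⟩).mp hx
    · intro hx
      have hxN : x ∈ N := by
        have := hN.conj_mem _ (hZN hx) (h : G)⁻¹
        simpa [mul_assoc] using this
      exact (mem_normalizer_iff.mp hh ⟨x, hxN⟩).mpr hx
  obtain ⟨S0, K, hK, hKc⟩ := hnpc
  have hKb : K = ⊥ := by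
    have hle : K ≤ Cfsg.pPrimeCore p ↥N := CfsgLib.PCore.le_pPrimeCore_of_not_dvd hK (by
      rw [← hKc.index_eq_card]
      exact S0.not_dvd_index)
    have hb : (Cfsg.pPrimeCore p ↥N).map N.subtype = ⊥ := le_bot_iff.mp (hcore ▸
      CfsgLib.PCore.le_pPrimeCore inferInstance (by
        rw [Subgroup.card_map_of_injective Subtype.val_injective]; exact CfsgLib.PCore.pPrimeCore_coprime))
    rw [Subgroup.map_eq_bot_iff_of_injective _ Subtype.val_injective] at hb
    exact le_bot_iff.mp (hb ▸ hle)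
  have hNcard : Nat.card N = p := by
    obtain ⟨k, hk⟩ := IsPGroup.iff_card.mp S0.2
    have hd : p ^ k ∣ Nat.card N := hk ▸ Subgroup.card_subgroup_dvd_card _
    have hmul := hKc.card_mul_card
    rw [hKb, Subgroup.card_bot, one_mul, hk] at hmul
    have hk1 : k ≤ 1 := by
      by_contra hk1
      exact hpN2 ((pow_dvd_pow p (show 2 ≤ k by omega)).trans hd)
    interval_cases k
    · rw [← hmul, pow_zero] at hpN; exact absurd hpN hp.not_dvd_one
    · rw [← hmul, pow_one]
  have hNZ : N = Z := (Subgroup.eq_of_le_of_card_ge hZN (by rw [hNcard, hZcard])).symm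
  refine ⟨hn4, ?_, hNcard⟩
  have htop : centralizer (N : Set G) = ⊤ := by
    refine hres _ inferInstance ?_
    rw [Nat.coprime_comm, hp.coprime_iff_not_dvd]
    exact fun hd => P.not_dvd_index (hd.trans (index_dvd_of_le (hNZ ▸ hPC)))
  intro x hx
  rw [mem_center_iff]
  exact fun y => (mem_centralizer_iff.mp (htop ▸ mem_top y : y ∈ centralizer (N : Set G)) x hx).symm
include hM hfail hres in
theorem main (hcore : Cfsg.pPrimeCore p G = ⊥) : Cfsg.IsQuasisimple G ∧ Nat.card (center G) ≤ p := by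
  have hp := (Fact.out : p.Prime)
  have h3 := hM.three
  have hlcs : ∀ k, ((⊤ : Subgroup ↥(P : Subgroup G)).lowerCentralSeries k).map (P : Subgroup G).subtype ≤ (⊤ : Subgroup G).lowerCentralSeries k := fun k => by
    rw [Subgroup.map_lowerCentralSeries]
    induction k with
    | zero => exact le_top
    | succ k ih => exact Subgroup.commutator_mono ih le_top
  have hperf : commutator G = ⊤ := by
    by_contra h
    rcases normal_cases P hM hfail hres hcore h with hb | ⟨hn4, hz, -⟩
    · refine CfsgLib.MaxClassRank.not_le_succ hM.bot hM.ne (i := 1) (by omega) fun x hx => ?_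
      have := hlcs 1 (mem_map_of_mem _ hx)
      rw [Subgroup.top_lowerCentralSeries_one, hb, mem_bot] at this
      rw [show x = 1 from Subtype.ext this]
      exact one_mem _
    · refine CfsgLib.MaxClassRank.not_le_succ hM.bot hM.ne (i := 2) (by omega) fun x hx => ?_
      have h2 : (⊤ : Subgroup G).lowerCentralSeries 2 = ⊥ := by
        rw [Subgroup.lowerCentralSeries_succ, Subgroup.top_lowerCentralSeries_one, eq_bot_iff,
          commutator_le]
        intro a ha b _
        rw [mem_bot, commutatorElement_eq_one_iff_mul_comm]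
        exact (mem_center_iff.mp (hz ha) b).symm
      have := hlcs 2 (mem_map_of_mem _ hx)
      rw [h2, mem_bot] at this
      rw [show x = 1 from Subtype.ext this]
      exact one_mem _
  have hct : center G ≠ ⊤ := by
    intro e
    have hc : commutator G = ⊥ := by
      rw [_root_.commutator_def, eq_bot_iff, commutator_le]
      intro a _ b _
      rw [mem_bot, commutatorElement_eq_one_iff_mul_comm]
      exact mem_center_iff.mp (e ▸ mem_top b) a
    have hb : (⊤ : Subgroup G) = ⊥ := hperf ▸ hc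
    have : Nat.card ↥(P : Subgroup G) ∣ Nat.card (⊤ : Subgroup G) := card_dvd_of_le le_top
    rw [hb, Subgroup.card_bot, hM.card] at this
    exact hp.one_lt.ne' (Nat.eq_one_of_dvd_one ((dvd_pow_self p (by omega)).trans this))
  refine ⟨⟨⟨hperf⟩, ?_⟩, ?_⟩
  · refine { exists_pair_ne := ?_, eq_bot_or_eq_top_of_normal := fun M hMn => ?_ }
    · by_contra h
      push Not at h
      exact hct ((eq_top_iff' _).mpr fun g => (QuotientGroup.eq_one_iff g).mp (h _ _))
    · set N := M.comap (QuotientGroup.mk' (center G)) with hNdef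
      have hmap : N.map (QuotientGroup.mk' (center G)) = M :=
        Subgroup.map_comap_eq_self_of_surjective (QuotientGroup.mk'_surjective _) M
      by_cases hNt : N = ⊤
      · right
        rw [← hmap, hNt, Subgroup.map_top_of_surjective _ (QuotientGroup.mk'_surjective _)]
      · left
        rw [← hmap, Subgroup.map_eq_bot_iff, QuotientGroup.ker_mk']
        rcases normal_cases P hM hfail hres hcore hNt with hb | ⟨-, hz, -⟩
        · rw [hb]; exact bot_le
        · exact hz
  · rcases normal_cases P hM hfail hres hcore hct with hb | ⟨-, -, hc⟩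
    · rw [hb, Subgroup.card_bot]; exact hp.one_le
    · exact hc.le

end CfsgLib.MaxClassDich
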