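import Cfsg.Agent.Lib.Struct78.MaxClassPower.Layers
import Cfsg.Agent.Lib.PGroup.MaximalClass
import Cfsg.Agent.Lib.PGroup.Frattini

/-!
Elements of a `p`-group of maximal class with centralizer of order `p²`, and the subgroups
containing one.
-/

set_option autoImplicit false
set_option linter.unusedSectionVars false

namespace CfsgLib.MaxClassGood

open Subgroup CfsgLib.MaxClassRank CfsgLib.MaxClassPower
open scoped commutatorElement

variable {T : Type*} [Group T] [Finite T] {p n : ℕ} [Fact p.Prime]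

local notation "L" => Subgroup.lowerCentralSeries (⊤ : Subgroup T)

/-- Maximal class hypotheses. -/
structure IsMax (T : Type*) [Group T] (p n : ℕ) : Prop where
  card : Nat.card T = p ^ n
  three : 3 ≤ n
  bot : (⊤ : Subgroup T).lowerCentralSeries (n - 1) = ⊥
  ne : (⊤ : Subgroup T).lowerCentralSeries (n - 2) ≠ ⊥

theorem isMax_of_class (hT : Nat.card T = p ^ n) (hn : 3 ≤ n)
    (hcl : Group.nilpotencyClass T = n - 1) : IsMax T p n := by
  have : Group.IsNilpotent T := (IsPGroup.of_card hT).isNilpotent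
  refine ⟨hT, hn, Subgroup.lowerCentralSeries_eq_bot_iff_nilpotencyClass_le.mpr hcl.le, fun h => ?_⟩
  have := Subgroup.lowerCentralSeries_eq_bot_iff_nilpotencyClass_le.mp h
  omega

omit [Finite T] [Fact p.Prime] in
theorem IsMax.eq_bot (hM : IsMax T p n) {i : ℕ} (h : n - 1 ≤ i) : L i = ⊥ :=
  le_bot_iff.mp (((⊤ : Subgroup T).lowerCentralSeries_antitone h).trans hM.bot.le)

/-- Outside the derived subgroup and every two-step centralizer. -/
def Good (n : ℕ) (u : T) : Prop :=
  u ∉ L 1 ∧ ∀ i, 1 ≤ i → i + 3 ≤ n → u ∉ twoStep T i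

theorem last_le_center (hM : IsMax T p n) : L (n - 2) ≤ center T := by
  intro x hx
  rw [mem_center_iff]
  intro y
  have h : ⁅x, y⁆ ∈ L (n - 2 + 1) := lcs_comm_top hx y
  rw [hM.eq_bot (by have := hM.three; omega), mem_bot] at h
  exact (commutatorElement_eq_one_iff_mul_comm.mp h).symm

theorem comm_mem_last {i : ℕ} (hM : IsMax T p n) {u x : T}
    (hu : Good n u) (hi : 1 ≤ i) (hin : i + 2 ≤ n) (hx : x ∈ L i) (hc : ⁅x, u⁆ = 1) :
    x ∈ L (n - 2) := by
  obtain ⟨k, hk⟩ : ∃ k, i + k = n - 2 := ⟨n - 2 - i, by omega⟩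
  induction k generalizing i with
  | zero => rwa [← hk]
  | succ k ih =>
    refine ih (i := i + 1) (by omega) (by omega) ?_ (by omega)
    by_contra hx'
    exact commutator_not_mem hM.card hM.three hM.bot hM.ne hi (by omega) (hu.2 i hi (by omega)) hx hx'
      (hc ▸ one_mem _)

theorem cent_inf (hM : IsMax T p n) {u : T} (hu : Good n u) :
    centralizer ({u} : Set T) ⊓ L 1 = L (n - 2) := by
  have h3 := hM.three
  refine le_antisymm ?_ (le_inf ((last_le_center hM).trans (center_le_centralizer _)) (fun y hy => MaxClassPower.lcs_anti (by omega) hy))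
  rintro x ⟨hx, hx1⟩
  exact comm_mem_last hM hu le_rfl (by omega) hx1
    (commutatorElement_eq_one_iff_mul_comm.mpr (mem_centralizer_singleton_iff.mp hx))

theorem eq_top_of_sup (hM : IsMax T p n) {H : Subgroup T} (h : H ⊔ L 1 = ⊤) : H = ⊤ := by
  refine frattini_nongenerating (eq_top_iff.2 (h.ge.trans (sup_le_sup_left ?_ _)))
  rw [Subgroup.top_lowerCentralSeries_one]
  exact CfsgLib.PGroup.commutator_le_frattini (IsPGroup.of_card hM.card)

theorem card_cent (hM : IsMax T p n) {u : T} (hu : Good n u) :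
    Nat.card (centralizer ({u} : Set T)) = p ^ 2 := by
  have h3 := hM.three
  set C := centralizer ({u} : Set T) with hC
  have hT := IsPGroup.of_card hM.card
  have hi := cent_inf hM hu
  have hlast : Nat.card ↥(L (n - 2)) = p := by
    rw [card_lcs hM.card h3 hM.bot hM.ne (n - 2) (by omega) (by omega), show n - 1 - (n - 2) = 1 by omega, pow_one]
  have hlt : L (n - 2) < C := by
    refine lt_of_le_of_ne ((last_le_center hM).trans (center_le_centralizer _)) fun e => hu.1 ?_
    have : u ∈ L (n - 2) := e ▸ mem_centralizer_singleton_iff.mpr rfl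
    exact MaxClassPower.lcs_anti (by omega) this
  have h2 := CfsgLib.Fusion.MaxClass.mul_card_le_of_lt hT hlt
  rw [hlast] at h2
  refine le_antisymm ?_ (by rw [sq]; exact h2)
  have hne : C ≠ ⊤ := by
    intro e
    have hzc : u ∈ center T := mem_center_iff.mpr fun y =>
      mem_centralizer_singleton_iff.mp (show y ∈ C from e ▸ mem_top y)
    have hcl : Group.nilpotencyClass T = n - 1 := by
      have : Group.IsNilpotent T := hT.isNilpotent
      refine le_antisymm (Subgroup.lowerCentralSeries_eq_bot_iff_nilpotencyClass_le.mp hM.bot) ?_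
      by_contra h
      exact hM.ne (Subgroup.lowerCentralSeries_eq_bot_iff_nilpotencyClass_le.mpr (by omega))
    have hzcard : Nat.card (center T) = p := (CfsgLib.MaxClass.center_of_class hM.card h3 hcl).1
    have := Subgroup.eq_of_le_of_card_ge (last_le_center hM) (by rw [hlast, hzcard])
    exact hu.1 (MaxClassPower.lcs_anti (by omega) (this ▸ hzc : u ∈ L (n - 2)))
  have hsup : C ⊔ L 1 ≠ ⊤ := fun e => hne (eq_top_of_sup hM e)
  have h4 := CfsgLib.Fusion.MaxClass.mul_card_le_of_lt hT (lt_top_iff_ne_top.mpr hsup)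
  rw [Subgroup.card_top] at h4
  have h5 : Nat.card ↥C * Nat.card ↥(L 1) = Nat.card ↥(C ⊔ L 1) * Nat.card ↥(C ⊓ L 1) := by
    have e1 := Subgroup.relIndex_mul_relIndex (⊥ : Subgroup T) (C ⊓ L 1) C bot_le inf_le_left
    have e2 := Subgroup.relIndex_mul_relIndex (⊥ : Subgroup T) (L 1) (C ⊔ L 1) bot_le le_sup_right
    rw [Subgroup.relIndex_bot_left, Subgroup.relIndex_bot_left, inf_comm C, Subgroup.inf_relIndex_right] at e1
    rw [Subgroup.relIndex_bot_left, Subgroup.relIndex_bot_left, sup_comm C, Subgroup.relIndex_sup_left] at e2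
    rw [← e1, sup_comm C, ← e2, inf_comm C]
    ring
  rw [hi, hlast, card_lcs hM.card h3 hM.bot hM.ne 1 le_rfl (by omega)] at h5
  have h6 : p ^ (n - 1 - 1) * Nat.card ↥C ≤ p ^ (n - 1 - 1) * p ^ 2 := by
    rw [← pow_add, show n - 1 - 1 + 2 = n by omega, ← hM.card, mul_comm, h5, mul_comm]
    exact h4
  exact Nat.le_of_mul_le_mul_left h6 (pow_pos (Fact.out : p.Prime).pos _)

/-- Commutation with a good element maps each term onto the next. -/
theorem exists_comm (hM : IsMax T p n) {u : T} (hC : Nat.card (centralizer ({u} : Set T)) = p ^ 2)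
    (hu : u ∉ L 1) (i : ℕ) {c : T} (hc : c ∈ L (i + 1)) : ∃ d ∈ L i, ⁅d, u⁆ = c := by
  classical
  have h3 := hM.three
  have hp := (Fact.out : p.Prime)
  rcases Nat.lt_or_ge n (i + 3) with hin | hin
  · rw [hM.eq_bot (show n - 1 ≤ i + 1 by omega), mem_bot] at hc
    exact ⟨1, one_mem _, by simp [hc]⟩
  set C := centralizer ({u} : Set T)
  set D := L i
  let f : (↥D ⧸ C.subgroupOf D) → ↥(L (i + 1)) := fun q =>
    ⟨⁅(q.out : T), u⁆, lcs_comm_top q.out.2 u⟩
  have hf : Function.Injective f := by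
    intro a b hab
    have h := congrArg Subtype.val hab
    simp only [f, commutatorElement_def] at h
    rw [mul_left_inj] at h
    rw [← a.out_eq, ← b.out_eq]
    refine QuotientGroup.eq.mpr ?_
    rw [mem_subgroupOf, mem_centralizer_singleton_iff]
    push_cast
    calc (a.out : T)⁻¹ * b.out * u = (a.out : T)⁻¹ * ((b.out : T) * u * (b.out : T)⁻¹) * b.out := by group
      _ = u * ((a.out : T)⁻¹ * b.out) := by rw [← h]; group
  have hle : Nat.card ↥(C.subgroupOf D) ≤ (if i = 0 then p ^ 2 else p) := by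
    rw [← Subgroup.inf_subgroupOf_right, Nat.card_congr (subgroupOfEquivOfLe (inf_le_right : C ⊓ D ≤ D)).toEquiv]
    rcases Nat.eq_zero_or_pos i with rfl | hi
    · rw [if_pos rfl]
      exact hC ▸ Subgroup.card_le_of_le inf_le_left
    · rw [if_neg (by omega)]
      have hlt : C ⊓ D < C := lt_of_le_of_ne inf_le_left fun e =>
        hu (MaxClassPower.lcs_anti hi (e.ge (mem_centralizer_singleton_iff.mpr rfl : u ∈ C)).2)
      have h := CfsgLib.Fusion.MaxClass.mul_card_le_of_lt (IsPGroup.of_card hM.card) hlt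
      rw [hC, sq] at h
      exact Nat.le_of_mul_le_mul_left h hp.pos
  have hbig : Nat.card ↥(L (i + 1)) * (if i = 0 then p ^ 2 else p) ≤ Nat.card ↥D := by
    rw [card_lcs hM.card h3 hM.bot hM.ne (i + 1) (by omega) (by omega)]
    rcases Nat.eq_zero_or_pos i with rfl | hi
    · rw [if_pos rfl, ← pow_add]
      simp only [D, Subgroup.lowerCentralSeries_zero, Subgroup.card_top, hM.card]
      exact le_of_eq (by congr 1; omega)
    · rw [if_neg (by omega), card_lcs hM.card h3 hM.bot hM.ne i hi (by omega), ← pow_succ]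
      exact le_of_eq (by congr 1; omega)
  have hq := Subgroup.card_eq_card_quotient_mul_card_subgroup (C.subgroupOf D)
  have hcard : Nat.card ↥(L (i + 1)) ≤ Nat.card (↥D ⧸ C.subgroupOf D) := by
    refine Nat.le_of_mul_le_mul_right (hbig.trans (hq.le.trans (Nat.mul_le_mul_left _ hle))) ?_
    split_ifs
    · exact pow_pos hp.pos _
    · exact hp.pos
  obtain ⟨q, hq'⟩ := (hf.bijective_of_nat_card_le hcard).2 ⟨c, hc⟩
  exact ⟨q.out, q.out.2, congrArg Subtype.val hq'⟩

/-- A good element is exactly one outside the derived subgroup with centralizer of order `p²`. -/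
theorem good_iff (hM : IsMax T p n) {u : T} :
    Good n u ↔ u ∉ L 1 ∧ Nat.card (centralizer ({u} : Set T)) = p ^ 2 := by
  refine ⟨fun hu => ⟨hu.1, card_cent hM hu⟩, fun hu => ⟨hu.1, fun i hi hin hmem => ?_⟩⟩
  refine not_le_succ hM.bot hM.ne (i := i + 1) (by omega) fun c hc => ?_
  obtain ⟨d, hd, rfl⟩ := exists_comm hM hu.2 hu.1 i hc
  exact mem_twoStep_iff.mp hmem d hd

theorem good_map (hM : IsMax T p n) (φ : T ≃* T) {u : T} (hu : Good n u) : Good n (φ u) := by
  rw [good_iff hM] at hu ⊢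
  have hchar : (L 1).map φ.toMonoidHom = L 1 := by
    rw [Subgroup.map_lowerCentralSeries, Subgroup.map_top_of_surjective _ φ.surjective]
  refine ⟨fun h => hu.1 ?_, ?_⟩
  · rw [← hchar] at h
    obtain ⟨x, hx, he⟩ := h
    exact φ.injective he ▸ hx
  · rw [← hu.2]
    refine (Nat.card_congr (φ.toEquiv.subtypeEquiv fun x => ?_)).symm
    simp only [mem_centralizer_singleton_iff, MulEquiv.toEquiv_eq_coe, EquivLike.coe_coe,
      ← map_mul, φ.injective.eq_iff]

/-- The element `v` of `⟨u⟩ L₁` outside `L₁` is good with `u`. -/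
theorem good_line (hM : IsMax T p n) {u v : T} (hu : Good n u) (hv : v ∈ L 1 ⊔ zpowers u) (hv1 : v ∉ L 1) :
    Good n v := by
  refine ⟨hv1, fun i hi hin hmem => hu.2 i hi hin ?_⟩
  obtain ⟨l, hl, w, hw, rfl⟩ := mem_sup_of_normal_left.mp hv
  obtain ⟨k, rfl⟩ := mem_zpowers_iff.mp hw
  have hup : u ^ p ∈ L 1 := (abelianization_props hM.card hM.three hM.bot hM.ne).2 u
  have hkp : ¬ (p : ℤ) ∣ k := by
    rintro ⟨m, rfl⟩
    rw [zpow_mul, zpow_natCast] at hv1
    exact hv1 (mul_mem hl (zpow_mem hup m))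
  obtain ⟨a, b, hab⟩ : IsCoprime (p : ℤ) k :=
    (Nat.prime_iff_prime_int.mp Fact.out).coprime_iff_not_dvd.mpr hkp
  have hk : u ^ k ∈ twoStep T i := by
    have := mul_mem (inv_mem (lcs_one_le_twoStep i hl)) hmem
    rwa [inv_mul_cancel_left] at this
  have e : u = (u ^ p) ^ a * (u ^ k) ^ b := by
    rw [← zpow_natCast, ← zpow_mul, ← zpow_mul, ← zpow_add, mul_comm _ a, mul_comm _ b, hab, zpow_one]
  rw [e]
  exact mul_mem (zpow_mem (lcs_one_le_twoStep i hup) a) (zpow_mem hk b)

theorem le_sup (hM : IsMax T p n) {u : T} (hu : Good n u) {E : Subgroup T} (hE : E ≠ ⊤) (huE : u ∈ E) :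
    E ≤ L 1 ⊔ zpowers u := by
  have h3 := hM.three
  have hT := IsPGroup.of_card hM.card
  intro e he
  by_contra h
  have h1 : L 1 < L 1 ⊔ zpowers u :=
    lt_of_le_not_ge le_sup_left fun h' => hu.1 (h' (mem_sup_right (mem_zpowers u)))
  have h2 : L 1 ⊔ zpowers u < L 1 ⊔ E :=
    lt_of_le_not_ge (sup_le_sup_left (zpowers_le.mpr huE) _) fun h' => h (h' (mem_sup_right he))
  have h4 : L 1 ⊔ E < ⊤ := lt_top_iff_ne_top.mpr fun e => hE (eq_top_of_sup hM (by rwa [sup_comm]))
  have a := CfsgLib.Fusion.MaxClass.mul_card_le_of_lt hT h1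
  have b := CfsgLib.Fusion.MaxClass.mul_card_le_of_lt hT h2
  have c := CfsgLib.Fusion.MaxClass.mul_card_le_of_lt hT h4
  rw [Subgroup.card_top, hM.card] at c
  rw [card_lcs hM.card h3 hM.bot hM.ne 1 le_rfl (by omega), ← pow_succ'] at a
  have d : p ^ (n - 1 - 1 + 1 + 2) ≤ p ^ n := by
    refine le_trans ?_ c
    refine le_trans ?_ (Nat.mul_le_mul_left p b)
    rw [← mul_assoc, pow_add _ _ 2, mul_comm _ (p ^ 2), sq]
    exact Nat.mul_le_mul_left _ a
  have := (Nat.pow_le_pow_iff_right (Fact.out : p.Prime).one_lt).mp d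
  omega

/-- A subgroup closed under commutation with a good element contains the whole term of each of
its elements in `L₁`. -/
theorem term_le (hM : IsMax T p n) {u : T} (hu : Good n u) {E : Subgroup T}
    (hcl : ∀ d ∈ E, ⁅d, u⁆ ∈ E) {d : T}
    (hd : d ∈ E) {i : ℕ} (hi : 1 ≤ i) (hin : i + 2 ≤ n) (hdi : d ∈ L i) (hdi' : d ∉ L (i + 1)) :
    L i ≤ E := by
  have h3 := hM.three
  obtain ⟨k, hk⟩ : ∃ k, i + k = n - 2 := ⟨n - 2 - i, by omega⟩
  induction k generalizing i d with
  | zero =>
    refine (le_sup_zpowers hM.card h3 hM.bot hM.ne hi hin hdi hdi').trans (sup_le ?_ (zpowers_le.mpr hd))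
    rw [hM.eq_bot (by omega)]; exact bot_le
  | succ k ih =>
    refine (le_sup_zpowers hM.card h3 hM.bot hM.ne hi hin hdi hdi').trans (sup_le ?_ (zpowers_le.mpr hd))
    exact ih (d := ⁅d, u⁆) (i := i + 1) (hcl d hd) (by omega) (by omega) (lcs_comm_top hdi u)
      (commutator_not_mem hM.card h3 hM.bot hM.ne hi (by omega) (hu.2 i hi (by omega)) hdi hdi') (by omega)

theorem exists_layer (hM : IsMax T p n) {v : T} (hv : v ∈ L 1) {k : ℕ} (hk : 1 ≤ k) (hvk : v ∉ L k) :
    ∃ i, 1 ≤ i ∧ i + 1 ≤ k ∧ v ∈ L i ∧ v ∉ L (i + 1) := by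
  classical
  have hx : ∃ i, v ∉ L (i + 1) := ⟨k - 1, by rwa [Nat.sub_add_cancel hk]⟩
  have h0 : 1 ≤ Nat.find hx := by
    by_contra h
    have := Nat.find_spec hx
    rw [show Nat.find hx = 0 by omega] at this
    exact this hv
  refine ⟨Nat.find hx, h0, ?_, ?_, Nat.find_spec hx⟩
  · by_contra h
    exact Nat.find_min hx (show k - 1 < Nat.find hx by omega) (by rwa [Nat.sub_add_cancel hk])
  · have := Nat.find_min hx (show Nat.find hx - 1 < Nat.find hx by omega)
    rwa [not_not, Nat.sub_add_cancel h0] at this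

/-- An element fused to a good element inside a proper subgroup is good or lies in `L (n - 3)`. -/
theorem good_or_deep (hM : IsMax T p n) {G : Type*} [Group G] {f : T →* G} (hf : Function.Injective f)
    {u v : T} (hu : Good n u) {E : Subgroup T} (hE : E ≠ ⊤) (huE : u ∈ E) (hvE : v ∈ E) (g : G)
    (hg : (E.map f).map (MulAut.conj g).toMonoidHom = E.map f) (huv : g * f u * g⁻¹ = f v) :
    Good n v ∨ v ∈ L (max 1 (n - 3)) := by
  classical
  have h3 := hM.three
  have hsup := le_sup hM hu hE huE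
  by_cases hv1 : v ∈ L 1
  swap
  · exact Or.inl (good_line hM hu (hsup hvE) hv1)
  refine Or.inr ?_
  by_contra hv3
  have hn : 5 ≤ n := by
    by_contra h
    rw [max_eq_left (by omega)] at hv3
    exact hv3 hv1
  rw [max_eq_right (by omega)] at hv3
  have hcl : ∀ d ∈ E, ⁅d, u⁆ ∈ E := fun d hd => by
    rw [commutatorElement_def]
    exact mul_mem (mul_mem (mul_mem hd huE) (inv_mem hd)) (inv_mem huE)
  have hex : ∃ j, 1 ≤ j ∧ j + 4 ≤ n ∧ L j ≤ E := by
    obtain ⟨i, hi, hi', hvi, hvi'⟩ := exists_layer hM hv1 (k := n - 3) (by omega) hv3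
    exact ⟨i, hi, by omega, term_le hM hu hcl hvE hi (by omega) hvi hvi'⟩
  obtain ⟨hj, hjn, hjE⟩ := Nat.find_spec hex
  set j := Nat.find hex with hjdef
  have hD : ∀ d ∈ E, d ∈ L 1 → d ∈ L j := by
    intro d hd hd1
    suffices H : ∀ k, 1 ≤ k → k ≤ j → d ∈ L k from H j hj le_rfl
    intro k hk
    induction k, hk using Nat.le_induction with
    | base => intro _; exact hd1
    | succ k hk ih =>
      intro hkj
      by_contra hdk
      refine Nat.find_min hex (show k < Nat.find hex by omega) ⟨hk, by omega, ?_⟩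
      exact term_le hM hu hcl hd hk (by omega) (ih (by omega)) hdk
  have hcomm : ⁅E, E⁆ ≤ L (j + 1) := by
    rw [commutator_le]
    set π := QuotientGroup.mk' (L (j + 1))
    have hz : ∀ d ∈ L j, ∀ y, Commute (π d) (π y) := fun d hd y => by
      rw [Commute, SemiconjBy, ← commutatorElement_eq_one_iff_mul_comm, ← map_commutatorElement]
      exact (QuotientGroup.eq_one_iff _).mpr (lcs_comm_top hd y)
    have hdec : ∀ e ∈ E, ∃ d ∈ L j, ∃ k : ℤ, e = d * u ^ k := by
      intro e he
      obtain ⟨l, hl, w, hw, rfl⟩ := mem_sup_of_normal_left.mp (hsup he)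
      obtain ⟨k, rfl⟩ := mem_zpowers_iff.mp hw
      exact ⟨l, hD l (by simpa using mul_mem he (inv_mem (zpow_mem huE k))) hl, k, rfl⟩
    intro e he e' he'
    obtain ⟨d, hd, k, rfl⟩ := hdec e he
    obtain ⟨d', hd', k', rfl⟩ := hdec e' he'
    refine (QuotientGroup.eq_one_iff _).mp ?_
    show π _ = 1
    rw [map_commutatorElement, commutatorElement_eq_one_iff_commute, map_mul, map_mul]
    refine Commute.mul_left ((hz d hd d').mul_right (hz d hd _)) ((hz d' hd' _).symm.mul_right ?_)
    rw [map_zpow, map_zpow]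
    exact (Commute.refl _).zpow_zpow k k'
  have hlcs : ∀ k, E.lowerCentralSeries (k + 1) = L (j + k + 1) := by
    intro k
    induction k with
    | zero =>
      rw [Subgroup.lowerCentralSeries_succ, Subgroup.lowerCentralSeries_zero, Nat.add_zero]
      refine le_antisymm hcomm fun c hc => ?_
      obtain ⟨d, hd, rfl⟩ := exists_comm hM (card_cent hM hu) hu.1 j hc
      exact commutator_mem_commutator (hjE hd) huE
    | succ k ih =>
      rw [Subgroup.lowerCentralSeries_succ, ih, show j + (k + 1) + 1 = j + k + 1 + 1 by omega]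
      refine le_antisymm ?_ fun c hc => ?_
      · rw [Subgroup.lowerCentralSeries_succ (n := j + k + 1)]
        exact commutator_mono le_rfl le_top
      · obtain ⟨d, hd, rfl⟩ := exists_comm hM (card_cent hM hu) hu.1 (j + k + 1) hc
        exact commutator_mem_commutator hd huE
  have hfix : ∀ k, ((L (j + k + 1)).map f).map (MulAut.conj g).toMonoidHom = (L (j + k + 1)).map f := by
    intro k
    rw [← hlcs k, Subgroup.map_lowerCentralSeries, Subgroup.map_lowerCentralSeries, hg]
  refine hu.2 (j + 1) (by omega) (by omega) (mem_twoStep_iff.mpr fun y hy => ?_)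
  have hgy : g * f y * g⁻¹ ∈ (L (j + 1)).map f := by
    have := Subgroup.mem_map_of_mem (MulAut.conj g).toMonoidHom (Subgroup.mem_map_of_mem f hy)
    rw [hfix 0] at this
    exact this
  obtain ⟨y', hy', hye⟩ := hgy
  have hc : ⁅y', v⁆ ∈ L (j + 2 + 1) := MaxClassPower.lcs_anti (by omega) (lcs_comm hy' (hD v hvE hv1))
  have h' := Subgroup.mem_map_of_mem f hc
  rw [map_commutatorElement, hye, ← huv] at h'
  rw [← hfix 2] at h'
  obtain ⟨w, ⟨w', hw', hwe⟩, hwe'⟩ := h'
  have he : g * f ⁅y, u⁆ * g⁻¹ = g * w * g⁻¹ := by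
    rw [show g * w * g⁻¹ = (MulAut.conj g).toMonoidHom w from rfl, hwe', map_commutatorElement, commutatorElement_def,
      commutatorElement_def]
    group
  rw [mul_left_inj, mul_right_inj, ← hwe, hf.eq_iff] at he
  exact he ▸ hw'

/-- Outside the two-step centralizers of the first `p - 1` terms one is outside all of them. -/
theorem not_mem_twoStep (hM : IsMax T p n) {s : T}
    (hs : ∀ j, 1 ≤ j → j ≤ p - 1 → j + 3 ≤ n → s ∉ twoStep T j) :
    ∀ j, 1 ≤ j → j + 3 ≤ n → s ∉ twoStep T j := by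
  have hp2 := (Fact.out : p.Prime).two_le
  obtain ⟨hG, hn, hbot, hne⟩ := hM
  intro j
  induction j using Nat.strong_induction_on with
  | _ j ih =>
  intro hj hjn hmem
  rcases Nat.lt_or_ge j p with hjp | hjp
  · exact hs j hj (by omega) hjn hmem
  obtain ⟨l, hl⟩ : ∃ l, j + 1 = l + p := ⟨j + 1 - p, by omega⟩
  have hl1 : 1 ≤ l := by omega
  have hpn : p + 1 ≤ n := by omega
  obtain ⟨x, hx, hx'⟩ := SetLike.not_le_iff_exists.mp (not_le_succ hbot hne (i := l) (by omega))
  have hsl : s ∉ twoStep T l := ih l (by omega) hl1 (by omega)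
  set z := ⁅x, s⁆ with hz
  have hz1 : z ∈ L (l + 1) := lcs_comm_top hx s
  have hz2 : z ∉ L (l + 1 + 1) := commutator_not_mem hG hn hbot hne hl1 (by omega) hsl hx hx'
  refine CfsgLib.MaxClassPower.pow_not_mem hG hn hbot hne hpn (l + 1) (by omega) (by omega) z hz1 hz2 ?_
  set y := s * x * s⁻¹ with hy
  have hy1 : y ∈ L l := (inferInstance : (L l).Normal).conj_mem x hx s
  have he := MaxClassPower.lcs_anti (show l + 1 + p ≤ l + 3 + p - 2 by omega)
    (pow_mul_mem (fun w hw => pow_mem_shift hG hn hbot hne hpn (by omega) w hw)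
      (MaxClassPower.lcs_anti (show l + 3 ≤ l + 1 + l + 1 by omega) (lcs_comm hz1 hy1)))
  set e := (z ^ p * y ^ p)⁻¹ * (z * y) ^ p with he_def
  have hxp : x ^ p ∈ L j := MaxClassPower.lcs_anti (by omega) (pow_mem_shift hG hn hbot hne hpn hl1 x hx)
  have h2 : ⁅x ^ p, s⁆ ∈ L (l + 1 + p) := MaxClassPower.lcs_anti (by omega) (mem_twoStep_iff.mp hmem _ hxp)
  have h3 : z ^ p = x ^ p * e⁻¹ * (x ^ p)⁻¹ * ⁅x ^ p, s⁆ := by
    have h4 : z * y = x := by rw [hz, hy, commutatorElement_def]; group
    have h5 : y ^ p = s * x ^ p * s⁻¹ := by rw [hy, conj_pow]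
    rw [he_def, h4, h5, commutatorElement_def]
    group
  rw [h3]
  exact mul_mem ((inferInstance : (L (l + 1 + p)).Normal).conj_mem _ (inv_mem he) _) h2

/-- Every proper subgroup misses a good element. -/
theorem exists_good (hM : IsMax T p n) {M : Subgroup T} (hMt : M ≠ ⊤) : ∃ u, Good n u ∧ u ∉ M := by
  classical
  have h3 := hM.three
  have hp2 := (Fact.out : p.Prime).two_le
  let C : ℕ → Subgroup T := fun i => if i = 0 then M ⊔ L 1 else twoStep T i
  have ht : (Finset.range (min (p - 1) (n - 3) + 1)).card ≤ p := by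
    rw [Finset.card_range]; omega
  have hC : ∀ i ∈ Finset.range (min (p - 1) (n - 3) + 1), L 1 ≤ C i ∧ C i ≠ ⊤ := by
    intro i hi
    by_cases h : i = 0
    · simp only [C, if_pos h]
      exact ⟨le_sup_right, fun e => hMt (eq_top_of_sup hM e)⟩
    · simp only [C, if_neg h]
      simp only [Finset.mem_range] at hi
      exact ⟨lcs_one_le_twoStep i, twoStep_ne_top hM.bot hM.ne (by omega)⟩
  obtain ⟨s, hs⟩ := MaxClassRank.exists_not_mem (p := p) (L 1)
    (abelianization_props hM.card h3 hM.bot hM.ne).1 (Finset.range (min (p - 1) (n - 3) + 1)) ht C hC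
  have h0 : s ∉ M ⊔ L 1 := by simpa [C] using hs 0 (by simp)
  refine ⟨s, ⟨fun h => h0 (mem_sup_right h), not_mem_twoStep hM fun j hj hjp hjn hm => ?_⟩,
    fun h => h0 (mem_sup_left h)⟩
  exact hs j (Finset.mem_range.mpr (by omega)) (by simpa [C, if_neg (show ¬ j = 0 by omega)] using hm)

/-- A normal subgroup reaching outside `L k` contains an early term. -/
theorem le_of_normal (hM : IsMax T p n) {N : Subgroup T} [N.Normal] {k : ℕ} (hk : 1 ≤ k) (hkn : k + 1 ≤ n)
    (hN : ¬ N ≤ L k) : L (max 1 (k - 1)) ≤ N := by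
  have h3 := hM.three
  have hcl : ∀ (y : T), ∀ d ∈ N, ⁅d, y⁆ ∈ N := fun y d hd => by
    rw [commutatorElement_def, show d * y * d⁻¹ * y⁻¹ = d * (y * d⁻¹ * y⁻¹) by group]
    exact mul_mem hd ((inferInstance : N.Normal).conj_mem _ (inv_mem hd) y)
  obtain ⟨d, hd, hdk⟩ := SetLike.not_le_iff_exists.mp hN
  obtain ⟨u, hu, -⟩ := exists_good hM (M := L 1) (by
    intro e
    have := card_lcs hM.card h3 hM.bot hM.ne 1 le_rfl (by omega)
    rw [e, Subgroup.card_top, hM.card] at this
    have := Nat.pow_right_injective (Fact.out : p.Prime).two_le this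
    omega)
  by_cases hd1 : d ∈ L 1
  · obtain ⟨i, hi, hik, hdi, hdi'⟩ := exists_layer hM hd1 hk hdk
    exact ((⊤ : Subgroup T).lowerCentralSeries_antitone (show i ≤ max 1 (k - 1) by omega)).trans
      (term_le hM hu (hcl u) hd hi (by omega) hdi hdi')
  -- an element outside the derived subgroup
  have hsup : ∀ z : T, L 1 ⊔ zpowers z ≠ ⊤ := by
    intro z e
    have hz := eq_top_of_sup hM (H := zpowers z) (by rwa [sup_comm])
    refine not_le_succ hM.bot hM.ne (i := 1) (by omega) ?_
    rw [Subgroup.lowerCentralSeries_succ, Subgroup.lowerCentralSeries_zero, commutator_le]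
    intro a _ b _
    obtain ⟨i, rfl⟩ := mem_zpowers_iff.mp (hz.ge (mem_top a))
    obtain ⟨j, rfl⟩ := mem_zpowers_iff.mp (hz.ge (mem_top b))
    rw [commutatorElement_eq_one_iff_commute.mpr ((Commute.refl z).zpow_zpow i j)]
    exact one_mem _
  obtain ⟨y, hy, hyM⟩ := exists_good hM (hsup d)
  have hnot : ⁅d, y⁆ ∉ L 2 := by
    intro h
    set π := QuotientGroup.mk' (L 2)
    set C := (centralizer ({π y} : Set _)).comap π
    have hmem : ∀ a, a ∈ C ↔ ⁅a, y⁆ ∈ L 2 := fun a => by
      rw [mem_comap, mem_centralizer_singleton_iff, ← commutatorElement_eq_one_iff_mul_comm, ← map_commutatorElement]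
      exact QuotientGroup.eq_one_iff _
    by_cases hC : C = ⊤
    · refine not_le_succ hM.bot hM.ne (i := 1) (by omega) fun c hc => ?_
      obtain ⟨a, -, rfl⟩ := exists_comm hM (card_cent hM hy) hy.1 0 hc
      exact (hmem a).mp (hC ▸ mem_top a)
    · have hdl := le_sup hM hy hC ((hmem y).mpr (by simp)) ((hmem d).mpr h)
      have hgd := good_line hM hy hdl hd1
      exact hyM (le_sup hM hgd (hsup y) hdl (mem_sup_right (mem_zpowers y)))
  exact ((⊤ : Subgroup T).lowerCentralSeries_antitone (le_max_left _ _)).trans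
    (term_le hM hu (hcl u) (hcl y d hd) le_rfl (by omega) (lcs_comm_top (by simp) y) hnot)

end CfsgLib.MaxClassGood
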