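import Cfsg.Agent.Lib.PGroup.MaxClassSplit
import Cfsg.Agent.Lib.PGroup.MaximalClass
import Cfsg.Agent.S4143

/-!
# Self-centralizing subgroups of order `p ^ 2` and `p ^ 3` of exponent `p`

A `p`-group with a self-centralizing subgroup `A`, elementary abelian of order `p ^ 2`, or
nonabelian of order `p ^ 3` and exponent `p`, has maximal class and an element `x` of `A` of
order `p` with `|C(x)| = p ^ 2`.
-/

set_option autoImplicit false
set_option linter.style.haveILetI false

namespace CfsgLib.MaxClassSplit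

open Subgroup
open scoped commutatorElement

variable {p : ℕ} [Fact p.Prime]

theorem isMulCommutative_of_card_le_sq {X : Type*} [Group X] [Finite X] {j : ℕ}
    (h : Nat.card X = p ^ j) (hj : j ≤ 2) : IsMulCommutative X := by
  rcases Nat.eq_zero_or_pos j with rfl | hj0
  · haveI := (Nat.card_eq_one_iff_unique.mp (h.trans (pow_zero p))).1
    exact ⟨⟨fun a b => Subsingleton.elim _ _⟩⟩
  · obtain ⟨m, hmn, hm, -⟩ := CfsgLib.MaxClass.card_center_quotient h hj0
    exact CfsgLib.MaxClass.abelian_of_center_quotient_le (p := p) (by omega) hm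

/-- Cardinality squeeze between consecutive prime powers. -/
theorem card_eq_of_lt_of_lt {G : Type*} [Group G] [Finite G] {K M B : Subgroup G} {k : ℕ}
    (hK : Nat.card K = p ^ k) (hB : Nat.card B = p ^ (k + 2)) (h1 : K < M) (h2 : M < B) :
    Nat.card M = p ^ (k + 1) := by
  have hp : p.Prime := Fact.out
  obtain ⟨e, -, he⟩ := (Nat.dvd_prime_pow hp).1 (hB ▸ card_dvd_of_le h2.le)
  have c1 : Nat.card K < Nat.card M :=
    lt_of_not_ge fun hge => h1.ne (eq_of_le_of_card_ge h1.le hge)
  have c2 : Nat.card M < Nat.card B :=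
    lt_of_not_ge fun hge => h2.ne (eq_of_le_of_card_ge h2.le hge)
  rw [hK, he, Nat.pow_lt_pow_iff_right hp.one_lt] at c1
  rw [hB, he, Nat.pow_lt_pow_iff_right hp.one_lt] at c2
  rw [he, show e = k + 1 by omega]

theorem setting_of_abelian {G : Type*} [Group G] [Finite G] {n : ℕ} (hG : Nat.card G = p ^ n)
    (hn : 3 ≤ n) {A : Subgroup G} (hA : Nat.card A = p ^ 2) (hexp : ∀ a ∈ A, a ^ p = 1)
    (hC : centralizer (A : Set G) ≤ A) : ∃ x ∈ A, Setting p n x := by
  have hp : p.Prime := Fact.out
  haveI hAc : IsMulCommutative A := IsPGroup.isMulCommutative_of_card_eq_prime_sq hA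
  have hAab : ∀ a ∈ A, ∀ b ∈ A, a * b = b * a := fun a ha b hb => setLike_mul_comm ha hb
  have hCA : centralizer (A : Set G) = A :=
    le_antisymm hC fun a ha => mem_centralizer_iff.2 fun b hb => hAab b hb a ha
  have hcls := CfsgLib.MaxClass.class_of_selfCentralizing n G hG A hA hCA
  obtain ⟨hZ, -, -⟩ := CfsgLib.MaxClass.center_of_class hG hn hcls
  have hZA : center G ≤ A := (center_le_centralizer _).trans hC
  obtain ⟨x, hxA, hxZ⟩ : ∃ x ∈ A, x ∉ center G := by
    refine SetLike.not_le_iff_exists.1 fun hle => ?_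
    have := Nat.le_of_dvd Nat.card_pos (card_dvd_of_le hle)
    rw [hA, hZ, pow_two] at this
    have := hp.two_le
    nlinarith
  refine ⟨x, hxA, hG, hcls, hn, hexp x hxA, ?_⟩
  have hgen : zpowers x ⊔ center G = A := by
    refine eq_of_le_of_card_ge (sup_le (zpowers_le.2 hxA) hZA) ?_
    obtain ⟨e, -, he⟩ := (Nat.dvd_prime_pow hp).1
      (hA ▸ card_dvd_of_le (sup_le (zpowers_le.2 hxA) hZA))
    have hlt : center G < zpowers x ⊔ center G :=
      lt_of_le_of_ne le_sup_right fun e => hxZ (e.ge (mem_sup_left (mem_zpowers x)))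
    have h1 : Nat.card (center G) < Nat.card (zpowers x ⊔ center G : Subgroup G) :=
      lt_of_not_ge fun hge => hlt.ne (eq_of_le_of_card_ge hlt.le hge)
    rw [hZ, he] at h1
    rw [hA, he]
    refine Nat.pow_le_pow_right hp.pos ?_
    by_contra he2
    have := Nat.pow_le_pow_right hp.pos (show e ≤ 1 by omega)
    rw [pow_one] at this
    omega
  have : centralizer ({x} : Set G) = A := by
    refine le_antisymm (fun y hy => hC (mem_centralizer_iff.2 fun b hb => ?_)) fun y hy =>
      mem_centralizer_singleton_iff.2 (hAab y hy x hxA)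
    have hle : zpowers x ⊔ center G ≤ centralizer ({y} : Set G) :=
      sup_le (zpowers_le.2 (mem_centralizer_singleton_iff.2
        (mem_centralizer_singleton_iff.1 hy).symm)) (center_le_centralizer _)
    rw [hgen] at hle
    exact mem_centralizer_singleton_iff.1 (hle hb)
  rw [this, hA]

theorem setting_of_nonabelian {G : Type*} [Group G] [Finite G] {n : ℕ} (hG : Nat.card G = p ^ n)
    (hn : 4 ≤ n) {B : Subgroup G} (hB : Nat.card B = p ^ 3) (hBna : ¬ IsMulCommutative B)
    (hexp : ∀ b ∈ B, b ^ p = 1) (hC : centralizer (B : Set G) ≤ B) :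
    ∃ x ∈ B, Setting p n x := by
  have hp : p.Prime := Fact.out
  have hcls : Group.nilpotencyClass G = n - 1 := Cfsg.Agent.S4143.result n hG B hB hBna hC
  obtain ⟨hZ, hQ, hQc⟩ := CfsgLib.MaxClass.center_of_class hG (by omega) hcls
  obtain ⟨hZQ, -, -⟩ := CfsgLib.MaxClass.center_of_class hQ (by omega)
    (show Group.nilpotencyClass (G ⧸ center G) = n - 1 - 1 by rw [hQc]; omega)
  set Z := center G with hZdef
  let π : G →* G ⧸ Z := QuotientGroup.mk' Z
  have hZB : Z ≤ B := (center_le_centralizer _).trans hC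
  -- the centre of `B` is `Z`
  have hBc : Group.nilpotencyClass B = 3 - 1 := by
    haveI : Group.IsNilpotent B := (IsPGroup.of_card hB).isNilpotent
    have h1 := CfsgLib.MaxClass.class_le 3 B hB (by norm_num)
    have h2 : ¬ Group.nilpotencyClass B ≤ 1 := fun h =>
      hBna (Group.IsNilpotent.nilpotencyClass_le_one_iff.1 h)
    omega
  have hZBc := (CfsgLib.MaxClass.center_of_class hB le_rfl hBc).1
  have hcentB : ∀ b ∈ B, (∀ c ∈ B, c * b = b * c) → b ∈ Z := by
    intro b hb hbc
    have hle : Z.subgroupOf B ≤ center B := fun z hz => mem_center_iff.2 fun c =>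
      Subtype.ext (mem_center_iff.1 (mem_subgroupOf.1 hz) c)
    have heq : Z.subgroupOf B = center B := eq_of_le_of_card_ge hle
      (by rw [hZBc, Nat.card_congr (subgroupOfEquivOfLe hZB).toEquiv, hZ])
    have : (⟨b, hb⟩ : B) ∈ center B := mem_center_iff.2 fun c => Subtype.ext (hbc c c.2)
    rw [← heq, mem_subgroupOf] at this
    exact this
  obtain ⟨x1, x2, hx12⟩ : ∃ x1 x2 : B, x1 * x2 ≠ x2 * x1 := by
    by_contra hh
    push Not at hh
    exact hBna ⟨⟨hh⟩⟩
  have hgen : closure ({(x1 : G), (x2 : G)} : Set G) = B := by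
    have hle : closure ({(x1 : G), (x2 : G)} : Set G) ≤ B := (closure_le _).2 (by
      rintro y (rfl | rfl)
      exacts [x1.2, x2.2])
    refine eq_of_le_of_card_ge hle ?_
    obtain ⟨j, -, hj⟩ := (Nat.dvd_prime_pow hp).1 (hB ▸ card_dvd_of_le hle)
    rw [hB, hj]
    refine Nat.pow_le_pow_right hp.pos ?_
    by_contra hj3
    haveI := isMulCommutative_of_card_le_sq hj (by omega)
    have := IsMulCommutative.is_comm.comm
      (⟨x1, Subgroup.subset_closure (by simp)⟩ : closure ({(x1 : G), (x2 : G)} : Set G))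
      ⟨x2, Subgroup.subset_closure (by simp)⟩
    have h12 := congrArg Subtype.val this
    exact hx12 (Subtype.ext h12)
  -- `X`, the elements centralizing `B` modulo `Z`, is `B`
  let X : Subgroup G :=
    { carrier := {y | ∀ b ∈ B, ⁅y, b⁆ ∈ Z}
      one_mem' := fun b _ => by simp
      mul_mem' := fun {a c} ha hc b hb => by
        rw [commutatorElement_mul_left_eq_conj_mul]
        exact mul_mem ((center G).normal_of_characteristic.conj_mem _ (hc b hb) a) (ha b hb)
      inv_mem' := fun {a} ha b hb => by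
        have : ⁅a⁻¹, b⁆ = a⁻¹ * ⁅a, b⁆⁻¹ * a := by rw [commutatorElement_def, commutatorElement_def]; group
        rw [this]
        exact inv_inv a ▸ (by simpa using
          (center G).normal_of_characteristic.conj_mem _ (inv_mem (ha b hb)) a⁻¹) }
  let f : X →* Z × Z :=
    { toFun := fun y => (⟨⁅(y : G), (x1 : G)⁆, y.2 x1 x1.2⟩, ⟨⁅(y : G), (x2 : G)⁆, y.2 x2 x2.2⟩)
      map_one' := by simp
      map_mul' := fun a b => by
        refine Prod.ext (Subtype.ext ?_) (Subtype.ext ?_) <;>
        · simp only [coe_mul, Prod.fst_mul, Prod.snd_mul, commutatorElement_mul_left_eq_conj_mul]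
          rw [mem_center_iff.1 (b.2 _ (by simp)) (a : G), mul_inv_cancel_right]
          exact (mem_center_iff.1 (b.2 _ (by simp)) _).symm }
  have hker : Nat.card f.ker ≤ p := by
    rw [← hZ]
    refine Nat.card_le_card_of_injective (fun y => ⟨((y : X) : G), ?_⟩)
      fun a b h => Subtype.ext (Subtype.ext (Subtype.mk.inj h))
    obtain ⟨h1, h2⟩ := Prod.ext_iff.1 (MonoidHom.mem_ker.1 y.2)
    have h1 : ⁅((y : X) : G), (x1 : G)⁆ = 1 := congrArg Subtype.val h1
    have h2 : ⁅((y : X) : G), (x2 : G)⁆ = 1 := congrArg Subtype.val h2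
    have hyB : ((y : X) : G) ∈ centralizer (B : Set G) := by
      rw [← hgen, centralizer_closure, mem_centralizer_iff]
      rintro c (rfl | rfl)
      · exact (commutatorElement_eq_one_iff_mul_comm.1 h1).symm
      · exact (commutatorElement_eq_one_iff_mul_comm.1 h2).symm
    exact hcentB _ (hC hyB) fun c hc => mem_centralizer_iff.1 hyB c hc
  have hXcard : Nat.card X ≤ p ^ 3 := by
    rw [← f.ker.index_mul_card, index_ker, pow_succ]
    refine Nat.mul_le_mul ?_ hker
    refine (Nat.card_le_card_of_injective f.range.subtype Subtype.val_injective).trans ?_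
    rw [Nat.card_prod, hZ, pow_two]
  have hBX : B ≤ X := by
    intro a ha b hb
    show ⁅a, b⁆ ∈ Z
    have hc : ⁅a, b⁆ ∈ B := mul_mem (mul_mem (mul_mem ha hb) (inv_mem ha)) (inv_mem hb)
    refine hcentB _ hc fun c hc' => ?_
    haveI : IsMulCommutative (B ⧸ center B) := by
      refine IsPGroup.isMulCommutative_of_card_eq_prime_sq (p := p) ?_
      have := card_eq_card_quotient_mul_card_subgroup (center B)
      rw [hB, hZBc, pow_succ] at this
      exact (Nat.eq_of_mul_eq_mul_right hp.pos this).symm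
    have h1 : (⁅(⟨a, ha⟩ : B), (⟨b, hb⟩ : B)⁆ : B) ∈ center B := by
      rw [← QuotientGroup.eq_one_iff, ← QuotientGroup.mk'_apply, map_commutatorElement,
        commutatorElement_eq_one_iff_mul_comm]
      exact IsMulCommutative.is_comm.comm _ _
    exact congrArg Subtype.val (mem_center_iff.1 h1 ⟨c, hc'⟩)
  have hXB : X = B := (eq_of_le_of_card_ge hBX (hB ▸ hXcard)).symm
  have hmemX : ∀ y : G, (∀ b ∈ B, π y * π b = π b * π y) → y ∈ B := by
    intro y hy
    rw [← hXB]
    intro b hb
    rw [← QuotientGroup.eq_one_iff, ← QuotientGroup.mk'_apply, map_commutatorElement,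
      commutatorElement_eq_one_iff_mul_comm]
    exact hy b hb
  set Bb := B.map π with hBb
  have hBbc : Nat.card Bb = p ^ 2 := by
    rw [hBb, ← relIndex_ker, QuotientGroup.ker_mk']
    have := (Z.subgroupOf B).index_mul_card
    rw [Nat.card_congr (subgroupOfEquivOfLe hZB).toEquiv, hZ, hB, pow_succ] at this
    exact Nat.eq_of_mul_eq_mul_right hp.pos this
  have hZQB : center (G ⧸ Z) ≤ Bb := by
    intro q hq
    obtain ⟨y, rfl⟩ := QuotientGroup.mk'_surjective Z q
    exact ⟨y, hmemX y fun b _ => (mem_center_iff.1 hq (π b)).symm, rfl⟩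
  obtain ⟨x, hxB, hxc⟩ : ∃ x ∈ B, π x ∉ center (G ⧸ Z) := by
    by_contra hh
    push Not at hh
    have hle : Bb ≤ center (G ⧸ Z) := map_le_iff_le_comap.2 hh
    have := Nat.le_of_dvd Nat.card_pos (card_dvd_of_le hle)
    rw [hBbc, hZQ, pow_two] at this
    have := hp.two_le
    nlinarith
  have hxZ : x ∉ Z := fun h => hxc (by
    rw [show π x = 1 from (QuotientGroup.eq_one_iff x).2 h]; exact one_mem _)
  refine ⟨x, hxB, hG, hcls, by omega, hexp x hxB, ?_⟩
  have hBbgen : zpowers (π x) ⊔ center (G ⧸ Z) = Bb := by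
    have hle : zpowers (π x) ⊔ center (G ⧸ Z) ≤ Bb :=
      sup_le (zpowers_le.2 ⟨x, hxB, rfl⟩) hZQB
    refine eq_of_le_of_card_ge hle ?_
    obtain ⟨e, -, he⟩ := (Nat.dvd_prime_pow hp).1 (hBbc ▸ card_dvd_of_le hle)
    have hlt : center (G ⧸ Z) < zpowers (π x) ⊔ center (G ⧸ Z) :=
      lt_of_le_of_ne le_sup_right fun e => hxc (e.ge (mem_sup_left (mem_zpowers _)))
    have h1 : Nat.card (center (G ⧸ Z)) < Nat.card (zpowers (π x) ⊔ center (G ⧸ Z) : Subgroup _) :=
      lt_of_not_ge fun hge => hlt.ne (eq_of_le_of_card_ge hlt.le hge)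
    rw [hZQ, he] at h1
    rw [hBbc, he]
    refine Nat.pow_le_pow_right hp.pos ?_
    by_contra he2
    have := Nat.pow_le_pow_right hp.pos (show e ≤ 1 by omega)
    rw [pow_one] at this
    omega
  have hCx : centralizer ({x} : Set G) ≤ B := by
    intro y hy
    refine hmemX y fun b hb => ?_
    have hle : zpowers (π x) ⊔ center (G ⧸ Z) ≤ centralizer ({π y} : Set (G ⧸ Z)) :=
      sup_le (zpowers_le.2 (mem_centralizer_singleton_iff.2 (by
        rw [← map_mul, ← map_mul, mem_centralizer_singleton_iff.1 hy]))) (center_le_centralizer _)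
    rw [hBbgen] at hle
    exact (mem_centralizer_singleton_iff.1 (hle ⟨b, hb, rfl⟩)).symm
  refine card_eq_of_lt_of_lt (k := 1) (K := Z) (B := B) (by rw [hZ, pow_one]) hB ?_ ?_
  · exact lt_of_le_of_ne (center_le_centralizer _) fun e =>
      hxZ (e.ge (mem_centralizer_singleton_iff.2 rfl))
  · refine lt_of_le_of_ne hCx fun e => hxZ (hcentB x hxB fun c hc => ?_)
    exact mem_centralizer_singleton_iff.1 (e.ge hc)

end CfsgLib.MaxClassSplit
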