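import Cfsg.Agent.Lib.PGroup.MaxClassRank

/-!
# The `p`-th power map between the layers of a `p`-group of maximal class

For `x` in the `i`-th lower central term (`1 ≤ i`), `x ^ p` lies in term `i + p - 1`, and outside
term `i + p` if `x` is outside term `i + 1` (Blackburn). Hence every subgroup is `p`-generated.
-/

namespace CfsgLib.MaxClassPower

open Subgroup CfsgLib.MaxClassRank CfsgLib.PolySeq82
open scoped commutatorElement

universe u

variable {G : Type u} [Group G]


/-- Maximal class hypotheses. -/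
structure IsMax (G : Type u) [Group G] (p n : ℕ) : Prop where
  card : Nat.card G = p ^ n
  three : 3 ≤ n
  bot : (⊤ : Subgroup G).lowerCentralSeries (n - 1) = ⊥
  ne : (⊤ : Subgroup G).lowerCentralSeries (n - 2) ≠ ⊥

theorem isMax_of_class [Finite G] {p n : ℕ} [Fact p.Prime] (hG : Nat.card G = p ^ n) (hn : 3 ≤ n)
    (hcl : Group.nilpotencyClass G = n - 1) : IsMax G p n := by
  have : Group.IsNilpotent G := (IsPGroup.of_card hG).isNilpotent
  refine ⟨hG, hn, Subgroup.lowerCentralSeries_eq_bot_iff_nilpotencyClass_le.mpr hcl.le, fun h => ?_⟩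
  have := Subgroup.lowerCentralSeries_eq_bot_iff_nilpotencyClass_le.mp h
  omega

theorem lcs_anti {i j : ℕ} (h : i ≤ j) :
    (⊤ : Subgroup G).lowerCentralSeries j ≤ (⊤ : Subgroup G).lowerCentralSeries i :=
  (⊤ : Subgroup G).lowerCentralSeries_antitone h

theorem IsMax.eq_bot {p n : ℕ} (hM : IsMax G p n) {i : ℕ} (h : n - 1 ≤ i) :
    (⊤ : Subgroup G).lowerCentralSeries i = ⊥ :=
  le_bot_iff.mp ((lcs_anti h).trans hM.bot.le)

/-- The quotient by a term of the series. -/
theorem IsMax.quotient [Finite G] {p n : ℕ} [Fact p.Prime] (hM : IsMax G p n) {k : ℕ} (h2 : 2 ≤ k)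
    (hk : k ≤ n - 1) : IsMax (G ⧸ (⊤ : Subgroup G).lowerCentralSeries k) p (k + 1) := by
  refine ⟨?_, by omega, ?_, ?_⟩
  · have h := Subgroup.card_eq_card_quotient_mul_card_subgroup ((⊤ : Subgroup G).lowerCentralSeries k)
    have h3 := hM.three
    rw [hM.card, card_lcs hM.card hM.three hM.bot hM.ne k (by omega) (by omega),
      show p ^ n = p ^ (k + 1) * p ^ (n - 1 - k) by rw [← pow_add]; congr 1; omega] at h
    exact (Nat.eq_of_mul_eq_mul_right (pow_pos (Fact.out : p.Prime).pos _) h).symm
  · rw [Nat.add_sub_cancel, ← lcs_mk', Subgroup.map_eq_bot_iff, QuotientGroup.ker_mk']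
  · intro e
    rw [← lcs_mk', Subgroup.map_eq_bot_iff, QuotientGroup.ker_mk', show k + 1 - 2 = k - 1 by omega] at e
    have h3 := hM.three
    refine not_le_succ hM.bot hM.ne (i := k - 1) (by omega) ?_
    rwa [show k - 1 + 1 = k by omega]

theorem mk_mem_iff (k : ℕ) {i : ℕ} (hik : i ≤ k) (x : G) :
    QuotientGroup.mk' ((⊤ : Subgroup G).lowerCentralSeries k) x ∈
      (⊤ : Subgroup (G ⧸ (⊤ : Subgroup G).lowerCentralSeries k)).lowerCentralSeries i ↔
      x ∈ (⊤ : Subgroup G).lowerCentralSeries i := by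
  rw [← lcs_mk', ← Subgroup.mem_comap, Subgroup.comap_map_eq, QuotientGroup.ker_mk',
    sup_eq_left.mpr (lcs_anti hik)]

/-- The lower central series of a term lies deep. -/
theorem lcs_lcs (r m : ℕ) :
    ((⊤ : Subgroup ((⊤ : Subgroup G).lowerCentralSeries r)).lowerCentralSeries m).map
      ((⊤ : Subgroup G).lowerCentralSeries r).subtype ≤ (⊤ : Subgroup G).lowerCentralSeries ((m + 1) * r + m) := by
  induction m with
  | zero => simpa using Subgroup.map_subtype_le _
  | succ m ih =>
    rw [Subgroup.lowerCentralSeries_succ, Subgroup.map_commutator]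
    refine (Subgroup.commutator_mono ih (Subgroup.map_subtype_le _)).trans
      ((CfsgLib.HallPetrescu82.lcs_commutator _ _).trans (lcs_anti ?_))
    rw [Nat.add_mul (m + 1) 1 r, one_mul]
    omega

/-- Powers are multiplicative in a term whose commutators are small. -/
theorem mul_pow_of_deep {p : ℕ} [Fact p.Prime] {r : ℕ}
    (hp : (⊤ : Subgroup G).lowerCentralSeries (p * r + (p - 1)) = ⊥)
    (hexp : ∀ y ∈ (⊤ : Subgroup G).lowerCentralSeries (2 * r + 1), y ^ p = 1) {u v : G}
    (hu : u ∈ (⊤ : Subgroup G).lowerCentralSeries r) (hv : v ∈ (⊤ : Subgroup G).lowerCentralSeries r) :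
    (u * v) ^ p = u ^ p * v ^ p := by
  set K := (⊤ : Subgroup G).lowerCentralSeries r with hK
  have hp1 := (Fact.out : p.Prime).one_le
  have hc : (⊤ : Subgroup K).lowerCentralSeries (p - 1) = ⊥ := by
    rw [← Subgroup.map_eq_bot_iff_of_injective _ K.subtype_injective, eq_bot_iff, ← hp]
    refine (lcs_lcs r (p - 1)).trans (le_of_eq ?_)
    rw [Nat.sub_add_cancel hp1]
  obtain ⟨c, hcm, hc'⟩ := CfsgLib.HallPetrescu82.mul_pow_prime_pow hc (⟨u, hu⟩ : K) ⟨v, hv⟩ 1
  have hker : ∀ x ∈ commutator ↥K, x ^ p ^ 1 = 1 := by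
    intro x hx
    have h1 : (x : G) ∈ (⊤ : Subgroup G).lowerCentralSeries (2 * r + 1) := by
      have h2 := lcs_lcs (G := G) r 1
      rw [Subgroup.top_lowerCentralSeries_one] at h2
      exact h2 ⟨x, hx, rfl⟩
    exact Subtype.ext (by rw [pow_one, Subgroup.coe_pow]; exact hexp _ h1)
  rw [CfsgLib.Regular82.powerClosure_eq_bot hker, Subgroup.mem_bot] at hcm
  rw [hcm, mul_one, pow_one] at hc'
  exact congrArg Subtype.val hc'

/-- An element of a set of the form `{x ∈ term r | x ^ p = 1}` generating the layer kills the term. -/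
theorem exponent_of_generator [Finite G] {p n : ℕ} [Fact p.Prime] (hM : IsMax G p n) {r : ℕ} (hr : 1 ≤ r)
    (hrn : r + 2 ≤ n) (hp : (⊤ : Subgroup G).lowerCentralSeries (p * r + (p - 1)) = ⊥)
    (hexp : ∀ y ∈ (⊤ : Subgroup G).lowerCentralSeries (r + 1), y ^ p = 1) {z : G}
    (hz : z ∈ (⊤ : Subgroup G).lowerCentralSeries r) (hz' : z ∉ (⊤ : Subgroup G).lowerCentralSeries (r + 1))
    (hzp : z ^ p = 1) : ∀ w ∈ (⊤ : Subgroup G).lowerCentralSeries r, w ^ p = 1 := by
  intro w hw
  obtain ⟨a, ha, b, hb, rfl⟩ := Subgroup.mem_sup_of_normal_left.mp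
    (le_sup_zpowers hM.card hM.three hM.bot hM.ne hr hrn hz hz' hw)
  obtain ⟨k, rfl⟩ := mem_zpowers_iff.mp hb
  rw [mul_pow_of_deep hp (fun y hy => hexp y (lcs_anti (by omega) hy)) (lcs_anti (Nat.le_succ r) ha)
    (zpow_mem hz k), hexp a ha, one_mul, ← zpow_natCast, ← zpow_mul, mul_comm, zpow_mul, zpow_natCast, hzp,
    one_zpow]

/-! ### The computation with polynomial sequences -/

theorem iterate_delta_mem {𝔉 : Filt G} {s : ℕ} {g : ℤ → G} (hg : g ∈ Q 𝔉 s) :
    ∀ j, delta^[j] g ∈ Q 𝔉 (s + j) := by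
  intro j
  induction j with
  | zero => exact hg
  | succ j ih => rw [Function.iterate_succ_apply']; exact mem_delta ih

theorem iterate_delta_one (j : ℕ) : delta^[j] (1 : ℤ → G) = 1 := by
  induction j with
  | zero => rfl
  | succ j ih => rw [Function.iterate_succ_apply', ih, delta_one]

/-- Top differences are multiplicative. -/
theorem iterate_delta_mul {𝔉 : Filt G} : ∀ (j T : ℕ), 1 ≤ T → 𝔉.c ≤ T + j + 1 → ∀ u v : ℤ → G,
    u ∈ Q 𝔉 T → v ∈ Q 𝔉 T → delta^[j] (u * v) = delta^[j] u * delta^[j] v := by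
  intro j
  induction j with
  | zero => intro T _ _ u v _ _; rfl
  | succ j ih =>
    intro T hT hc u v hu hv
    obtain ⟨q, hq⟩ : ∃ q, q = ⁅(delta v)⁻¹, u⁆ := ⟨_, rfl⟩
    have hqm : q ∈ Q 𝔉 (T + 2) :=
      hq ▸ Q_anti (show T + 2 ≤ T + 1 + T by omega) (commutator_mem (inv_mem (mem_delta hv)) hu)
    have e : delta (u * v) = delta u * delta v * q := by
      rw [hq, delta_mul, commutatorElement_def]; group
    rw [Function.iterate_succ_apply, e, ih (T + 1) (by omega) (by omega) _ _
      (mul_mem (mem_delta hu) (mem_delta hv)) (Q_anti (Nat.le_succ (T + 1)) hqm),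
      ih (T + 1) (by omega) (by omega) _ _ (mem_delta hu) (mem_delta hv)]
    have hz : delta^[j] q = 1 := by
      have h := iterate_delta_mem hqm j
      rwa [Q_of_le (show 𝔉.c ≤ T + 2 + j by omega), Subgroup.mem_bot] at h
    rw [hz, mul_one, Function.iterate_succ_apply, Function.iterate_succ_apply]

/-- A sequence vanishing below `m` takes the value of its `m`-th difference. -/
theorem iterate_delta_zero : ∀ (m : ℕ) (f : ℤ → G), (∀ k : ℕ, k < m → f k = 1) →
    delta^[m] f 0 = f m := by
  intro m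
  induction m with
  | zero => intro f _; rfl
  | succ m ih =>
    intro f h
    rw [Function.iterate_succ_apply, ih (delta f) fun k hk => ?_]
    · rw [delta, h m (by omega), inv_one, mul_one]; push_cast; rfl
    · rw [delta, h k (by omega), show ((k : ℤ) + 1) = ((k + 1 : ℕ) : ℤ) by push_cast; rfl, h (k + 1) (by omega)]
      simp

theorem iterate_delta_binom (a : G) : ∀ m j, m < j → delta^[j] (binom a m) = 1 := by
  intro m
  induction m with
  | zero =>
    intro j hj
    obtain ⟨j, rfl⟩ : ∃ j', j = j' + 1 := ⟨j - 1, by omega⟩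
    rw [Function.iterate_succ_apply, show delta (binom a 0) = 1 by funext k; simp [delta, binom],
      iterate_delta_one]
  | succ m ih =>
    intro j hj
    obtain ⟨j, rfl⟩ : ∃ j', j = j' + 1 := ⟨j - 1, by omega⟩
    rw [Function.iterate_succ_apply, delta_binom, ih j (by omega)]

/-- `[c, s⁻¹, …, s⁻¹]`, with commutators written on the left. -/
def twist (s : G) : ℕ → G → G
  | 0, c => c
  | l + 1, c => ⁅s⁻¹, twist s l c⁆

/-- The conjugates `n ↦ s^(-n) c s^n`. -/
def conjSeq (s c : G) : ℤ → G := fun k => (s ^ k)⁻¹ * c * s ^ k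

theorem delta_conjSeq (s c : G) : delta (conjSeq s c) = conjSeq s ⁅s⁻¹, c⁆ := by
  funext k
  rw [delta, conjSeq, conjSeq, conjSeq, commutatorElement_def, zpow_add_one]
  group

theorem iterate_delta_conjSeq (s c : G) : ∀ j, delta^[j] (conjSeq s c) = conjSeq s (twist s j c) := by
  intro j
  induction j with
  | zero => rfl
  | succ j ih => rw [Function.iterate_succ_apply', ih, delta_conjSeq, twist]

/-- The value of `s^(-n) (s c)^n` at `n = p`. -/
theorem twisted_pow [Finite G] {p n : ℕ} [Fact p.Prime] (hM : IsMax G p n) (hnp : n ≤ p + 2) {s c : G} {t : ℕ}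
    (ht : 1 ≤ t) (hc : c ∈ (⊤ : Subgroup G).lowerCentralSeries t)
    (hexp : ∀ y ∈ (⊤ : Subgroup G).lowerCentralSeries (t + 1), y ^ p = 1) :
    (s ^ p)⁻¹ * (s * c) ^ p = c ^ p * twist s (p - 1) c := by
  have hp := (Fact.out : p.Prime)
  obtain ⟨𝔉, h𝔉⟩ : ∃ 𝔉 : Filt G, 𝔉 = CfsgLib.HallPetrescu82.lcsFilt G n hM.bot := ⟨_, rfl⟩
  have hF : ∀ w, 𝔉.F w = (⊤ : Subgroup G).lowerCentralSeries (w - 1) := fun w => by rw [h𝔉]; rfl
  have hcF : c ∈ 𝔉.F (t + 1) := by rw [hF]; simpa using hc
  have hmem0 : ∀ x : G, x ∈ 𝔉.F (0 + 1) := fun x => by rw [hF]; exact mem_top x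
  have hcc : 𝔉.c ≤ p + 2 := by rw [h𝔉]; exact hnp
  obtain ⟨g, hg⟩ : ∃ g : ℤ → G, g = (binom s 1)⁻¹ * binom (s * c) 1 := ⟨_, rfl⟩
  have hgk : ∀ k : ℤ, g k = (s ^ k)⁻¹ * (s * c) ^ k := fun k => by
    simp [hg, binom, Ring.choose_one_right]
  have hg0 : g ∈ Q 𝔉 0 := hg ▸ mul_mem (inv_mem (binom_mem 1 0 s (hmem0 s))) (binom_mem 1 0 _ (hmem0 _))
  have hΔ : delta g = conjSeq s c := by
    funext k
    rw [delta, hgk, hgk, conjSeq, zpow_add_one, zpow_add_one, (Commute.self_zpow (s * c) k).symm.eq]
    group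
  have hh : conjSeq s c ∈ Q 𝔉 (t + 1) := by
    have h := conj_mem (Nat.zero_le (t + 1)) (inv_mem (binom_mem 1 0 s (hmem0 s)))
      (binom_mem 0 (t + 1) c hcF)
    have e : conjSeq s c = (binom s 1)⁻¹ * binom c 0 * ((binom s 1)⁻¹)⁻¹ := by
      funext k; simp [conjSeq, binom, Ring.choose_one_right]
    rw [e]; exact h
  have hgt : g ∈ Q 𝔉 t := by
    rcases Nat.lt_or_ge t 𝔉.c with htc | htc
    · refine (mem_Q_iff htc).mpr ⟨fun k => ?_, mem_Nm fun u _ => Q_le_normalizer (Nat.zero_le u) hg0, hΔ ▸ hh⟩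
      rw [hF, hgk]
      refine lcs_anti (Nat.sub_le t 1) ?_
      rw [← QuotientGroup.eq_one_iff, QuotientGroup.mk_mul, QuotientGroup.mk_inv, QuotientGroup.mk_zpow,
        QuotientGroup.mk_zpow, QuotientGroup.mk_mul, (QuotientGroup.eq_one_iff c).mpr hc, mul_one,
        inv_mul_cancel]
    · have hc1 : c = 1 := by
        have := 𝔉.bot (t + 1) (by omega)
        rw [this, Subgroup.mem_bot] at hcF; exact hcF
      have : g = 1 := by funext k; rw [hgk, hc1, mul_one, inv_mul_cancel]; rfl
      rw [this]; exact one_mem _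
  have hD : ∀ u v : ℤ → G, u ∈ Q 𝔉 t → v ∈ Q 𝔉 t → delta^[p] (u * v) = delta^[p] u * delta^[p] v :=
    fun u v => iterate_delta_mul p t ht (by omega) u v
  have hstrip : ∀ (a : G) (m : ℕ) (f : ℤ → G), m < p → a ∈ 𝔉.F (t + m) → f ∈ Q 𝔉 t →
      delta^[p] ((binom a m)⁻¹ * f) = delta^[p] f := by
    intro a m f hm ha hf
    have hb := binom_mem (𝔉 := 𝔉) m t a ha
    have h1 := hD (binom a m) ((binom a m)⁻¹ * f) hb (mul_mem (inv_mem hb) hf)
    rw [mul_inv_cancel_left, iterate_delta_binom a m p hm, one_mul] at h1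
    exact h1.symm
  have key : ∀ m, 2 ≤ m → m ≤ p → ∃ f ∈ Q 𝔉 t, (∀ k : ℕ, k < m → f k = 1) ∧
      delta^[p] f = delta^[p] g ∧ f p = (c ^ p)⁻¹ * g p := by
    intro m h2 hm
    induction m, h2 using Nat.le_induction with
    | base =>
      refine ⟨(binom c 1)⁻¹ * g, mul_mem (inv_mem (binom_mem 1 t c hcF)) hgt, fun k hk => ?_,
        hstrip c 1 g hp.one_lt hcF hgt, ?_⟩
      · simp only [Pi.mul_apply, Pi.inv_apply, binom_natCast, hgk, zpow_natCast]
        interval_cases k <;> simp
      · simp [Pi.mul_apply, binom_natCast]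
    | succ m h2 ih =>
      obtain ⟨f, hf, hf0, hfd, hfp⟩ := ih (by omega)
      have ha := value_mem m t f hf hf0
      have hap : f m ^ p = 1 := hexp _ (by rw [hF] at ha; exact lcs_anti (by omega) ha)
      refine ⟨(binom (f m) m)⁻¹ * f, mul_mem (inv_mem (binom_mem m t _ ha)) hf, fun k hk => ?_,
        (hstrip _ m f (by omega) ha hf).trans hfd, ?_⟩
      · simp only [Pi.mul_apply, Pi.inv_apply, binom_natCast]
        rcases Nat.lt_or_ge k m with h | h
        · rw [hf0 k h, Nat.choose_eq_zero_of_lt h]; simp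
        · obtain rfl : k = m := by omega
          simp
      · obtain ⟨q, hq⟩ := hp.dvd_choose_self (show m ≠ 0 by omega) (show m < p by omega)
        simp only [Pi.mul_apply, Pi.inv_apply, binom_natCast]
        rw [hq, pow_mul, hap, one_pow, inv_one, one_mul, hfp]
  obtain ⟨f, _, hf0, hfd, hfp⟩ := key p hp.two_le le_rfl
  have h1 := iterate_delta_zero p f hf0
  rw [hfd] at h1
  have h3 : delta^[p] g = conjSeq s (twist s (p - 1) c) := by
    conv_lhs => rw [show p = p - 1 + 1 from (Nat.sub_add_cancel hp.one_le).symm]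
    rw [Function.iterate_succ_apply, hΔ, iterate_delta_conjSeq]
  rw [h3, hfp, hgk, conjSeq, zpow_zero, inv_one, one_mul, mul_one, zpow_natCast, zpow_natCast] at h1
  rw [h1, mul_inv_cancel_left]

/-! ### A uniform element -/

/-- In a group of order at most `p^(p+3)` a uniform element exists; its cosets inside the derived
subgroup consist of conjugates, and its `p`-th power is central. -/
theorem exists_uniform [Finite G] {p n : ℕ} [Fact p.Prime] (hM : IsMax G p n) (hnp : n ≤ p + 2) :
    ∃ s : G, (∀ i, 1 ≤ i → i + 3 ≤ n → s ∉ twoStep G i) ∧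
      ∀ c ∈ (⊤ : Subgroup G).lowerCentralSeries 1, (s ^ p)⁻¹ * (s * c) ^ p = 1 := by
  classical
  have hp := (Fact.out : p.Prime)
  have hn := hM.three
  obtain ⟨hab, hpow⟩ := abelianization_props hM.card hn hM.bot hM.ne
  set N := (⊤ : Subgroup G).lowerCentralSeries 1 with hN
  have hNtop : N ≠ ⊤ := fun e => by
    have h1 := card_lcs hM.card hn hM.bot hM.ne 1 le_rfl (by omega)
    rw [← hN, e, card_top, hM.card] at h1
    have := Nat.pow_right_injective hp.two_le h1
    omega
  let C : ℕ → Subgroup G := fun i => if i = 0 then N else twoStep G i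
  obtain ⟨s, hs⟩ := exists_not_mem N hab (Finset.range (n - 2)) (by simpa using by omega) C (by
    intro i hi
    rw [Finset.mem_range] at hi
    by_cases h : i = 0
    · simp only [C, if_pos h]; exact ⟨le_rfl, hNtop⟩
    · simp only [C, if_neg h]; exact ⟨lcs_one_le_twoStep i, twoStep_ne_top hM.bot hM.ne (by omega)⟩)
  have hsN : s ∉ N := by simpa [C] using hs 0 (Finset.mem_range.mpr (by omega))
  have hs' : ∀ i, 1 ≤ i → i + 3 ≤ n → s ∉ twoStep G i := fun i h1 h2 => by
    have := hs i (Finset.mem_range.mpr (by omega))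
    simpa [C, show i ≠ 0 by omega] using this
  refine ⟨s, hs', ?_⟩
  have hZ : ∀ z ∈ (⊤ : Subgroup G).lowerCentralSeries (n - 2), ∀ b : G, Commute z b := by
    intro z hz b
    have h1 : ⁅z, b⁆ ∈ (⊤ : Subgroup G).lowerCentralSeries (n - 2 + 1) := by
      rw [Subgroup.lowerCentralSeries_succ]; exact commutator_mem_commutator hz (mem_top b)
    rw [hM.eq_bot (by omega), Subgroup.mem_bot] at h1
    exact commutatorElement_eq_one_iff_commute.mp h1
  have hsp : ∀ b : G, Commute (s ^ p) b := by
    refine hZ _ ?_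
    have h := pow_mem_of_not_mem_twoStep hM.card hn hM.bot hM.ne (s := s) (a := 1) (m := n - 2) le_rfl
      (by omega) (hpow s) (fun i h1 h2 => hs' i h1 (by omega))
    rwa [max_eq_right (by omega)] at h
  -- the centralizer of `s`
  set D := centralizer ({s} : Set G) with hD
  have hmemD : ∀ {b : G}, b ∈ D ↔ b * s = s * b := Subgroup.mem_centralizer_singleton_iff
  have hDN : D ⊓ N ≤ (⊤ : Subgroup G).lowerCentralSeries (n - 2) := by
    rintro c ⟨hcD, hcN⟩
    have : ∀ i, i ≤ n - 2 → 1 ≤ i → c ∈ (⊤ : Subgroup G).lowerCentralSeries i := by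
      intro i
      induction i with
      | zero => omega
      | succ i ih =>
        intro h1 _
        rcases Nat.eq_zero_or_pos i with rfl | hi
        · exact hcN
        by_contra h2
        refine commutator_not_mem hM.card hn hM.bot hM.ne hi (by omega) (hs' i hi (by omega))
          (ih (by omega) hi) h2 ?_
        rw [commutatorElement_eq_one_iff_mul_comm.mpr (hmemD.mp hcD)]
        exact one_mem _
    exact this (n - 2) le_rfl (by omega)
  have hcard : Nat.card D ≤ p ^ 2 := by
    set f := (QuotientGroup.mk' N).comp D.subtype with hf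
    have hrange : Nat.card f.range ≤ p := by
      obtain ⟨j, hj, hj'⟩ := (Nat.dvd_prime_pow hp).mp (hab ▸ Subgroup.card_subgroup_dvd_card f.range)
      rcases Nat.lt_or_ge j 2 with h | h
      · rw [hj']; exact (Nat.pow_le_pow_right hp.pos (show j ≤ 1 by omega)).trans (pow_one p).le
      exfalso
      have hjtwo : j = 2 := le_antisymm hj h
      have htop : f.range = ⊤ := Subgroup.eq_top_of_card_eq _ (by rw [hj', hjtwo, hab])
      have hsup : D ⊔ N = ⊤ := by
        have e : f.range = D.map (QuotientGroup.mk' N) := by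
          rw [hf, MonoidHom.range_comp, Subgroup.range_subtype]
        have h2 := congrArg (Subgroup.comap (QuotientGroup.mk' N)) (e ▸ htop)
        rwa [Subgroup.comap_map_eq, comap_top, QuotientGroup.ker_mk'] at h2
      have : Group.IsNilpotent G := (IsPGroup.of_card hM.card).isNilpotent
      have hDtop : D = ⊤ := frattini_nongenerating (top_le_iff.mp (hsup ▸ sup_le_sup_left (by
        rw [hN, Subgroup.top_lowerCentralSeries_one]
        exact CfsgLib.PGroup.commutator_le_frattini (IsPGroup.of_card hM.card)) D))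
      rcases Nat.lt_or_ge n 4 with h4 | h4
      · -- order `p ^ 3`
        refine hM.ne ?_
        rw [show n - 2 = 0 + 1 by omega, Subgroup.lowerCentralSeries_succ, Subgroup.lowerCentralSeries_zero,
          Subgroup.commutator_eq_bot_iff_le_centralizer]
        have hle : zpowers s ⊔ N ≤ center G := by
          refine sup_le (zpowers_le.mpr (mem_center_iff.mpr fun b => hmemD.mp (hDtop ▸ mem_top b))) fun z hz => ?_
          exact mem_center_iff.mpr fun b => (hZ z (by rwa [show n - 2 = 1 by omega]) b).symm.eq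
        have hZc : center G = ⊤ := by
          by_contra hne
          have hi : (center G).index ≤ p := by
            have hlt : N < zpowers s ⊔ N :=
              lt_of_le_not_ge le_sup_right fun e => hsN (e (mem_sup_left (mem_zpowers s)))
            have a1 := CfsgLib.Fusion.MaxClass.mul_card_le_of_lt (IsPGroup.of_card hM.card) hlt
            have a2 := Subgroup.card_le_of_le hle
            have a3 := (center G).card_mul_index
            have a4 := card_lcs hM.card hn hM.bot hM.ne 1 le_rfl (by omega)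
            rw [← hN] at a4
            rw [a4] at a1
            rw [hM.card] at a3
            refine Nat.le_of_mul_le_mul_left (c := p ^ (n - 1)) ?_ (pow_pos hp.pos _)
            calc p ^ (n - 1) * (center G).index ≤ Nat.card (center G) * (center G).index := by
                  refine Nat.mul_le_mul_right _ (le_trans (le_of_eq ?_) (a1.trans a2))
                  rw [← pow_succ']; congr 1; omega
              _ = p ^ (n - 1) * p := by rw [a3, ← pow_succ]; congr 1; omega
          obtain ⟨k, hk⟩ := (IsPGroup.of_card hM.card).index (center G)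
          have hk1 : k ≤ 1 := (Nat.pow_le_pow_iff_right hp.one_lt).mp (by rw [← hk, pow_one]; exact hi)
          have : IsCyclic (G ⧸ center G) := by
            rcases Nat.eq_zero_or_pos k with rfl | hk0
            · exact absurd (index_eq_one.mp (by rw [hk, pow_zero])) hne
            · refine isCyclic_of_prime_card (p := p) ?_
              rw [← Subgroup.index_eq_card, hk, show k = 1 by omega, pow_one]
          have hcomm := (QuotientGroup.mk' (center G)).isMulCommutative_of_isCyclic_of_ker_le_center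
            (QuotientGroup.ker_mk' (center G)).le
          exact hne (eq_top_iff.mpr fun z _ => mem_center_iff.mpr fun b => hcomm.is_comm.comm b z)
        intro z _
        exact Subgroup.mem_centralizer_iff.mpr fun b _ =>
          mem_center_iff.mp (hZc ▸ mem_top z) b
      · refine hs' 1 le_rfl (by omega) (mem_twoStep_iff.mpr fun y _ => ?_)
        rw [commutatorElement_eq_one_iff_mul_comm.mpr (hmemD.mp (hDtop ▸ mem_top y))]
        exact one_mem _
    have hker : Nat.card f.ker ≤ p := by
      have e : f.ker.map D.subtype ≤ (⊤ : Subgroup G).lowerCentralSeries (n - 2) := by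
        rintro _ ⟨x, hx, rfl⟩
        exact hDN ⟨x.2, (QuotientGroup.eq_one_iff _).mp hx⟩
      have h1 := Subgroup.card_le_of_le e
      rw [Subgroup.card_map_of_injective D.subtype_injective,
        card_lcs hM.card hn hM.bot hM.ne (n - 2) (by omega) (by omega)] at h1
      exact h1.trans (le_of_eq (by rw [show n - 1 - (n - 2) = 1 by omega, pow_one]))
    rw [Subgroup.card_eq_card_quotient_mul_card_subgroup f.ker,
      Nat.card_congr (QuotientGroup.quotientKerEquivRange f).toEquiv, sq]
    exact Nat.mul_le_mul hrange hker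
  -- every element of `N` is `s⁻¹ b s b⁻¹`
  let φ : G ⧸ D → N := Quotient.lift (fun b => (⟨s⁻¹ * b * s * b⁻¹, by
      rw [hN, Subgroup.top_lowerCentralSeries_one]
      have h : s⁻¹ * b * s * b⁻¹ = ⁅s⁻¹, b⁆ := by rw [commutatorElement_def, inv_inv]
      rw [h]
      exact commutator_mem_commutator (mem_top _) (mem_top _)⟩ : N)) (by
    intro a b hab
    have h := hmemD.mp (QuotientGroup.leftRel_apply.mp hab)
    refine Subtype.ext ?_
    show s⁻¹ * a * s * a⁻¹ = s⁻¹ * b * s * b⁻¹
    calc s⁻¹ * a * s * a⁻¹ = s⁻¹ * a * (s * (a⁻¹ * b)) * b⁻¹ := by group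
      _ = s⁻¹ * a * ((a⁻¹ * b) * s) * b⁻¹ := by rw [h]
      _ = _ := by group)
  have hφinj : Function.Injective φ := by
    rintro ⟨a⟩ ⟨b⟩ h
    have h1 : s⁻¹ * a * s * a⁻¹ = s⁻¹ * b * s * b⁻¹ := congrArg Subtype.val h
    refine Quotient.sound (QuotientGroup.leftRel_apply.mpr (hmemD.mpr ?_))
    calc a⁻¹ * b * s = a⁻¹ * s * (s⁻¹ * b * s * b⁻¹) * b := by group
      _ = a⁻¹ * s * (s⁻¹ * a * s * a⁻¹) * b := by rw [h1]
      _ = s * (a⁻¹ * b) := by group
  have hNle : Nat.card N ≤ Nat.card (G ⧸ D) := by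
    refine Nat.le_of_mul_le_mul_right ?_ (Nat.card_pos : 0 < Nat.card D)
    rw [← Subgroup.card_eq_card_quotient_mul_card_subgroup D, hM.card]
    refine (Nat.mul_le_mul_left _ hcard).trans (le_of_eq ?_)
    rw [hN, card_lcs hM.card hn hM.bot hM.ne 1 le_rfl (by omega), ← pow_add]
    congr 1; omega
  have hsurj : Function.Surjective φ := ((Nat.bijective_iff_injective_and_card φ).mpr
    ⟨hφinj, le_antisymm (Nat.card_le_card_of_injective φ hφinj) hNle⟩).2
  intro c hc
  obtain ⟨⟨b⟩, hb⟩ := hsurj ⟨c, hc⟩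
  have hb' : s⁻¹ * b * s * b⁻¹ = c := congrArg Subtype.val hb
  rw [show s * c = b * s * b⁻¹ by rw [← hb']; group, conj_pow, (hsp b).symm.eq, mul_inv_cancel_right,
    inv_mul_cancel]

theorem twist_mem (s : G) {c : G} {t : ℕ} (hc : c ∈ (⊤ : Subgroup G).lowerCentralSeries t) :
    ∀ l, twist s l c ∈ (⊤ : Subgroup G).lowerCentralSeries (t + l) := by
  intro l
  induction l with
  | zero => exact hc
  | succ l ih =>
    rw [twist, ← inv_mem_iff, commutatorElement_inv, ← Nat.add_assoc, Subgroup.lowerCentralSeries_succ]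
    exact commutator_mem_commutator ih (mem_top _)

/-! ### The power map -/

/-- `x ^ p` lies at least `p - 1` steps below `x`. -/
theorem pow_layer {p : ℕ} [Fact p.Prime] : ∀ t, 1 ≤ t → ∀ (G : Type u) [Group G] [Finite G] (n : ℕ),
    IsMax G p n → ∀ x ∈ (⊤ : Subgroup G).lowerCentralSeries t,
      x ^ p ∈ (⊤ : Subgroup G).lowerCentralSeries (t + p - 1) := by
  have hp := (Fact.out : p.Prime)
  -- reduce to the case where the target is trivial
  have reduce : ∀ (t : ℕ), 1 ≤ t → (∀ (G : Type u) [Group G] [Finite G] (n : ℕ), IsMax G p n → n ≤ t + p →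
      ∀ x ∈ (⊤ : Subgroup G).lowerCentralSeries t, x ^ p = 1) → ∀ (G : Type u) [Group G] [Finite G] (n : ℕ),
      IsMax G p n → ∀ x ∈ (⊤ : Subgroup G).lowerCentralSeries t,
        x ^ p ∈ (⊤ : Subgroup G).lowerCentralSeries (t + p - 1) := by
    intro t ht h G _ _ n hM x hx
    rcases Nat.lt_or_ge (n - 1) (t + p - 1) with hlt | hge
    · rw [h G n hM (by omega) x hx]; exact one_mem _
    have hp2 := hp.two_le
    have hq := h _ _ (hM.quotient (k := t + p - 1) (by omega) hge) (by omega) _
      ((mk_mem_iff (t + p - 1) (by omega) x).mpr hx)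
    rw [← map_pow] at hq
    exact (QuotientGroup.eq_one_iff _).mp hq
  intro t ht
  induction t, ht using Nat.le_induction with
  | base =>
    refine reduce 1 le_rfl fun G _ _ n hM hn => ?_
    obtain ⟨s, -, hs⟩ := exists_uniform hM (by omega)
    have : ∀ d r, n - r ≤ d → 1 ≤ r → ∀ c ∈ (⊤ : Subgroup G).lowerCentralSeries r, c ^ p = 1 := by
      intro d
      induction d with
      | zero =>
        intro r hr _ c hc
        rw [hM.eq_bot (by omega), Subgroup.mem_bot] at hc
        rw [hc, one_pow]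
      | succ d ih =>
        intro r hr hr1 c hc
        have h1 := twisted_pow hM (by omega) (s := s) hr1 hc fun y hy => ih (r + 1) (by omega) (by omega) y hy
        have h2 := twist_mem s hc (p - 1)
        have hp2 := hp.two_le
        rw [hM.eq_bot (show n - 1 ≤ r + (p - 1) by omega), Subgroup.mem_bot] at h2
        rw [hs c (lcs_anti hr1 hc), h2, mul_one] at h1
        exact h1.symm
    exact this n 1 (by omega) le_rfl
  | succ t ht IH =>
    refine reduce (t + 1) (by omega) fun G _ _ n hM hn => ?_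
    have hn3 := hM.three
    obtain ⟨hab, -⟩ := abelianization_props hM.card hn3 hM.bot hM.ne
    have : ∀ d r, n - r ≤ d → t + 1 ≤ r → ∀ c ∈ (⊤ : Subgroup G).lowerCentralSeries r, c ^ p = 1 := by
      intro d
      induction d with
      | zero =>
        intro r hr _ c hc
        rw [hM.eq_bot (by omega), Subgroup.mem_bot] at hc
        rw [hc, one_pow]
      | succ d ih =>
        intro r hr hr1
        rcases Nat.lt_or_ge n (r + 2) with hlt | hge
        · intro c hc
          rw [hM.eq_bot (by omega), Subgroup.mem_bot] at hc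
          rw [hc, one_pow]
        have hexp : ∀ y ∈ (⊤ : Subgroup G).lowerCentralSeries (r + 1), y ^ p = 1 :=
          fun y hy => ih (r + 1) (by omega) (by omega) y hy
        obtain ⟨s, hs⟩ := exists_not_mem ((⊤ : Subgroup G).lowerCentralSeries 1) hab {r - 1}
          (by rw [Finset.card_singleton]; exact hp.one_le) (twoStep G) (fun i hi => by
            rw [Finset.mem_singleton] at hi
            exact ⟨lcs_one_le_twoStep i, twoStep_ne_top hM.bot hM.ne (by omega)⟩)
        have hs' := hs (r - 1) (Finset.mem_singleton_self _)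
        obtain ⟨x, hx, hx'⟩ := Set.not_subset.mp (not_le_succ hM.bot hM.ne (i := r - 1) (by omega))
        rw [show r - 1 + 1 = r by omega] at hx'
        have hz : ⁅x, s⁆ ∈ (⊤ : Subgroup G).lowerCentralSeries r := by
          have e : ⁅(⊤ : Subgroup G).lowerCentralSeries (r - 1), (⊤ : Subgroup G)⁆ =
              (⊤ : Subgroup G).lowerCentralSeries r := by
            rw [← Subgroup.lowerCentralSeries_succ, show r - 1 + 1 = r by omega]
          exact e ▸ commutator_mem_commutator hx (mem_top s)
        have hz' : ⁅x, s⁆ ∉ (⊤ : Subgroup G).lowerCentralSeries (r + 1) := by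
          have := commutator_not_mem hM.card hn3 hM.bot hM.ne (i := r - 1) (by omega) (by omega) hs' hx
            (by rwa [show r - 1 + 1 = r by omega])
          rwa [show r - 1 + 2 = r + 1 by omega] at this
        have hxp : x ^ p * s = s * x ^ p := by
          have h1 := IH G n hM x (lcs_anti (by omega) hx)
          have h2 : ⁅x ^ p, s⁆ ∈ (⊤ : Subgroup G).lowerCentralSeries (t + p - 1 + 1) := by
            rw [Subgroup.lowerCentralSeries_succ]; exact commutator_mem_commutator h1 (mem_top s)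
          rw [hM.eq_bot (by omega), Subgroup.mem_bot] at h2
          exact commutatorElement_eq_one_iff_mul_comm.mp h2
        have hp2 := hp.two_le
        have hmul : 2 * (r - 1) ≤ p * (r - 1) := Nat.mul_le_mul_right _ hp2
        have hzp : ⁅x, s⁆ ^ p = 1 := by
          have hy : s * x * s⁻¹ ∈ (⊤ : Subgroup G).lowerCentralSeries (r - 1) :=
            (inferInstance : ((⊤ : Subgroup G).lowerCentralSeries (r - 1)).Normal).conj_mem x hx s
          have h1 := mul_pow_of_deep (p := p) (r := r - 1)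
            (hM.eq_bot (by omega))
            (fun y hy => ih (2 * (r - 1) + 1) (by omega) (by omega) y hy) (lcs_anti (by omega) hz) hy
          rw [show ⁅x, s⁆ * (s * x * s⁻¹) = x by rw [commutatorElement_def]; group, conj_pow, ← hxp,
            mul_inv_cancel_right, right_eq_mul] at h1
          exact h1
        refine exponent_of_generator hM (by omega) (by omega) (hM.eq_bot ?_) hexp hz hz' hzp
        have : 2 * r ≤ p * r := Nat.mul_le_mul_right _ hp2
        omega
    exact this n (t + 1) (by omega) le_rfl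

/-- For odd `p` the power map sends a layer exactly `p - 1` steps down. -/
theorem pow_not_mem {p : ℕ} [Fact p.Prime] (hp3 : 3 ≤ p) : ∀ t, 1 ≤ t → ∀ (G : Type u) [Group G] [Finite G]
    (n : ℕ), IsMax G p n → t + p + 1 ≤ n → ∀ x ∈ (⊤ : Subgroup G).lowerCentralSeries t,
      x ∉ (⊤ : Subgroup G).lowerCentralSeries (t + 1) → x ^ p ∉ (⊤ : Subgroup G).lowerCentralSeries (t + p) := by
  have hp := (Fact.out : p.Prime)
  have reduce : ∀ (t : ℕ), 1 ≤ t → (∀ (G : Type u) [Group G] [Finite G] (n : ℕ), IsMax G p n → n = t + p + 1 →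
      ∀ x ∈ (⊤ : Subgroup G).lowerCentralSeries t, x ∉ (⊤ : Subgroup G).lowerCentralSeries (t + 1) → x ^ p ≠ 1) →
      ∀ (G : Type u) [Group G] [Finite G] (n : ℕ), IsMax G p n → t + p + 1 ≤ n →
      ∀ x ∈ (⊤ : Subgroup G).lowerCentralSeries t, x ∉ (⊤ : Subgroup G).lowerCentralSeries (t + 1) →
        x ^ p ∉ (⊤ : Subgroup G).lowerCentralSeries (t + p) := by
    intro t ht h G _ _ n hM hn x hx hx' hmem
    refine h _ _ (hM.quotient (k := t + p) (by omega) (by omega)) rfl _ ((mk_mem_iff (t + p) (by omega) x).mpr hx)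
      (fun h' => hx' ((mk_mem_iff (t + p) (by omega) x).mp h')) ?_
    rw [← map_pow]
    exact (QuotientGroup.eq_one_iff _).mpr hmem
  intro t ht
  induction t, ht using Nat.le_induction with
  | base =>
    refine reduce 1 le_rfl fun G _ _ n hM hn c hc hc' hcp => ?_
    obtain ⟨s, hs1, hs⟩ := exists_uniform hM (by omega)
    have hexp : ∀ y ∈ (⊤ : Subgroup G).lowerCentralSeries (1 + 1), y ^ p = 1 := fun y hy => by
      have := pow_layer 2 (by omega) G n hM y hy
      rwa [hM.eq_bot (by omega), Subgroup.mem_bot] at this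
    have h1 := twisted_pow hM (by omega) (s := s) le_rfl hc hexp
    rw [hs c hc, hcp, one_mul] at h1
    have : ∀ l, l ≤ p - 1 → twist s l c ∉ (⊤ : Subgroup G).lowerCentralSeries (l + 2) := by
      intro l
      induction l with
      | zero => intro _; exact hc'
      | succ l ih =>
        intro hl
        rw [twist, ← inv_mem_iff, commutatorElement_inv]
        have h2 := commutator_not_mem hM.card hM.three hM.bot hM.ne (i := 1 + l) (by omega) (by omega)
          (s := s⁻¹) (fun h => hs1 (1 + l) (by omega) (by omega) (inv_mem_iff.mp h))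
          (twist_mem s hc l) (by rw [show 1 + l + 1 = l + 2 by omega]; exact ih (by omega))
        rwa [show 1 + l + 2 = l + 1 + 2 by omega] at h2
    exact this (p - 1) le_rfl (h1 ▸ one_mem _)
  | succ t ht IH =>
    refine reduce (t + 1) (by omega) fun G _ _ n hM hn w hw hw' hwp => ?_
    have hn3 := hM.three
    obtain ⟨hab, -⟩ := abelianization_props hM.card hn3 hM.bot hM.ne
    have hexp : ∀ y ∈ (⊤ : Subgroup G).lowerCentralSeries (t + 1 + 1), y ^ p = 1 := fun y hy => by
      have := pow_layer (t + 2) (by omega) G n hM y hy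
      rwa [hM.eq_bot (by omega), Subgroup.mem_bot] at this
    have hmul : 3 * (t + 1) ≤ p * (t + 1) := Nat.mul_le_mul_right _ hp3
    have hmul' : 3 * t ≤ p * t := Nat.mul_le_mul_right _ hp3
    have hall := exponent_of_generator hM (by omega) (by omega) (hM.eq_bot (by omega)) hexp hw hw' hwp
    obtain ⟨s, hs⟩ := exists_not_mem ((⊤ : Subgroup G).lowerCentralSeries 1) hab {t + p - 1}
      (by rw [Finset.card_singleton]; exact hp.one_le) (twoStep G) (fun i hi => by
        rw [Finset.mem_singleton] at hi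
        exact ⟨lcs_one_le_twoStep i, twoStep_ne_top hM.bot hM.ne (by omega)⟩)
    have hs' := hs (t + p - 1) (Finset.mem_singleton_self _)
    obtain ⟨x, hx, hx'⟩ := Set.not_subset.mp (not_le_succ hM.bot hM.ne (i := t) (by omega))
    have h1 := pow_layer t ht G n hM x hx
    have h2 := IH G n hM (by omega) x hx hx'
    have h3 := commutator_not_mem hM.card hn3 hM.bot hM.ne (i := t + p - 1) (by omega) (by omega) hs' h1
      (by rwa [show t + p - 1 + 1 = t + p by omega])
    refine h3 ?_
    have hz : ⁅x, s⁆ ∈ (⊤ : Subgroup G).lowerCentralSeries (t + 1) := by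
      rw [Subgroup.lowerCentralSeries_succ]; exact commutator_mem_commutator hx (mem_top s)
    have hy : s * x * s⁻¹ ∈ (⊤ : Subgroup G).lowerCentralSeries t :=
      (inferInstance : ((⊤ : Subgroup G).lowerCentralSeries t).Normal).conj_mem x hx s
    have h4 := mul_pow_of_deep (p := p) (r := t) (hM.eq_bot (by omega))
      (fun y hy => hexp y (lcs_anti (by omega) hy)) (lcs_anti (Nat.le_succ t) hz) hy
    rw [show ⁅x, s⁆ * (s * x * s⁻¹) = x by rw [commutatorElement_def]; group, hall _ hz, one_mul, conj_pow] at h4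
    rw [show ⁅x ^ p, s⁆ = x ^ p * (s * x ^ p * s⁻¹)⁻¹ by rw [commutatorElement_def]; group, ← h4, mul_inv_cancel]
    exact one_mem _

/-! ### Generators of subgroups -/

/-- Every subgroup of a `p`-group of maximal class, `p` odd, is generated by `p` elements. -/
theorem exists_generators [Finite G] {p n : ℕ} [Fact p.Prime] (hp3 : 3 ≤ p) (hM : IsMax G p n)
    (H : Subgroup G) : ∃ T : Finset G, T.card ≤ p ∧ Subgroup.closure (T : Set G) = H := by
  classical
  have hp := (Fact.out : p.Prime)
  have hn3 := hM.three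
  obtain ⟨hab, hpow⟩ := abelianization_props hM.card hn3 hM.bot hM.ne
  set N := (⊤ : Subgroup G).lowerCentralSeries 1 with hN
  let Jump : ℕ → Prop := fun i => 1 ≤ i ∧ ∃ x ∈ H, x ∈ (⊤ : Subgroup G).lowerCentralSeries i ∧
    x ∉ (⊤ : Subgroup G).lowerCentralSeries (i + 1)
  have hJn : ∀ i, Jump i → i + 2 ≤ n := by
    rintro i ⟨-, x, -, hx, hx'⟩
    by_contra h
    rw [hM.eq_bot (by omega), Subgroup.mem_bot] at hx
    exact hx' (hx ▸ one_mem _)
  -- the first jump of each residue class
  let sel : Fin (p - 1) → G := fun r =>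
    if h : ∃ i, Jump i ∧ i % (p - 1) = r then (Nat.find_spec h).1.2.choose else 1
  have hselH : ∀ r, sel r ∈ H := by
    intro r
    by_cases h : ∃ i, Jump i ∧ i % (p - 1) = r
    · simp only [sel, dif_pos h]; exact (Nat.find_spec h).1.2.choose_spec.1
    · simp only [sel, dif_neg h]; exact one_mem _
  set T₀ := Finset.univ.image sel with hT₀
  have hT₀H : closure (T₀ : Set G) ≤ H := by
    rw [closure_le, hT₀, Finset.coe_image]
    rintro _ ⟨r, -, rfl⟩
    exact hselH r
  have hcov : ∀ i, Jump i → ∃ y ∈ closure (T₀ : Set G), y ∈ (⊤ : Subgroup G).lowerCentralSeries i ∧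
      y ∉ (⊤ : Subgroup G).lowerCentralSeries (i + 1) := by
    intro i hi
    have hex : ∃ j, Jump j ∧ j % (p - 1) = (⟨i % (p - 1), Nat.mod_lt _ (by omega)⟩ : Fin (p - 1)) :=
      ⟨i, hi, rfl⟩
    obtain ⟨m, hm⟩ : ∃ m, m = Nat.find hex := ⟨_, rfl⟩
    have hmi : m ≤ i := hm ▸ Nat.find_min' hex ⟨hi, rfl⟩
    have hmod : m % (p - 1) = i % (p - 1) := hm ▸ (Nat.find_spec hex).2
    have hm1 : 1 ≤ m := hm ▸ (Nat.find_spec hex).1.1
    have hdvd : p - 1 ∣ i - m := (Nat.modEq_iff_dvd' hmi).mp hmod
    obtain ⟨k, hk⟩ := hdvd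
    have hin := hJn i hi
    have : ∀ l, l ≤ k → ∃ y ∈ closure (T₀ : Set G), y ∈ (⊤ : Subgroup G).lowerCentralSeries (m + (p - 1) * l) ∧
        y ∉ (⊤ : Subgroup G).lowerCentralSeries (m + (p - 1) * l + 1) := by
      intro l
      induction l with
      | zero =>
        intro _
        obtain ⟨-, h1, h2⟩ := (Nat.find_spec hex).1.2.choose_spec
        refine ⟨_, subset_closure (Finset.mem_coe.mpr (Finset.mem_image_of_mem sel (Finset.mem_univ
          (⟨i % (p - 1), Nat.mod_lt _ (by omega)⟩ : Fin (p - 1))))), ?_, ?_⟩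
        · simp only [sel, dif_pos hex, Nat.mul_zero, Nat.add_zero, hm]; exact h1
        · simp only [sel, dif_pos hex, Nat.mul_zero, Nat.add_zero, hm]; exact h2
      | succ l ih =>
        intro hl
        obtain ⟨y, hy, hy1, hy2⟩ := ih (by omega)
        have hkl : (p - 1) * (l + 1) ≤ (p - 1) * k := Nat.mul_le_mul_left _ hl
        rw [Nat.mul_add, Nat.mul_one] at hkl ⊢
        refine ⟨y ^ p, pow_mem hy p, ?_, ?_⟩
        · have := pow_layer _ (show 1 ≤ m + (p - 1) * l by omega) G n hM y hy1
          rwa [show m + (p - 1) * l + p - 1 = m + ((p - 1) * l + (p - 1)) by omega] at this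
        · have := pow_not_mem hp3 _ (show 1 ≤ m + (p - 1) * l by omega) G n hM (by omega) y hy1 hy2
          rwa [show m + (p - 1) * l + p = m + ((p - 1) * l + (p - 1)) + 1 by omega] at this
    obtain ⟨y, hy, hy1, hy2⟩ := this k le_rfl
    rw [← hk, Nat.add_sub_cancel' hmi] at hy1 hy2
    exact ⟨y, hy, hy1, hy2⟩
  have hlow : ∀ d i, n - i ≤ d → 1 ≤ i → H ⊓ (⊤ : Subgroup G).lowerCentralSeries i ≤ closure (T₀ : Set G) := by
    intro d
    induction d with
    | zero => intro i hi _; rw [hM.eq_bot (by omega), inf_bot_eq]; exact bot_le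
    | succ d ih =>
      intro i hi hi1 x hx
      by_cases hx' : x ∈ (⊤ : Subgroup G).lowerCentralSeries (i + 1)
      · exact ih (i + 1) (by omega) (by omega) ⟨hx.1, hx'⟩
      have hJ : Jump i := ⟨hi1, x, hx.1, hx.2, hx'⟩
      obtain ⟨y, hy, hy1, hy2⟩ := hcov i hJ
      obtain ⟨a, ha, b, hb, rfl⟩ := Subgroup.mem_sup_of_normal_left.mp
        (le_sup_zpowers hM.card hn3 hM.bot hM.ne hi1 (hJn i hJ) hy1 hy2 hx.2)
      have hb' : b ∈ closure (T₀ : Set G) := zpowers_le.mpr hy hb
      refine mul_mem (ih (i + 1) (by omega) (by omega) ⟨?_, ha⟩) hb'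
      simpa using H.mul_mem hx.1 (H.inv_mem (hT₀H hb'))
  have hN0 : H ⊓ N ≤ closure (T₀ : Set G) := hlow n 1 (by omega) le_rfl
  have hcard0 : T₀.card ≤ p - 1 := Finset.card_image_le.trans (by simp)
  set f := (QuotientGroup.mk' N).comp H.subtype
  by_cases htop : f.range = ⊤
  · -- `H` is everything
    have hsup : H ⊔ N = ⊤ := by
      have e : f.range = H.map (QuotientGroup.mk' N) := by
        rw [MonoidHom.range_comp, Subgroup.range_subtype]
      have h2 := congrArg (Subgroup.comap (QuotientGroup.mk' N)) (e ▸ htop)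
      rwa [Subgroup.comap_map_eq, comap_top, QuotientGroup.ker_mk'] at h2
    have hGp := IsPGroup.of_card hM.card
    have : Group.IsNilpotent G := hGp.isNilpotent
    have hNF : N ≤ frattini G := by
      rw [hN, Subgroup.top_lowerCentralSeries_one]
      exact CfsgLib.PGroup.commutator_le_frattini hGp
    have hH : H = ⊤ := frattini_nongenerating (top_le_iff.mp (hsup ▸ sup_le_sup_left hNF H))
    have hNc : Nat.card N * p ^ 2 = p ^ n := by
      have a3 := Subgroup.card_eq_card_quotient_mul_card_subgroup N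
      rw [hab, hM.card] at a3
      rw [a3, mul_comm]
    obtain ⟨a, -, ha⟩ := SetLike.exists_of_lt (show N < ⊤ from lt_top_iff_ne_top.mpr fun e => by
      rw [e, card_top, hM.card] at hNc
      have h2 : 1 < p ^ 2 := Nat.one_lt_pow two_ne_zero hp.one_lt
      have h3 : 0 < p ^ n := pow_pos hp.pos n
      nlinarith)
    obtain ⟨b, -, hb⟩ := SetLike.exists_of_lt (show N ⊔ zpowers a < ⊤ from lt_top_iff_ne_top.mpr fun e => by
      have h1 : (zpowers a).map (QuotientGroup.mk' N) = ⊤ := by
        have h2 := congrArg (Subgroup.map (QuotientGroup.mk' N)) e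
        rwa [Subgroup.map_sup, (Subgroup.map_eq_bot_iff _).mpr (QuotientGroup.ker_mk' N).ge, bot_sup_eq,
          map_top_of_surjective _ (QuotientGroup.mk'_surjective N)] at h2
      rw [MonoidHom.map_zpowers] at h1
      have h3 := congrArg (fun H : Subgroup (G ⧸ N) => Nat.card H) h1
      simp only [Nat.card_zpowers, card_top, hab] at h3
      have h5 : orderOf (QuotientGroup.mk' N a) ≤ p := Nat.le_of_dvd hp.pos
        (orderOf_dvd_of_pow_eq_one (by rw [← map_pow]; exact (QuotientGroup.eq_one_iff _).mpr (hpow a)))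
      rw [h3, sq] at h5
      exact absurd h5 (not_le.mpr (lt_mul_left hp.pos hp.one_lt)))
    refine ⟨{a, b}, (Finset.card_le_two).trans (by omega), ?_⟩
    rw [hH, Finset.coe_insert, Finset.coe_singleton]
    refine frattini_nongenerating (top_le_iff.mp ?_)
    have a1 := CfsgLib.Fusion.MaxClass.mul_card_le_of_lt hGp (show N < N ⊔ zpowers a from
      lt_of_le_not_ge le_sup_left fun e => ha (e (mem_sup_right (mem_zpowers a))))
    have a2 := CfsgLib.Fusion.MaxClass.mul_card_le_of_lt hGp (show N ⊔ zpowers a < N ⊔ zpowers a ⊔ zpowers b from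
      lt_of_le_not_ge le_sup_left fun e => hb (e (mem_sup_right (mem_zpowers b))))
    have h6 : N ⊔ zpowers a ⊔ zpowers b = ⊤ := Subgroup.eq_top_of_le_card _ (by
      rw [hM.card, ← hNc, sq, mul_comm, mul_assoc]
      exact (Nat.mul_le_mul_left p a1).trans a2)
    rw [← h6]
    refine sup_le (sup_le (hNF.trans le_sup_right) ?_) ?_ <;>
      exact (zpowers_le.mpr (subset_closure (by simp))).trans le_sup_left
  · have hcyc : IsCyclic f.range := by
      obtain ⟨j, hj, hj'⟩ := (Nat.dvd_prime_pow hp).mp (hab ▸ Subgroup.card_subgroup_dvd_card f.range)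
      interval_cases j
      · have : Subsingleton f.range := (Nat.card_eq_one_iff_unique.mp (by simpa using hj')).1
        exact isCyclic_of_subsingleton
      · exact isCyclic_of_prime_card (p := p) (by simpa using hj')
      · exact absurd (Subgroup.eq_top_of_card_eq _ (by rw [hj', hab])) htop
    obtain ⟨⟨_, h₀, rfl⟩, hgen⟩ := IsCyclic.exists_generator (α := f.range)
    refine ⟨insert (h₀ : G) T₀, (Finset.card_insert_le _ _).trans (by omega), le_antisymm ?_ fun x hx => ?_⟩
    · rw [closure_le, Finset.coe_insert]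
      exact Set.insert_subset h₀.2 fun z hz => hT₀H (subset_closure hz)
    · obtain ⟨k, hk⟩ := mem_zpowers_iff.mp (hgen ⟨f ⟨x, hx⟩, ⟨x, hx⟩, rfl⟩)
      have hk' : f h₀ ^ k = f ⟨x, hx⟩ := congrArg Subtype.val hk
      rw [← map_zpow] at hk'
      have h1 : ((h₀ : G) ^ k)⁻¹ * x ∈ N := by
        have := QuotientGroup.eq.mp hk'
        simpa using this
      have h2 : ((h₀ : G) ^ k)⁻¹ * x ∈ H := H.mul_mem (H.inv_mem (H.zpow_mem h₀.2 k)) hx
      have h3 : (h₀ : G) ∈ closure ((insert (h₀ : G) T₀ : Finset G) : Set G) :=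
        subset_closure (by simp)
      have h4 := mul_mem (zpow_mem h3 k) (Subgroup.closure_mono (by simp) (hN0 ⟨h2, h1⟩))
      rwa [mul_inv_cancel_left] at h4

end CfsgLib.MaxClassPower
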