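import Cfsg.Agent.S0662
import Cfsg.Agent.Lib.H82.HallPetrescu

/-!
# Groups of maximal class with a small centralizer of an element of order `p`

If `|G| = p ^ n`, `G` has maximal class and `x ^ p = 1`, `|C(x)| = p ^ 2`, then every element of
`G' x` is conjugate to `x`. Read through polynomial sequences this gives
`g ^ p ≡ [g, (p-1) U]⁻¹` for `g ∈ γ_i`, `i ≥ 2`, so taking `p`-th powers moves `γ_i` exactly onto
`γ_{i+p-1}`. Hence every subgroup of `γ_2` needs at most `p - 1` generators and every subgroup of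
`G` at most `p`.
-/

set_option autoImplicit false

namespace CfsgLib.MaxClassSplit

open Subgroup CfsgLib.PolySeq82 CfsgLib.HallPetrescu82
open scoped commutatorElement

variable {G : Type*} [Group G] {p n : ℕ} {x : G}

/-- The `i`-th term `γ_i` of the lower central series, `γ_1 = G`. -/
abbrev L (G : Type*) [Group G] (i : ℕ) : Subgroup G := (⊤ : Subgroup G).lowerCentralSeries (i - 1)

theorem L_anti {i j : ℕ} (h : i ≤ j) : L G j ≤ L G i :=
  (⊤ : Subgroup G).lowerCentralSeries_antitone (Nat.sub_le_sub_right h 1)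

theorem L_one : L G 1 = ⊤ := rfl

theorem comm_mem_L {i j : ℕ} (hi : 1 ≤ i) (hj : 1 ≤ j) {a b : G} (ha : a ∈ L G i) (hb : b ∈ L G j) :
    ⁅a, b⁆ ∈ L G (i + j) := by
  have h := lcs_commutator (i - 1) (j - 1) (commutator_mem_commutator ha hb)
  rwa [show i - 1 + (j - 1) + 1 = i + j - 1 by omega] at h

theorem comm_left_mem {j : ℕ} (hj : 1 ≤ j) (a : G) {b : G} (hb : b ∈ L G j) :
    ⁅a, b⁆ ∈ L G (j + 1) := by
  rw [add_comm]
  exact comm_mem_L le_rfl hj (by rw [L_one]; exact mem_top a) hb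

/-- The hypotheses: maximal class, `x` of order dividing `p` with centralizer of order `p ^ 2`. -/
structure Setting (p n : ℕ) (x : G) : Prop where
  card : Nat.card G = p ^ n
  cls : Group.nilpotencyClass G = n - 1
  three : 3 ≤ n
  pow : x ^ p = 1
  cent : Nat.card (centralizer ({x} : Set G)) = p ^ 2

theorem Setting.conj (h : Setting p n x) (g : G) : Setting p n (g * x * g⁻¹) := by
  refine ⟨h.card, h.cls, h.three, by rw [conj_pow, h.pow, mul_one, mul_inv_cancel], ?_⟩
  rw [← h.cent]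
  refine Nat.card_congr ((MulAut.conj g).toEquiv.subtypeEquiv fun y => ?_).symm
  show y ∈ centralizer ({x} : Set G) ↔ g * y * g⁻¹ ∈ centralizer ({g * x * g⁻¹} : Set G)
  rw [mem_centralizer_singleton_iff, mem_centralizer_singleton_iff]
  constructor
  · intro e
    calc g * y * g⁻¹ * (g * x * g⁻¹) = g * (y * x) * g⁻¹ := by group
      _ = g * (x * y) * g⁻¹ := by rw [e]
      _ = g * x * g⁻¹ * (g * y * g⁻¹) := by group
  · intro e
    calc y * x = g⁻¹ * (g * y * g⁻¹ * (g * x * g⁻¹)) * g := by group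
      _ = g⁻¹ * (g * x * g⁻¹ * (g * y * g⁻¹)) * g := by rw [e]
      _ = x * y := by group

set_option linter.unusedSectionVars false

variable [Finite G] [Fact p.Prime]

theorem Setting.isPGroup (h : Setting p n x) : IsPGroup p G := IsPGroup.of_card h.card

theorem Setting.nilpotent (h : Setting p n x) : Group.IsNilpotent G := h.isPGroup.isNilpotent

theorem Setting.card_L (h : Setting p n x) {i : ℕ} (h2 : 2 ≤ i) (hi : i ≤ n) :
    Nat.card (L G i) = p ^ (n - i) := by
  rw [Cfsg.Agent.S0662.lcs_card h.card h.cls h.three (i - 1) (by omega) (by omega),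
    show n - 1 - (i - 1) = n - i by omega]

theorem Setting.L_eq_bot (h : Setting p n x) {i : ℕ} (hi : n ≤ i) : L G i = ⊥ := by
  refine le_bot_iff.mp ((L_anti hi).trans (le_of_eq (Subgroup.card_eq_one.mp ?_)))
  rw [h.card_L (by have := h.three; omega) le_rfl, Nat.sub_self, pow_zero]

theorem Setting.lt_of_notMem (h : Setting p n x) {i : ℕ} {g : G} (hg : g ∈ L G i)
    (hg' : g ∉ L G (i + 1)) : i < n := by
  by_contra hi
  rw [h.L_eq_bot (by omega), mem_bot] at hg
  exact hg' (hg ▸ one_mem _)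

omit [Fact p.Prime] in
/-- The commutators with `x` of a subgroup take at least `|K : C_K(x)|` values. -/
theorem card_le_of_comm (x : G) {K M : Subgroup G} (hm : ∀ g ∈ K, ⁅x, g⁆ ∈ M) :
    Nat.card K ≤ Nat.card (centralizer ({x} : Set G) ⊓ K : Subgroup G) * Nat.card M ∧
    (Nat.card (centralizer ({x} : Set G) ⊓ K : Subgroup G) * Nat.card M ≤ Nat.card K →
      ∀ c ∈ M, ∃ g ∈ K, ⁅x, g⁆ = c) := by
  set C := (centralizer ({x} : Set G)).subgroupOf K
  have hC : Nat.card C = Nat.card (centralizer ({x} : Set G) ⊓ K : Subgroup G) := by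
    rw [← Nat.card_congr (Subgroup.subgroupOfEquivOfLe
      (inf_le_right : centralizer ({x} : Set G) ⊓ K ≤ K)).toEquiv, Subgroup.inf_subgroupOf_right]
  have key : ∀ a b : K, ⁅x, (a : G)⁆ = ⁅x, (b : G)⁆ ↔ a⁻¹ * b ∈ C := by
    intro a b
    rw [mem_subgroupOf, mem_centralizer_singleton_iff, commutatorElement_def, commutatorElement_def,
      coe_mul, coe_inv]
    constructor
    · intro e
      have e1 : (a : G) * x * (a : G)⁻¹ = (b : G) * x * (b : G)⁻¹ := by
        calc (a : G) * x * (a : G)⁻¹ = (x * a * x⁻¹ * (a : G)⁻¹)⁻¹ * x := by group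
          _ = (x * b * x⁻¹ * (b : G)⁻¹)⁻¹ * x := by rw [e]
          _ = (b : G) * x * (b : G)⁻¹ := by group
      calc (a : G)⁻¹ * b * x = (a : G)⁻¹ * ((b : G) * x * (b : G)⁻¹) * b := by group
        _ = x * ((a : G)⁻¹ * b) := by rw [← e1]; group
    · intro e
      have e1 : (a : G) * x * (a : G)⁻¹ = (b : G) * x * (b : G)⁻¹ := by
        calc (a : G) * x * (a : G)⁻¹ = (a : G) * (x * ((a : G)⁻¹ * b)) * (b : G)⁻¹ := by group
          _ = (b : G) * x * (b : G)⁻¹ := by rw [← e]; group
      calc x * a * x⁻¹ * (a : G)⁻¹ = x * ((a : G) * x * (a : G)⁻¹)⁻¹ := by group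
        _ = x * b * x⁻¹ * (b : G)⁻¹ := by rw [e1]; group
  let φ : K ⧸ C → M := fun q => Quotient.liftOn' q (fun a => (⟨⁅x, (a : G)⁆, hm _ a.2⟩ : M))
    fun a b hab => Subtype.ext ((key a b).2 (QuotientGroup.leftRel_apply.1 hab))
  have hinj : Function.Injective φ := by
    intro a b
    refine Quotient.inductionOn₂' a b fun a b hab => ?_
    exact Quotient.sound' (QuotientGroup.leftRel_apply.2 ((key a b).1 (congrArg Subtype.val hab)))
  have hcard := Subgroup.card_eq_card_quotient_mul_card_subgroup C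
  refine ⟨?_, fun hle c hc => ?_⟩
  · rw [hcard, hC, mul_comm]
    exact Nat.mul_le_mul_left _ (Nat.card_le_card_of_injective φ hinj)
  · have hle' : Nat.card M ≤ Nat.card (K ⧸ C) := by
      rw [hcard, hC, mul_comm (Nat.card (K ⧸ C))] at hle
      exact Nat.le_of_mul_le_mul_left hle Nat.card_pos
    obtain ⟨q, hq⟩ := (hinj.bijective_of_nat_card_le hle').2 ⟨c, hc⟩
    revert hq
    refine Quotient.inductionOn' q fun a hq => ?_
    exact ⟨a, a.2, congrArg Subtype.val hq⟩

theorem Setting.exists_comm (h : Setting p n x) {c : G} (hc : c ∈ L G 2) : ∃ g, ⁅x, g⁆ = c := by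
  have hle := (card_le_of_comm x (K := ⊤) (M := L G 2)
    fun g _ => comm_left_mem le_rfl x (by rw [L_one]; exact mem_top g)).2 (by
      rw [inf_top_eq, h.cent, h.card_L le_rfl (by have := h.three; omega), card_top, h.card, ← pow_add]
      exact Nat.pow_le_pow_right (Fact.out : p.Prime).pos (by have := h.three; omega))
  obtain ⟨g, -, hg⟩ := hle c hc
  exact ⟨g, hg⟩

/-- Every element of `G' x` is conjugate to `x`. -/
theorem Setting.mul_left (h : Setting p n x) {c : G} (hc : c ∈ L G 2) : Setting p n (c * x) := by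
  obtain ⟨g, hg⟩ := h.exists_comm (inv_mem hc)
  have e : c * x = g * x * g⁻¹ := by
    rw [show c = ⁅x, g⁆⁻¹ by rw [hg, inv_inv], commutatorElement_def]; group
  rw [e]
  exact h.conj g

theorem Setting.notMem_two (h : Setting p n x) : x ∉ L G 2 := by
  intro hx
  have h1 := (h.mul_left (inv_mem hx)).cent
  rw [inv_mul_cancel, show centralizer ({1} : Set G) = ⊤ from eq_top_iff.2 fun g _ => by
    simp [mem_centralizer_singleton_iff], card_top, h.card] at h1
  have := Nat.pow_right_injective (Fact.out : p.Prime).two_le h1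
  have := h.three
  omega

theorem Setting.card_cent_inf (h : Setting p n x) {j : ℕ} (hj : 2 ≤ j) :
    Nat.card (centralizer ({x} : Set G) ⊓ L G j : Subgroup G) ≤ p := by
  have hp : p.Prime := Fact.out
  have hdvd := card_dvd_of_le (inf_le_left : centralizer ({x} : Set G) ⊓ L G j ≤ _)
  rw [h.cent] at hdvd
  obtain ⟨k, hk2, hk⟩ := (Nat.dvd_prime_pow hp).1 hdvd
  rw [hk]
  rcases Nat.lt_or_ge k 2 with hlt | hge
  · exact (Nat.pow_le_pow_right hp.pos (by omega)).trans (pow_one p).le
  · exfalso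
    have hall : centralizer ({x} : Set G) ⊓ L G j = centralizer ({x} : Set G) :=
      eq_of_le_of_card_ge inf_le_left (by rw [h.cent, hk]; exact Nat.pow_le_pow_right hp.pos hge)
    exact h.notMem_two (L_anti hj (hall.ge (mem_centralizer_singleton_iff.2 rfl)).2)

/-- Modulo `γ_{j+1}` the term `γ_j` is generated by any of its elements outside `γ_{j+1}`. -/
theorem Setting.split (h : Setting p n x) {j : ℕ} (hj : 2 ≤ j) {t k : G} (ht : t ∈ L G j)
    (ht' : t ∉ L G (j + 1)) (hk : k ∈ L G j) : ∃ a : ℤ, (t ^ a)⁻¹ * k ∈ L G (j + 1) := by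
  have hp : p.Prime := Fact.out
  have hjn := h.lt_of_notMem ht ht'
  set M := zpowers t ⊔ L G (j + 1)
  have hM : M = L G j := by
    refine eq_of_le_of_card_ge (sup_le (zpowers_le.2 ht) (L_anti (by omega))) ?_
    obtain ⟨e, he⟩ := (h.isPGroup.to_subgroup M).exists_card_eq
    have hlt : L G (j + 1) < M := lt_of_le_of_ne le_sup_right fun e' =>
      ht' (e'.ge (mem_sup_left (mem_zpowers t)))
    have hc : Nat.card (L G (j + 1)) < Nat.card M :=
      lt_of_not_ge fun hge => hlt.ne (eq_of_le_of_card_ge hlt.le hge)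
    rw [h.card_L (by omega) (by omega), he, Nat.pow_lt_pow_iff_right hp.one_lt] at hc
    rw [h.card_L hj hjn.le, he]
    exact Nat.pow_le_pow_right hp.pos (by omega)
  obtain ⟨y, hy, z, hz, hyz⟩ := mem_sup_of_normal_right.1 (hM.ge hk)
  obtain ⟨a, rfl⟩ := mem_zpowers_iff.1 hy
  exact ⟨a, by rw [← hyz, inv_mul_cancel_left]; exact hz⟩

/-- Commutation with `x` moves `γ_j` exactly one step. -/
theorem Setting.shift (h : Setting p n x) {j : ℕ} (hj : 2 ≤ j) (hjn : j + 2 ≤ n) {g : G}
    (hg : g ∈ L G j) (hg' : g ∉ L G (j + 1)) : ⁅x, g⁆ ∉ L G (j + 2) := by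
  intro hc
  have hp : p.Prime := Fact.out
  let π := QuotientGroup.mk' (L G (j + 2))
  have hall : ∀ k ∈ L G j, ⁅x, k⁆ ∈ L G (j + 2) := by
    intro k hk
    obtain ⟨a, ha⟩ := h.split hj hg hg' hk
    refine (QuotientGroup.eq_one_iff _).1 (?_ : π ⁅x, k⁆ = 1)
    have h1 : Commute (π x) (π g) := by
      rw [← commutatorElement_eq_one_iff_commute, ← map_commutatorElement]
      exact (QuotientGroup.eq_one_iff _).2 hc
    have h2 : Commute (π x) (π ((g ^ a)⁻¹ * k)) := by
      rw [← commutatorElement_eq_one_iff_commute, ← map_commutatorElement]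
      exact (QuotientGroup.eq_one_iff _).2 (comm_left_mem (by omega) x ha)
    have h3 := (h1.zpow_right a).mul_right h2
    rw [← map_zpow, ← map_mul, mul_inv_cancel_left] at h3
    rwa [← commutatorElement_eq_one_iff_commute, ← map_commutatorElement] at h3
  have h1 := ((card_le_of_comm x hall).1).trans
    (Nat.mul_le_mul_right _ (h.card_cent_inf hj))
  rw [h.card_L hj (by omega), h.card_L (by omega) hjn, ← pow_succ',
    Nat.pow_le_pow_iff_right hp.one_lt] at h1
  omega

/-! ### Powers -/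

theorem iterate_delta_mem {𝔉 : Filt G} {s : ℕ} {a : ℤ → G} (ha : a ∈ Q 𝔉 s) :
    ∀ k, delta^[k] a ∈ Q 𝔉 (s + k) := by
  intro k
  induction k with
  | zero => exact ha
  | succ k ih => rw [Function.iterate_succ_apply']; exact mem_delta ih

theorem iterate_delta_one (k : ℕ) : delta^[k] (1 : ℤ → G) = 1 := by
  induction k with
  | zero => rfl
  | succ k ih => rw [Function.iterate_succ_apply', ih, delta_one]

theorem iterate_delta_binom (c : G) : ∀ m k, m < k → delta^[k] (binom c m) = 1 := by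
  intro m
  induction m with
  | zero =>
    intro k hk
    obtain ⟨k, rfl⟩ : ∃ k', k = k' + 1 := ⟨k - 1, by omega⟩
    rw [Function.iterate_succ_apply, show delta (binom c 0) = 1 by funext n; simp [delta, binom],
      iterate_delta_one]
  | succ m ih =>
    intro k hk
    obtain ⟨k, rfl⟩ : ∃ k', k = k' + 1 := ⟨k - 1, by omega⟩
    rw [Function.iterate_succ_apply, delta_binom]
    exact ih k (by omega)

theorem iterate_delta_of_vanish : ∀ (k : ℕ) (h : ℤ → G), (∀ n : ℕ, n < k → h n = 1) →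
    delta^[k] h 0 = h k := by
  intro k
  induction k with
  | zero => intro h _; rfl
  | succ k ih =>
    intro h h0
    rw [Function.iterate_succ_apply, ih (delta h) fun n hn => by
      rw [delta, h0 n (by omega), show ((n : ℤ) + 1) = ((n + 1 : ℕ) : ℤ) by push_cast; rfl,
        h0 (n + 1) (by omega), inv_one, mul_one]]
    rw [delta, h0 k (by omega), inv_one, mul_one, Nat.cast_succ]

/-- The top difference is multiplicative modulo the next term. -/
theorem top_mul {𝔉 : Filt G} (N : Subgroup G) [N.Normal] : ∀ (k s : ℕ) (a b : ℤ → G),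
    1 ≤ s → 𝔉.F (s + k + 1) ≤ N → a ∈ Q 𝔉 s → b ∈ Q 𝔉 s →
    ((delta^[k] (a * b) 0 : G) : G ⧸ N) =
      ((delta^[k] a 0 : G) : G ⧸ N) * ((delta^[k] b 0 : G) : G ⧸ N) := by
  intro k
  induction k with
  | zero => intro s a b _ _ _ _; rfl
  | succ k ih =>
    intro s a b hs hN ha hb
    have hN' : 𝔉.F (s + 1 + k + 1) ≤ N := (le_of_eq (by congr 1; omega)).trans hN
    set e : ℤ → G := ⁅(delta b)⁻¹, a⁆ with hedef
    have he : e ∈ Q 𝔉 (s + 2) :=
      Q_anti (by omega) (commutator_mem (inv_mem (mem_delta hb)) ha)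
    have hd : delta (a * b) = delta a * delta b * e := by
      rw [delta_mul, hedef, commutatorElement_def]; group
    have hde : ((delta^[k] e 0 : G) : G ⧸ N) = 1 :=
      (QuotientGroup.eq_one_iff _).2 (hN (𝔉.anti (by omega : s + (k + 1) + 1 ≤ s + 2 + k)
        (mem_value (iterate_delta_mem he k) 0)))
    have h1 := ih (s + 1) (delta a * delta b) e (by omega) hN'
      (mul_mem (mem_delta ha) (mem_delta hb)) (Q_anti (by omega) he)
    have h2 := ih (s + 1) (delta a) (delta b) (by omega) hN' (mem_delta ha) (mem_delta hb)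
    rw [Function.iterate_succ_apply, hd, h1, h2, hde, mul_one]
    rfl

/-- The sequence `n ↦ U^n z U^{-n}`. -/
def conjSeq (U z : G) : ℤ → G := binom U 1 * binom z 0 * (binom U 1)⁻¹

theorem binom_one (U : G) (m : ℤ) : binom U 1 m = U ^ m := by rw [binom, Ring.choose_one_right]

theorem binom_zero (U : G) (m : ℤ) : binom U 0 m = U := by
  rw [binom, Ring.choose_zero_right, zpow_one]

theorem delta_conjSeq (U z : G) : delta (conjSeq U z) = conjSeq U ⁅U, z⁆ := by
  funext m
  simp only [delta, conjSeq, Pi.mul_apply, Pi.inv_apply, binom_one, binom_zero,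
    commutatorElement_def]
  group

theorem iterate_conjSeq (U : G) : ∀ (k : ℕ) (z : G),
    delta^[k] (conjSeq U z) = conjSeq U ((fun y => ⁅U, y⁆)^[k] z) := by
  intro k
  induction k with
  | zero => intro z; rfl
  | succ k ih =>
    intro z
    rw [Function.iterate_succ_apply, delta_conjSeq, ih, ← Function.iterate_succ_apply]

theorem iterate_comm_mem (U : G) {i : ℕ} (hi : 1 ≤ i) {g : G} (hg : g ∈ L G i) :
    ∀ k, (fun y => ⁅U, y⁆)^[k] g ∈ L G (i + k) := by
  intro k
  induction k with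
  | zero => exact hg
  | succ k ih =>
    rw [Function.iterate_succ_apply']
    exact comm_left_mem (j := i + k) (by omega) U ih

/-- `g^p` is inverse to the iterated commutator, modulo `γ_{i+p}`. -/
theorem Setting.pow_mul_iterate (h : Setting p n x) {i : ℕ} (hi : 2 ≤ i)
    (hrec : ∀ c ∈ L G (i + 1), c ^ p ∈ L G (i + p)) {g : G} (hg : g ∈ L G i) :
    g ^ p * (fun y => ⁅g * x, y⁆)^[p - 1] g ∈ L G (i + p) := by
  have hp : p.Prime := Fact.out
  rcases le_or_gt n i with hni | hin
  · obtain rfl : g = 1 := by rw [h.L_eq_bot hni, mem_bot] at hg; exact hg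
    rw [one_pow, one_mul]
    rw [Function.iterate_fixed (by simp)]
    exact one_mem _
  set U := g * x with hU
  have hUp : U ^ p = 1 := (h.mul_left (L_anti hi hg)).pow
  let 𝔉 : Filt G := lcsFilt G n ((h.L_eq_bot le_rfl :))
  set N := L G (i + p)
  let π : G →* G ⧸ N := QuotientGroup.mk' N
  set f : ℤ → G := binom U 1 * (binom x 1)⁻¹ with hf
  have hU0 : binom U 1 ∈ Q 𝔉 0 := binom_mem 1 0 U (mem_top U)
  have hx0 : binom x 1 ∈ Q 𝔉 0 := binom_mem 1 0 x (mem_top x)
  have hdf : delta f = conjSeq U g := by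
    funext m
    simp only [hf, delta, conjSeq, Pi.mul_apply, Pi.inv_apply, binom_one, binom_zero]
    rw [show g = U * x⁻¹ by rw [hU, mul_inv_cancel_right]]
    group
  have hfQ : f ∈ Q 𝔉 (i - 1) := by
    refine (mem_Q_iff (show i - 1 < n by omega)).2 ⟨fun m => ?_, ?_, ?_⟩
    · refine 𝔉.anti (show i - 1 ≤ i by omega) ((QuotientGroup.eq_one_iff (N := L G i) _).1 ?_)
      have e : ((U : G) : G ⧸ L G i) = (x : G ⧸ L G i) := by
        rw [hU, QuotientGroup.mk_mul, (QuotientGroup.eq_one_iff g).2 hg, one_mul]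
      simp only [hf, Pi.mul_apply, Pi.inv_apply, binom_one, QuotientGroup.mk_mul,
        QuotientGroup.mk_inv, QuotientGroup.mk_zpow, e, mul_inv_cancel]
    · exact mem_Nm fun t ht => mul_mem (Q_le_normalizer (Nat.zero_le t) hU0)
        (inv_mem (Q_le_normalizer (Nat.zero_le t) hx0))
    · rw [hdf, show i - 1 + 1 = i by omega]
      exact PolySeq82.conj_mem (Nat.zero_le i) hU0 (binom_mem 0 i g hg)
  have hlin : ∀ a ∈ Q 𝔉 (i - 1), ∀ b ∈ Q 𝔉 (i - 1),
      π (delta^[p] (a * b) 0) = π (delta^[p] a 0) * π (delta^[p] b 0) := by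
    intro a ha b hb
    exact top_mul N p (i - 1) a b (by omega) (L_anti (by omega)) ha hb
  have hpeel : ∀ d m, p ≤ m + d → 2 ≤ m → ∀ q ∈ Q 𝔉 (i - 1), (∀ k : ℕ, k < m → q k = 1) →
      π (q p) = π (delta^[p] q 0) := by
    intro d
    induction d with
    | zero =>
      intro m hm _ q _ h0
      rw [iterate_delta_of_vanish p q fun k hk => h0 k (by omega)]
    | succ d ih =>
      intro m hm h2 q hq h0
      rcases le_or_gt p m with hpm | hpm
      · rw [iterate_delta_of_vanish p q fun k hk => h0 k (by omega)]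
      have hc : q m ∈ 𝔉.F (i - 1 + m) := value_mem m (i - 1) q hq h0
      have hB : binom (q m) m ∈ Q 𝔉 (i - 1) := binom_mem m (i - 1) _ hc
      set q' := (binom (q m) m)⁻¹ * q with hq'
      have hq'Q : q' ∈ Q 𝔉 (i - 1) := mul_mem (inv_mem hB) hq
      have h0' : ∀ k : ℕ, k < m + 1 → q' k = 1 := by
        intro k hk
        simp only [hq', Pi.mul_apply, Pi.inv_apply, binom_natCast]
        rcases Nat.lt_or_ge k m with hlt | hge
        · rw [h0 k hlt, Nat.choose_eq_zero_of_lt hlt]; simp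
        · obtain rfl : k = m := by omega
          simp
      have hcp : π (q m ^ p.choose m) = 1 := by
        obtain ⟨t, ht⟩ := hp.dvd_choose_self (by omega) hpm
        refine (QuotientGroup.eq_one_iff _).2 ?_
        rw [ht, pow_mul]
        refine Subgroup.pow_mem _ (hrec _ (L_anti ?_ hc)) t
        omega
      have e : q = binom (q m) m * q' := by rw [hq', mul_inv_cancel_left]
      have h3 := ih (m + 1) (by omega) (by omega) q' hq'Q h0'
      rw [e, hlin _ hB _ hq'Q, iterate_delta_binom _ m p hpm, Pi.one_apply, map_one, one_mul,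
        Pi.mul_apply, binom_natCast, map_mul, hcp, one_mul, h3]
  set B := binom g 1 with hBdef
  have hB : B ∈ Q 𝔉 (i - 1) := binom_mem 1 (i - 1) g (by
    show g ∈ L G (i - 1 + 1)
    rwa [show i - 1 + 1 = i by omega])
  set f' := B⁻¹ * f with hf'
  have hf'Q : f' ∈ Q 𝔉 (i - 1) := mul_mem (inv_mem hB) hfQ
  have hf0 : ∀ k : ℕ, k < 2 → f' k = 1 := by
    intro k hk
    interval_cases k
    · simp [hf', hf, hBdef, binom_one]
    · simp [hf', hf, hBdef, binom_one, hU]
  have h3 := hpeel p 2 (by omega) le_rfl f' hf'Q hf0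
  have e : f = B * f' := by rw [hf', mul_inv_cancel_left]
  have htop : π (delta^[p] f 0) = π ((fun y => ⁅U, y⁆)^[p - 1] g) := by
    obtain ⟨q, hq⟩ : ∃ q, p = q + 1 := ⟨p - 1, by have := hp.two_le; omega⟩
    have hq' : p - 1 = q := by omega
    rw [hq', show delta^[p] f = delta^[q] (delta f) by rw [hq, Function.iterate_succ_apply],
      hdf, iterate_conjSeq]
    simp [conjSeq, binom_one, binom_zero]
  have hfp : f p = 1 := by
    simp [hf, binom_one, hUp, h.pow]
  rw [e, hlin _ hB _ hf'Q, hBdef, iterate_delta_binom _ 1 p hp.one_lt, Pi.one_apply, map_one,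
    one_mul, ← h3, hf', Pi.mul_apply, Pi.inv_apply, hfp, mul_one, map_inv, hBdef, binom_natCast,
    Nat.choose_one_right] at htop
  refine (QuotientGroup.eq_one_iff _).1 (?_ : π (g ^ p * (fun y => ⁅U, y⁆)^[p - 1] g) = 1)
  rw [map_mul, ← htop, mul_inv_cancel]

theorem Setting.pow_mem (h : Setting p n x) {i : ℕ} (hi : 2 ≤ i) {g : G} (hg : g ∈ L G i) :
    g ^ p ∈ L G (i + p - 1) := by
  have hp : p.Prime := Fact.out
  suffices H : ∀ d i, n ≤ i + d → 2 ≤ i → ∀ g ∈ L G i, g ^ p ∈ L G (i + p - 1) from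
    H n i (by omega) hi g hg
  intro d
  induction d with
  | zero =>
    intro i hn _ g hg
    rw [h.L_eq_bot (by omega), mem_bot] at hg
    rw [hg, one_pow]; exact one_mem _
  | succ d ih =>
    intro i hn hi g hg
    have hrec : ∀ c ∈ L G (i + 1), c ^ p ∈ L G (i + p) := fun c hc => by
      have := ih (i + 1) (by omega) (by omega) c hc
      rwa [show i + 1 + p - 1 = i + p by omega] at this
    have h1 := h.pow_mul_iterate hi hrec hg
    have h2 := iterate_comm_mem (g * x) (by omega) hg (p - 1)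
    rw [show i + (p - 1) = i + p - 1 by have := hp.two_le; omega] at h2
    exact (mul_mem_cancel_right h2).1 (L_anti (by omega) h1)

theorem Setting.pow_notMem (h : Setting p n x) {i : ℕ} (hi : 2 ≤ i) (hin : i + p ≤ n) {g : G}
    (hg : g ∈ L G i) (hg' : g ∉ L G (i + 1)) : g ^ p ∉ L G (i + p) := by
  have hp : p.Prime := Fact.out
  intro hmem
  have hrec : ∀ c ∈ L G (i + 1), c ^ p ∈ L G (i + p) := fun c hc => by
    have := h.pow_mem (by omega) hc
    rwa [show i + 1 + p - 1 = i + p by omega] at this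
  have h1 := (mul_mem_cancel_left hmem).1 (h.pow_mul_iterate hi hrec hg)
  have hU := h.mul_left (L_anti hi hg)
  have hit : ∀ k, k ≤ p - 1 → (fun y => ⁅g * x, y⁆)^[k] g ∉ L G (i + k + 1) := by
    intro k
    induction k with
    | zero => intro _; exact hg'
    | succ k ih =>
      intro hk
      rw [Function.iterate_succ_apply']
      exact hU.shift (j := i + k) (by omega) (by omega) (iterate_comm_mem _ (by omega) hg k)
        (ih (by omega))
  refine hit (p - 1) le_rfl ?_
  rwa [show i + (p - 1) + 1 = i + p by have := hp.two_le; omega]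

/-! ### Generators -/

/-- A subgroup below `K` meeting all the layers that `K` meets contains `K ∩ γ_2`. -/
theorem Setting.le_of_leads (h : Setting p n x) {K K' : Subgroup G} (hK' : K' ≤ K)
    (hlead : ∀ i, 2 ≤ i → ∀ k ∈ K, k ∈ L G i → k ∉ L G (i + 1) →
      ∃ t ∈ K', t ∈ L G i ∧ t ∉ L G (i + 1)) :
    K ⊓ L G 2 ≤ K' := by
  suffices H : ∀ d i, n ≤ i + d → 2 ≤ i → K ⊓ L G i ≤ K' from H n 2 (by omega) le_rfl
  intro d
  induction d with
  | zero =>
    intro i hn _
    rw [h.L_eq_bot (by omega), inf_bot_eq]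
    exact bot_le
  | succ d ih =>
    intro i hn hi k hk
    by_cases hk' : k ∈ L G (i + 1)
    · exact ih (i + 1) (by omega) (by omega) ⟨hk.1, hk'⟩
    obtain ⟨t, htK, ht, ht'⟩ := hlead i hi k hk.1 hk.2 hk'
    obtain ⟨a, ha⟩ := h.split hi ht ht' hk.2
    have h1 : (t ^ a)⁻¹ * k ∈ K := K.mul_mem (K.inv_mem (K.zpow_mem (hK' htK) a)) hk.1
    have hmem := ih (i + 1) (by omega) (by omega) ⟨h1, ha⟩
    have := mul_mem (zpow_mem htK a) hmem
    rwa [mul_inv_cancel_left] at this

/-- Powers of an element of exact layer `m` reach the layers `m + k (p - 1)`. -/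
theorem Setting.exists_pow_lead (h : Setting p n x) {m : ℕ} (hm : 2 ≤ m) {t : G} (ht : t ∈ L G m)
    (ht' : t ∉ L G (m + 1)) : ∀ k, m + k * (p - 1) < n →
      ∃ e : ℕ, t ^ e ∈ L G (m + k * (p - 1)) ∧ t ^ e ∉ L G (m + k * (p - 1) + 1) := by
  intro k
  induction k with
  | zero => intro _; exact ⟨1, by simpa using ht, by simpa using ht'⟩
  | succ k ih =>
    intro hk
    have hp : p.Prime := Fact.out
    have hsucc : (k + 1) * (p - 1) = k * (p - 1) + (p - 1) := Nat.succ_mul k (p - 1)
    have := hp.two_le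
    obtain ⟨e, he, he'⟩ := ih (by omega)
    refine ⟨e * p, ?_, ?_⟩
    · rw [pow_mul]
      exact L_anti (by omega) (h.pow_mem (by omega) he)
    · rw [pow_mul]
      intro hmem
      exact h.pow_notMem (by omega) (by omega) he he' (L_anti (by omega) hmem)

theorem Setting.gens_two (h : Setting p n x) {K : Subgroup G} (hK : K ≤ L G 2) :
    ∃ T : Finset G, T.card ≤ p - 1 ∧ closure (T : Set G) = K := by
  classical
  have hp : p.Prime := Fact.out
  have hp1 : 0 < p - 1 := by have := hp.two_le; omega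
  let P : ℕ → ℕ → Prop := fun r i => i % (p - 1) = r ∧ 2 ≤ i ∧ ∃ k ∈ K, k ∈ L G i ∧ k ∉ L G (i + 1)
  let sel : ℕ → G := fun r =>
    if hr : ∃ i, P r i then Classical.choose (Nat.find_spec hr).2.2 else 1
  refine ⟨(Finset.range (p - 1)).image sel, Finset.card_image_le.trans (Finset.card_range _).le, ?_⟩
  have hle : closure (((Finset.range (p - 1)).image sel : Finset G) : Set G) ≤ K := by
    rw [closure_le]
    intro y hy
    obtain ⟨r, -, rfl⟩ := Finset.mem_image.1 (Finset.mem_coe.1 hy)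
    show sel r ∈ K
    by_cases hr : ∃ i, P r i
    · simp only [sel, dif_pos hr]
      exact (Classical.choose_spec (Nat.find_spec hr).2.2).1
    · simp only [sel, dif_neg hr]
      exact one_mem _
  refine le_antisymm hle ?_
  refine le_trans (le_inf le_rfl hK) (h.le_of_leads hle fun i hi k hk hki hki' => ?_)
  have hr : ∃ j, P (i % (p - 1)) j := ⟨i, rfl, hi, k, hk, hki, hki'⟩
  obtain ⟨hmod, hm2, -⟩ := Nat.find_spec hr
  have hsel := Classical.choose_spec (Nat.find_spec hr).2.2
  have hmi : Nat.find hr ≤ i := Nat.find_min' hr ⟨rfl, hi, k, hk, hki, hki'⟩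
  obtain ⟨q, hq⟩ := (Nat.modEq_iff_dvd' hmi).1 hmod
  have hin := h.lt_of_notMem hki hki'
  have hi_eq : i = Nat.find hr + q * (p - 1) := by rw [mul_comm q]; omega
  obtain ⟨e, he, he'⟩ := h.exists_pow_lead hm2 hsel.2.1 hsel.2.2 q (by omega)
  refine ⟨Classical.choose (Nat.find_spec hr).2.2 ^ e, Subgroup.pow_mem _ (Subgroup.subset_closure (Finset.mem_coe.2
    (Finset.mem_image.2 ⟨i % (p - 1), Finset.mem_range.2 (Nat.mod_lt _ hp1), ?_⟩))) e, ?_, ?_⟩
  · simp only [sel, dif_pos hr]
  · exact L_anti hi_eq.le he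
  · exact fun hm => he' (L_anti (by omega) hm)

theorem Setting.pow_mem_two (h : Setting p n x) (y : G) : y ^ p ∈ L G 2 := by
  have hp : p.Prime := Fact.out
  by_contra hy
  have hn := h.three
  set M := zpowers y ⊔ L G 2
  have hlt : L G 2 < zpowers (y ^ p) ⊔ L G 2 :=
    lt_of_le_of_ne le_sup_right fun e => hy (e.ge (mem_sup_left (mem_zpowers _)))
  have hlt' : zpowers (y ^ p) ⊔ L G 2 < M := by
    refine lt_of_le_of_ne (sup_le_sup_right (zpowers_le.2 (Subgroup.pow_mem _ (mem_zpowers y) p)) _) fun e => ?_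
    obtain ⟨a, ha, z, hz, haz⟩ := mem_sup_of_normal_right.1 (e.ge (mem_sup_left (mem_zpowers y)))
    obtain ⟨a, rfl⟩ := mem_zpowers_iff.1 ha
    -- `y ^ (1 - a p)` lies in `γ_2`, so `y` does
    have h1 : y ^ (1 - (p : ℤ) * a) ∈ L G 2 := by
      have : z = y ^ (1 - (p : ℤ) * a) := by
        rw [sub_eq_neg_add, zpow_add, zpow_one, zpow_neg, zpow_mul, zpow_natCast,
          eq_inv_mul_iff_mul_eq]
        exact haz
      rwa [← this]
    obtain ⟨l, hl⟩ := h.isPGroup y
    have hcop : IsCoprime (1 - (p : ℤ) * a) ((p : ℤ) ^ l) :=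
      IsCoprime.pow_right ⟨1, a, by ring⟩
    obtain ⟨u, v, huv⟩ := hcop
    have h2 : y = (y ^ (1 - (p : ℤ) * a)) ^ u := by
      rw [← zpow_mul, mul_comm]
      conv_lhs => rw [← zpow_one y, ← huv, zpow_add, mul_comm v,
        zpow_mul y ((p : ℤ) ^ l), ← Nat.cast_pow, zpow_natCast, hl, one_zpow, mul_one]
    exact hy (Subgroup.pow_mem _ (h2 ▸ zpow_mem h1 u) p)
  have hM : M = ⊤ := by
    obtain ⟨e, he⟩ := (h.isPGroup.to_subgroup M).exists_card_eq
    obtain ⟨e', he'⟩ := (h.isPGroup.to_subgroup (zpowers (y ^ p) ⊔ L G 2)).exists_card_eq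
    have h1 : Nat.card (L G 2) < Nat.card (zpowers (y ^ p) ⊔ L G 2 : Subgroup G) :=
      lt_of_not_ge fun hge => hlt.ne (eq_of_le_of_card_ge hlt.le hge)
    have h2 : Nat.card (zpowers (y ^ p) ⊔ L G 2 : Subgroup G) < Nat.card M :=
      lt_of_not_ge fun hge => hlt'.ne (eq_of_le_of_card_ge hlt'.le hge)
    rw [h.card_L le_rfl (by omega), he', Nat.pow_lt_pow_iff_right hp.one_lt] at h1
    rw [he', he, Nat.pow_lt_pow_iff_right hp.one_lt] at h2
    refine eq_of_le_of_card_ge le_top ?_
    rw [card_top, h.card, he]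
    exact Nat.pow_le_pow_right hp.pos (by omega)
  have hz : zpowers y = ⊤ := by
    refine frattini_nongenerating (eq_top_iff.2 ?_)
    rw [← hM]
    refine sup_le_sup_left ?_ _
    show (⊤ : Subgroup G).lowerCentralSeries 1 ≤ _
    rw [Subgroup.lowerCentralSeries_succ, Subgroup.lowerCentralSeries_zero]
    exact CfsgLib.PGroup.commutator_le_frattini h.isPGroup
  have : IsCyclic G := isCyclic_iff_exists_zpowers_eq_top.2 ⟨y, hz⟩
  exact CfsgLib.MaxClass.not_isMulCommutative_of_class h.card hn h.cls IsCyclic.isMulCommutative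

/-- A proper subgroup containing `γ_2` is generated by `γ_2` and any element outside it. -/
theorem Setting.eq_sup (h : Setting p n x) {W : Subgroup G} (hW : L G 2 ≤ W) (hne : W ≠ ⊤) {w : G}
    (hw : w ∈ W) (hw' : w ∉ L G 2) : zpowers w ⊔ L G 2 = W := by
  have hp : p.Prime := Fact.out
  have hn := h.three
  refine eq_of_le_of_card_ge (sup_le (zpowers_le.2 hw) hW) ?_
  obtain ⟨e, he⟩ := (h.isPGroup.to_subgroup W).exists_card_eq
  obtain ⟨e', he'⟩ := (h.isPGroup.to_subgroup (zpowers w ⊔ L G 2)).exists_card_eq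
  have hlt : L G 2 < zpowers w ⊔ L G 2 :=
    lt_of_le_of_ne le_sup_right fun e => hw' (e.ge (mem_sup_left (mem_zpowers _)))
  have h1 : Nat.card (L G 2) < Nat.card (zpowers w ⊔ L G 2 : Subgroup G) :=
    lt_of_not_ge fun hge => hlt.ne (eq_of_le_of_card_ge hlt.le hge)
  have h2 : Nat.card W < Nat.card G := by
    rw [← card_top (G := G)]
    exact lt_of_not_ge fun hge => hne (eq_of_le_of_card_ge le_top hge)
  rw [h.card_L le_rfl (by omega), he', Nat.pow_lt_pow_iff_right hp.one_lt] at h1
  rw [he, h.card, Nat.pow_lt_pow_iff_right hp.one_lt] at h2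
  rw [he, he']
  exact Nat.pow_le_pow_right hp.pos (by omega)

theorem Setting.eq_top_of_sup (h : Setting p n x) {H : Subgroup G} (hH : H ⊔ L G 2 = ⊤) : H = ⊤ :=
  frattini_nongenerating (eq_top_iff.2 (hH ▸ sup_le_sup_left (by
    show (⊤ : Subgroup G).lowerCentralSeries 1 ≤ _
    rw [Subgroup.lowerCentralSeries_succ, Subgroup.lowerCentralSeries_zero]
    exact CfsgLib.PGroup.commutator_le_frattini h.isPGroup) _))

theorem Setting.exists_pair (h : Setting p n x) :
    ∃ T : Finset G, T.card ≤ 2 ∧ closure (T : Set G) = ⊤ := by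
  classical
  by_cases hx : zpowers x ⊔ L G 2 = ⊤
  · refine ⟨{x}, by simp, ?_⟩
    rw [Finset.coe_singleton, ← zpowers_eq_closure]
    exact h.eq_top_of_sup hx
  obtain ⟨y, hy⟩ : ∃ y, y ∉ zpowers x ⊔ L G 2 := by
    by_contra hall
    push Not at hall
    exact hx (eq_top_iff.2 fun y _ => hall y)
  refine ⟨{x, y}, Finset.card_le_two, h.eq_top_of_sup ?_⟩
  by_contra hne
  set W := closure (({x, y} : Finset G) : Set G) ⊔ L G 2
  have h1 : zpowers x ⊔ L G 2 = W :=
    h.eq_sup le_sup_right hne (mem_sup_left (Subgroup.subset_closure (by simp))) h.notMem_two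
  exact hy (h1.ge (mem_sup_left (Subgroup.subset_closure (by simp))))

theorem Setting.gens (h : Setting p n x) (H : Subgroup G) :
    ∃ T : Finset G, T.card ≤ p ∧ closure (T : Set G) = H := by
  classical
  have hp : p.Prime := Fact.out
  by_cases hH2 : H ≤ L G 2
  · obtain ⟨T, hT, hTe⟩ := h.gens_two hH2
    exact ⟨T, by omega, hTe⟩
  by_cases htop : H ⊔ L G 2 = ⊤
  · obtain ⟨T, hT, hTe⟩ := h.exists_pair
    exact ⟨T, hT.trans hp.two_le, by rw [hTe, h.eq_top_of_sup htop]⟩
  obtain ⟨w, hwH, hw⟩ := SetLike.not_le_iff_exists.1 hH2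
  obtain ⟨T, hT, hTe⟩ := h.gens_two (K := H ⊓ L G 2) inf_le_right
  refine ⟨insert w T, (Finset.card_insert_le _ _).trans (by have := hp.two_le; omega), ?_⟩
  rw [Finset.coe_insert]
  refine le_antisymm (closure_le _ |>.2 ?_) fun y hy => ?_
  · rintro y (rfl | hy)
    · exact hwH
    · exact ((hTe ▸ Subgroup.subset_closure hy : y ∈ H ⊓ L G 2)).1
  obtain ⟨a, ha, z, hz, haz⟩ := mem_sup_of_normal_right.1
    ((h.eq_sup le_sup_right htop (mem_sup_left hwH) hw).ge (mem_sup_left hy))
  have hzH : z ∈ H := by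
    have : z = a⁻¹ * y := by rw [← haz, inv_mul_cancel_left]
    rw [this]; exact mul_mem (inv_mem (zpowers_le.2 hwH ha)) hy
  rw [← haz]
  refine mul_mem (zpowers_le.2 (Subgroup.subset_closure (Set.mem_insert _ _)) ha) ?_
  exact closure_mono (Set.subset_insert _ _) (hTe.ge ⟨hzH, hz⟩)

end CfsgLib.MaxClassSplit
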