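import Cfsg.Agent.Lib.PGroup.MaxClassSplit

/-!
# 3-groups of maximal class with a small centralizer of an element of order 3

If `n ≥ 5` the elements acting trivially on `γ_2 / γ_4` form a subgroup of index 3 acting trivially
on every `γ_j / γ_{j+2}`, and their cubes have depth exactly 3. Hence every subgroup needs at most
two generators.
-/

set_option autoImplicit false

namespace CfsgLib.MaxClassSplit

open Subgroup
open scoped commutatorElement

theorem mk_commute_iff {G : Type*} [Group G] {N : Subgroup G} [N.Normal] {a b : G} :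
    Commute (QuotientGroup.mk' N a) (QuotientGroup.mk' N b) ↔ ⁅a, b⁆ ∈ N := by
  rw [← commutatorElement_eq_one_iff_commute, ← map_commutatorElement]
  exact QuotientGroup.eq_one_iff _

theorem mk_central {G : Type*} [Group G] {k : ℕ} (hk : 1 ≤ k) {c : G} (hc : c ∈ L G k) (g : G) :
    Commute (QuotientGroup.mk' (L G (k + 1)) g) (QuotientGroup.mk' (L G (k + 1)) c) :=
  mk_commute_iff.2 (comm_left_mem hk g hc)

/-- A subgroup of order `p ^ j` needs at most `j` generators. -/
theorem gens_of_card {G : Type*} [Group G] [Finite G] {p : ℕ} [Fact p.Prime] (H : Subgroup G) {j : ℕ}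
    (hj : Nat.card H = p ^ j) : ∃ T : Finset G, T.card ≤ j ∧ closure (T : Set G) = H := by
  classical
  have hp : p.Prime := Fact.out
  suffices h : ∀ i, ∃ T : Finset G, closure (T : Set G) ≤ H ∧ T.card ≤ i ∧
      (closure (T : Set G) = H ∨ p ^ i ≤ Nat.card (closure (T : Set G))) by
    obtain ⟨T, hle, hT, h | h⟩ := h j
    · exact ⟨T, hT, h⟩
    · exact ⟨T, hT, eq_of_le_of_card_ge hle (hj.le.trans h)⟩
  intro i
  induction i with
  | zero =>
    exact ⟨∅, by simp, by simp, Or.inr (by rw [pow_zero]; exact Nat.card_pos)⟩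
  | succ i ih =>
    obtain ⟨T, hle, hT, h⟩ := ih
    by_cases he : closure (T : Set G) = H
    · exact ⟨T, hle, by omega, Or.inl he⟩
    obtain ⟨k, hkH, hk⟩ := SetLike.exists_of_lt (lt_of_le_of_ne hle he)
    have hle' : closure ((insert k T : Finset G) : Set G) ≤ H := by
      rw [closure_le, Finset.coe_insert]
      exact Set.insert_subset hkH ((closure_le _).1 hle)
    have hlt : closure (T : Set G) < closure ((insert k T : Finset G) : Set G) := by
      refine lt_of_le_of_ne (closure_mono (by simp)) fun e => hk (e.ge ?_)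
      exact Subgroup.subset_closure (by simp)
    refine ⟨_, hle', (Finset.card_insert_le _ _).trans (by omega), Or.inr ?_⟩
    obtain ⟨a, -, ha⟩ := (Nat.dvd_prime_pow hp).1 (hj ▸ card_dvd_of_le hle)
    obtain ⟨b, -, hb⟩ := (Nat.dvd_prime_pow hp).1 (hj ▸ card_dvd_of_le hle')
    have hc : Nat.card (closure (T : Set G)) < Nat.card (closure ((insert k T : Finset G) : Set G)) :=
      lt_of_not_ge fun hge => hlt.ne (eq_of_le_of_card_ge hlt.le hge)
    have h := h.resolve_left he
    rw [ha, hb, Nat.pow_lt_pow_iff_right hp.one_lt] at hc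
    rw [ha, Nat.pow_le_pow_iff_right hp.one_lt] at h
    rw [hb]
    exact Nat.pow_le_pow_right hp.pos (by omega)

variable {G : Type*} [Group G]

/-- The elements centralizing `γ_2` modulo `γ_4`. -/
def twoStep (G : Type*) [Group G] : Subgroup G :=
  (centralizer (((L G 2).map (QuotientGroup.mk' (L G 4))) : Set (G ⧸ L G 4))).comap
    (QuotientGroup.mk' (L G 4))

theorem mem_twoStep {y : G} : y ∈ twoStep G ↔ ∀ c ∈ L G 2, ⁅y, c⁆ ∈ L G 4 := by
  rw [twoStep, mem_comap, mem_centralizer_iff]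
  constructor
  · intro h c hc
    exact mk_commute_iff.1 (h _ ⟨c, hc, rfl⟩).symm
  · rintro h _ ⟨c, hc, rfl⟩
    exact (mk_commute_iff.2 (h c hc)).eq.symm

theorem le_twoStep : L G 2 ≤ twoStep G := fun _ hy =>
  mem_twoStep.2 fun _ hc => comm_mem_L (by norm_num) (by norm_num) hy hc

variable [Finite G] {n : ℕ} {x : G}

theorem Setting.exists_exact {p : ℕ} [Fact p.Prime] (h : Setting p n x) {j : ℕ} (hj : 2 ≤ j)
    (hjn : j < n) : ∃ g ∈ L G j, g ∉ L G (j + 1) := by
  refine SetLike.not_le_iff_exists.1 fun hle => ?_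
  have := card_dvd_of_le hle
  rw [h.card_L hj hjn.le, h.card_L (by omega) (by omega),
    Nat.pow_dvd_pow_iff_le_right (Fact.out : p.Prime).one_lt] at this
  omega

theorem Setting.notMem_twoStep {p : ℕ} [Fact p.Prime] (h : Setting p n x) (hn : 4 ≤ n) :
    x ∉ twoStep G := by
  obtain ⟨g, hg, hg'⟩ := h.exists_exact le_rfl (by omega)
  exact fun hx => h.shift le_rfl hn hg hg' (mem_twoStep.1 hx g hg)

theorem Setting.exists_decomp {p : ℕ} [Fact p.Prime] (h : Setting p n x) (hn : 4 ≤ n) (y : G) :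
    ∃ a : ℤ, (x ^ a)⁻¹ * y ∈ twoStep G := by
  obtain ⟨g, hg, hg'⟩ := h.exists_exact le_rfl (by omega)
  let π := QuotientGroup.mk' (L G 4)
  have he : ⁅x, g⁆ ∈ L G 3 := comm_left_mem (by norm_num) x hg
  have he' : ⁅x, g⁆ ∉ L G 4 := h.shift le_rfl hn hg hg'
  obtain ⟨a, ha⟩ := h.split (j := 3) (by norm_num) he he' (comm_left_mem (by norm_num) y hg)
  have hE : π ⁅y, g⁆ = π ⁅x, g⁆ ^ a := by
    rw [← map_zpow]
    exact (QuotientGroup.eq.2 ha).symm
  set E := π ⁅x, g⁆ with hEdef
  have hEc : ∀ u : G, Commute (π u) E := fun u => mk_central (by norm_num) he u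
  -- conjugation by `x ^ a` and by `y` multiply `g` by the same factor
  have hx : ∀ b : ℤ, π x ^ b * π g * (π x ^ b)⁻¹ = E ^ b * π g := by
    intro b
    induction b using Int.induction_on with
    | zero => rw [zpow_zero, zpow_zero]; group
    | succ b ih =>
      rw [zpow_add_one, zpow_add_one,
        show π x ^ (b : ℤ) * π x * π g * (π x ^ (b : ℤ) * π x)⁻¹ =
          π x ^ (b : ℤ) * (π x * π g * (π x)⁻¹ * (π g)⁻¹) * (π x ^ (b : ℤ))⁻¹ *
          (π x ^ (b : ℤ) * π g * (π x ^ (b : ℤ))⁻¹) by group, ih,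
        show π x * π g * (π x)⁻¹ * (π g)⁻¹ = E from (map_commutatorElement π x g).symm,
        ((hEc x).zpow_left (b : ℤ)).eq, mul_inv_cancel_right, ← mul_assoc, ← zpow_one_add, add_comm,
        zpow_add_one]
    | pred b ih =>
      have e1 : (π x)⁻¹ * π g * π x = E⁻¹ * π g := by
        have e2 : π x * π g * (π x)⁻¹ = E * π g := by
          rw [hEdef, map_commutatorElement, commutatorElement_def, inv_mul_cancel_right]
        have e3 : π x * (E⁻¹ * π g) = π g * π x := by
          calc π x * (E⁻¹ * π g) = E⁻¹ * (π x * π g * (π x)⁻¹) * π x := by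
                rw [← mul_assoc, (hEc x).inv_right.eq]; group
            _ = π g * π x := by rw [e2, inv_mul_cancel_left]
        calc (π x)⁻¹ * π g * π x = (π x)⁻¹ * (π x * (E⁻¹ * π g)) := by rw [e3]; group
          _ = E⁻¹ * π g := by group
      rw [zpow_sub_one, zpow_sub_one,
        show π x ^ (-(b : ℤ)) * (π x)⁻¹ * π g * (π x ^ (-(b : ℤ)) * (π x)⁻¹)⁻¹ =
          π x ^ (-(b : ℤ)) * ((π x)⁻¹ * π g * π x * (π g)⁻¹) * (π x ^ (-(b : ℤ)))⁻¹ *
          (π x ^ (-(b : ℤ)) * π g * (π x ^ (-(b : ℤ)))⁻¹) by group, ih, e1, mul_inv_cancel_right,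
        ((hEc x).inv_right.zpow_left (-(b : ℤ))).eq, mul_inv_cancel_right, ← mul_assoc,
        ((Commute.refl E).inv_left.zpow_right (-(b : ℤ))).eq]
  have hy : π y * π g * (π y)⁻¹ = E ^ a * π g := by
    rw [← hE, map_commutatorElement, commutatorElement_def, inv_mul_cancel_right]
  have hc : Commute (π ((x ^ a)⁻¹ * y)) (π g) := by
    rw [map_mul, map_inv, map_zpow]
    show (π x ^ a)⁻¹ * π y * π g = π g * ((π x ^ a)⁻¹ * π y)
    calc (π x ^ a)⁻¹ * π y * π g = (π x ^ a)⁻¹ * (π y * π g * (π y)⁻¹) * π y := by group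
      _ = (π x ^ a)⁻¹ * (π x ^ a * π g * (π x ^ a)⁻¹) * π y := by rw [hy, hx]
      _ = π g * ((π x ^ a)⁻¹ * π y) := by group
  refine ⟨a, mem_twoStep.2 fun c hc' => ?_⟩
  obtain ⟨b, hb⟩ := h.split le_rfl hg hg' hc'
  have h2 := (hc.zpow_right b).mul_right (mk_central (k := 3) (by norm_num) hb _)
  rw [← map_zpow, ← map_mul, mul_inv_cancel_left] at h2
  exact mk_commute_iff.1 h2

theorem Setting.comm_two {p : ℕ} [Fact p.Prime] (h : Setting p n x) (hn : 5 ≤ n) {a b : G}
    (ha : a ∈ L G 2) (hb : b ∈ L G 2) : ⁅a, b⁆ ∈ L G 5 := by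
  obtain ⟨g, hg, hg'⟩ := h.exists_exact le_rfl (by omega)
  let π := QuotientGroup.mk' (L G 5)
  obtain ⟨i, hi⟩ := h.split le_rfl hg hg' ha
  obtain ⟨j, hj⟩ := h.split le_rfl hg hg' hb
  have h3 : ∀ c ∈ L G 3, ∀ d ∈ L G 2, Commute (π c) (π d) := fun c hc d hd =>
    mk_commute_iff.2 (comm_mem_L (i := 3) (j := 2) (by norm_num) (by norm_num) hc hd)
  rw [show a = g ^ i * ((g ^ i)⁻¹ * a) by group, show b = g ^ j * ((g ^ j)⁻¹ * b) by group]
  refine mk_commute_iff.1 ?_
  rw [map_mul _ (g ^ i), map_mul _ (g ^ j), map_zpow, map_zpow]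
  exact (Commute.mul_right ((Commute.refl (π g)).zpow_zpow i j)
    ((h3 _ hj g hg).symm.zpow_left i)).mul_left
    (((h3 _ hi g hg).zpow_right j).mul_right (h3 _ hi _ (L_anti (by norm_num) hj)))

variable [Fact (Nat.Prime 3)] (h : Setting 3 n x)

include h

theorem Setting.comm_twoStep (hn : 5 ≤ n) {t : G} (ht : t ∈ twoStep G) :
    ∀ j, 2 ≤ j → ∀ c ∈ L G j, ⁅t, c⁆ ∈ L G (j + 2) := by
  intro j
  induction j using Nat.strong_induction_on with
  | _ j ih =>
  intro hj c hc
  rcases (show j = 2 ∨ j = 3 ∨ 4 ≤ j by omega) with rfl | rfl | hj4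
  · exact mem_twoStep.1 ht c hc
  · obtain ⟨g, hg, hg'⟩ := h.exists_exact le_rfl (by omega)
    let π := QuotientGroup.mk' (L G 5)
    have he : ⁅x, g⁆ ∈ L G 3 := comm_left_mem (by norm_num) x hg
    obtain ⟨b, hb⟩ := h.split (j := 3) (by norm_num) he (h.shift le_rfl (by omega) hg hg') hc
    have hd := mem_twoStep.1 ht g hg
    have hcx : ⁅t, x⁆ ∈ L G 2 := comm_left_mem (j := 1) le_rfl t (by rw [L_one]; exact mem_top x)
    have hE : Commute (π t) (π ⁅x, g⁆) := by
      have hD : ∀ u, Commute u (π ⁅t, g⁆) := fun u => by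
        obtain ⟨u, rfl⟩ := QuotientGroup.mk'_surjective _ u
        exact mk_central (k := 4) (by norm_num) hd u
      have hCg : Commute (π ⁅t, x⁆) (π g) := mk_commute_iff.2 (h.comm_two hn hcx hg)
      have hCe : Commute (π ⁅t, x⁆) (π ⁅x, g⁆) :=
        mk_commute_iff.2 (comm_mem_L (i := 2) (j := 3) (by norm_num) (by norm_num) hcx he)
      have e1 : t * ⁅x, g⁆ * t⁻¹ = ⁅⁅t, x⁆ * x, ⁅t, g⁆ * g⁆ := by
        simp only [commutatorElement_def]; group
      set C := π ⁅t, x⁆
      set D := π ⁅t, g⁆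
      set X := π x
      set Y := π g
      have e2 : π (t * ⁅x, g⁆ * t⁻¹) = π ⁅x, g⁆ := by
        rw [e1, map_commutatorElement, map_mul, map_mul, commutatorElement_def]
        calc C * X * (D * Y) * (C * X)⁻¹ * (D * Y)⁻¹
            = (C * X * D) * Y * X⁻¹ * C⁻¹ * Y⁻¹ * D⁻¹ := by group
          _ = D * ((C * X) * Y * X⁻¹ * C⁻¹ * Y⁻¹) * D⁻¹ := by rw [(hD (C * X)).eq]; group
          _ = (C * X) * Y * X⁻¹ * C⁻¹ * Y⁻¹ := by rw [← (hD _).eq, mul_inv_cancel_right]
          _ = C * (X * Y * X⁻¹ * Y⁻¹) * (Y * C⁻¹ * Y⁻¹) := by group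
          _ = C * ⁅X, Y⁆ * C⁻¹ := by
              rw [← hCg.inv_left.eq, mul_inv_cancel_right, commutatorElement_def]
          _ = π ⁅x, g⁆ := by
              rw [← map_commutatorElement, hCe.eq, mul_inv_cancel_right]
      rw [map_mul, map_mul, map_inv, mul_inv_eq_iff_eq_mul] at e2
      exact e2
    have h2 := (hE.zpow_right b).mul_right (mk_central (k := 4) (by norm_num) hb t)
    rw [← map_zpow, ← map_mul, mul_inv_cancel_left] at h2
    exact mk_commute_iff.1 h2
  · rcases le_or_gt n j with hnj | hjn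
    · rw [h.L_eq_bot hnj, mem_bot] at hc
      rw [hc, commutatorElement_one_right]
      exact one_mem _
    obtain ⟨i, rfl⟩ : ∃ i, j = i + 2 := ⟨j - 2, by omega⟩
    obtain ⟨g, hg, hg'⟩ := h.exists_exact (show 2 ≤ i by omega) (by omega)
    have hg3 : g ^ 3 ∈ L G (i + 2) := h.pow_mem (by omega) hg
    have hg3' : g ^ 3 ∉ L G (i + 2 + 1) := h.pow_notMem (by omega) (by omega) hg hg'
    obtain ⟨b, hb⟩ := h.split hj hg3 hg3' hc
    let π := QuotientGroup.mk' (L G (i + 2 + 2))
    have hd : ⁅t, g⁆ ∈ L G (i + 2) := ih i (by omega) (by omega) g hg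
    have hC : Commute (π ⁅t, g⁆) (π g) :=
      mk_commute_iff.2 (L_anti (by omega) (comm_mem_L (i := i + 2) (j := i) (by omega) (by omega) hd hg))
    have hC3 : π ⁅t, g⁆ ^ 3 = 1 := by
      rw [← map_pow]
      exact (QuotientGroup.eq_one_iff _).2 (h.pow_mem (by omega) hd)
    have hE : Commute (π t) (π (g ^ 3)) := by
      have e1 : π t * π g * (π t)⁻¹ = π ⁅t, g⁆ * π g := by
        rw [map_commutatorElement, commutatorElement_def, inv_mul_cancel_right]
      have e2 := congrArg (· ^ 3) e1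
      rw [conj_pow, hC.mul_pow, hC3, one_mul, mul_inv_eq_iff_eq_mul, ← map_pow] at e2
      exact e2
    have h2 := (hE.zpow_right b).mul_right
      (mk_central (k := i + 2 + 1) (by omega) hb t)
    rw [← map_zpow, ← map_mul, mul_inv_cancel_left] at h2
    exact mk_commute_iff.1 h2

/-- Commutation with an element outside `twoStep` moves `γ_j` exactly one step. -/
theorem Setting.shift_of_notMem (hn : 5 ≤ n) {U : G} (hU : U ∉ twoStep G) {j : ℕ} (hj : 2 ≤ j)
    (hjn : j + 2 ≤ n) {g : G} (hg : g ∈ L G j) (hg' : g ∉ L G (j + 1)) : ⁅U, g⁆ ∉ L G (j + 2) := by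
  intro hc
  obtain ⟨a, ha⟩ := h.exists_decomp (by omega) U
  have ha3 : ¬ (3 : ℤ) ∣ a := by
    rintro ⟨b, rfl⟩
    rw [zpow_mul, zpow_ofNat, h.pow, one_zpow, inv_one, one_mul] at ha
    exact hU ha
  obtain ⟨u, v, huv⟩ := (Int.prime_three.coprime_iff_not_dvd).2 ha3
  have h1 : Commute (QuotientGroup.mk' (L G (j + 2)) (x ^ a)) (QuotientGroup.mk' (L G (j + 2)) g) := by
    have h2 := (mk_commute_iff.2 hc).mul_left
      (mk_commute_iff.2 (h.comm_twoStep hn ha j hj g hg)).inv_left
    rwa [← map_inv, ← map_mul, show U * ((x ^ a)⁻¹ * U)⁻¹ = x ^ a by group] at h2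
  have h3 := h1.zpow_left v
  rw [← map_zpow, ← zpow_mul, show a * v = 1 + 3 * -u by linarith [huv], zpow_add, zpow_one, zpow_mul,
    zpow_ofNat, h.pow, one_zpow, mul_one] at h3
  exact h.shift hj hjn hg hg' (mk_commute_iff.1 h3)

/-- Cubes of elements of `twoStep` outside `γ_2` have depth exactly 3. -/
theorem Setting.cube_twoStep (hn : 5 ≤ n) {t : G} (ht : t ∈ twoStep G) (ht2 : t ∉ L G 2) :
    t ^ 3 ∈ L G 3 ∧ t ^ 3 ∉ L G 4 := by
  have hx := h.notMem_twoStep (by omega)
  have hU : t * x ∉ twoStep G := fun hU => hx (by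
    have := mul_mem (inv_mem ht) hU
    rwa [inv_mul_cancel_left] at this)
  have hUp : (t * x) ^ 3 ∈ L G 4 := by
    have key : ∀ i, 2 ≤ i → i ≤ n - 1 → (t * x) ^ 3 ∈ L G i := by
      intro i hi
      induction i, hi using Nat.le_induction with
      | base => intro _; exact h.pow_mem_two _
      | succ i hi ih =>
        intro hin
        by_contra hni
        refine h.shift_of_notMem hn hU hi (by omega) (ih (by omega)) hni ?_
        rw [commutatorElement_eq_one_iff_commute.2 ((Commute.refl (t * x)).pow_right 3)]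
        exact one_mem _
    exact L_anti (by omega) (key (n - 1) (by omega) le_rfl)
  set c := ⁅x, t⁆ with hcdef
  have hc : c ∈ L G 2 := comm_left_mem (j := 1) le_rfl x (by rw [L_one]; exact mem_top t)
  have hc' : c ∉ L G 3 := by
    intro hc3
    let π := QuotientGroup.mk' (L G 3)
    have hxt : Commute (π x) (π t) := mk_commute_iff.2 hc3
    have hT : twoStep G = zpowers t ⊔ L G 2 :=
      (h.eq_sup le_twoStep (fun e => hx (e ▸ mem_top x)) ht ht2).symm
    have hall : ∀ K : Subgroup G, x ∈ K → t ∈ K → L G 2 ≤ K → K = ⊤ := fun K h1 h2 h3 => by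
      refine eq_top_iff.2 fun y _ => ?_
      obtain ⟨a, ha⟩ := h.exists_decomp (by omega) y
      rw [hT] at ha
      have := mul_mem (zpow_mem h1 a) ((sup_le (zpowers_le.2 h2) h3) ha)
      rwa [mul_inv_cancel_left] at this
    have hcent2 : ∀ d ∈ L G 2, ∀ u, Commute (π u) (π d) := fun d hd u =>
      mk_central (k := 2) (by norm_num) hd u
    have hcen : ∀ u ∈ ({x, t} : Set G), π u ∈ center (G ⧸ L G 3) := by
      intro u hu
      have := hall ((centralizer ({π u} : Set (G ⧸ L G 3))).comap π)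
        (mem_centralizer_singleton_iff.2 (by
          rcases hu with rfl | rfl
          · rfl
          · exact hxt.eq))
        (mem_centralizer_singleton_iff.2 (by
          rcases hu with rfl | rfl
          · exact hxt.eq.symm
          · rfl))
        fun d hd => mem_centralizer_singleton_iff.2 (hcent2 d hd u).eq.symm
      refine mem_center_iff.2 fun q => ?_
      obtain ⟨q, rfl⟩ := QuotientGroup.mk'_surjective _ q
      exact mem_centralizer_singleton_iff.1 (this.ge (mem_top q))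
    have htop := hall ((center (G ⧸ L G 3)).comap π) (hcen x (by simp)) (hcen t (by simp))
      fun d hd => mem_center_iff.2 fun q => by
        obtain ⟨q, rfl⟩ := QuotientGroup.mk'_surjective _ q
        exact (hcent2 d hd q).eq
    have hle : L G 2 ≤ L G 3 := by
      show (⊤ : Subgroup G).lowerCentralSeries 1 ≤ _
      rw [Subgroup.lowerCentralSeries_succ, Subgroup.lowerCentralSeries_zero, commutator_le]
      exact fun a _ b _ => mk_commute_iff.1
        (show Commute (π a) (π b) from (mem_center_iff.1 (htop.ge (mem_top a)) (π b)).symm)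
    obtain ⟨g, hg, hg'⟩ := h.exists_exact le_rfl (by omega : 2 < n)
    exact hg' (hle hg)
  have hd : ⁅x, c⁆ ∈ L G 3 := comm_left_mem (by norm_num) x hc
  have hd' : ⁅x, c⁆ ∉ L G 4 := h.shift le_rfl (by omega) hc hc'
  let π := QuotientGroup.mk' (L G 4)
  have hkey : π (t ^ 3) * π ⁅x, c⁆ = 1 := by
    have hTC : Commute (π t) (π c) := mk_commute_iff.2 (mem_twoStep.1 ht c hc)
    have hD : ∀ u, Commute u (π ⁅x, c⁆) := fun u => by
      obtain ⟨u, rfl⟩ := QuotientGroup.mk'_surjective _ u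
      exact mk_central (k := 3) (by norm_num) hd u
    have hC3 : π c * π c * π c = 1 := by
      rw [← map_mul, ← map_mul, ← pow_three']
      exact (QuotientGroup.eq_one_iff _).2 (h.pow_mem le_rfl hc)
    have hX3 : π x * π x * π x = 1 := by
      rw [← map_mul, ← map_mul, ← pow_three', h.pow, map_one]
    have e1 : π x * π t * (π x)⁻¹ = π c * π t := by
      rw [hcdef, map_commutatorElement, commutatorElement_def, inv_mul_cancel_right]
    have e2 : π x * π c * (π x)⁻¹ = π ⁅x, c⁆ * π c := by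
      rw [map_commutatorElement π x c, commutatorElement_def, inv_mul_cancel_right]
    have e3 : π x * π x * π t * (π x)⁻¹ * (π x)⁻¹ = π ⁅x, c⁆ * π c * (π c * π t) := by
      calc _ = π x * (π x * π t * (π x)⁻¹) * (π x)⁻¹ := by group
        _ = (π x * π c * (π x)⁻¹) * (π x * π t * (π x)⁻¹) := by conv_lhs => rw [e1]
                                                                group
        _ = _ := by rw [e1, e2]
    have h1 : π ((t * x) ^ 3) = 1 := (QuotientGroup.eq_one_iff _).2 hUp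
    calc π (t ^ 3) * π ⁅x, c⁆
        = π t * (π t * (π c * π c * π c)) * π t * π ⁅x, c⁆ := by
          rw [hC3, mul_one, map_pow, pow_succ, pow_succ, pow_one]
      _ = π t * (π t * π c) * (π c * π c * π t * π ⁅x, c⁆) := by group
      _ = π t * (π c * π t) * (π ⁅x, c⁆ * π c * (π c * π t)) := by
          rw [hTC.eq, (hD (π c * π c * π t)).eq]; group
      _ = π t * (π x * π t * (π x)⁻¹) * (π x * π x * π t * (π x)⁻¹ * (π x)⁻¹) *
            (π x * π x * π x) := by rw [e1, e3, hX3, mul_one]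
      _ = π ((t * x) ^ 3) := by rw [map_pow, map_mul, pow_three']; group
      _ = 1 := h1
  have hkey' : t ^ 3 * ⁅x, c⁆ ∈ L G 4 := (QuotientGroup.eq_one_iff _).1 ((map_mul π _ _).trans hkey)
  exact ⟨(mul_mem_cancel_right hd).1 (L_anti (by norm_num) hkey'),
    fun h4 => hd' ((mul_mem_cancel_left h4).1 hkey')⟩

/-- Every subgroup of a 3-group as above of order at least `3 ^ 5` needs at most two generators. -/
theorem Setting.gens_three (hn : 5 ≤ n) (H : Subgroup G) :
    ∃ T : Finset G, T.card ≤ 2 ∧ closure (T : Set G) = H := by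
  classical
  by_cases hH2 : H ≤ L G 2
  · obtain ⟨T, hT, hTe⟩ := h.gens_two hH2
    exact ⟨T, hT.trans (by norm_num), hTe⟩
  by_cases htop : H ⊔ L G 2 = ⊤
  · obtain ⟨T, hT, hTe⟩ := h.exists_pair
    exact ⟨T, hT, by rw [hTe, h.eq_top_of_sup htop]⟩
  obtain ⟨w, hwH, hw⟩ := SetLike.not_le_iff_exists.1 hH2
  have done : ∀ k ∈ H, (∀ i, 2 ≤ i → ∀ u ∈ H, u ∈ L G i → u ∉ L G (i + 1) →
      ∃ t ∈ closure ({w, k} : Set G), t ∈ L G i ∧ t ∉ L G (i + 1)) →
      ∃ T : Finset G, T.card ≤ 2 ∧ closure (T : Set G) = H := by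
    intro k hk hlead
    have hle : closure ({w, k} : Set G) ≤ H := (closure_le _).2 (by
      rintro y (rfl | rfl)
      exacts [hwH, hk])
    refine ⟨{w, k}, Finset.card_le_two, ?_⟩
    rw [Finset.coe_pair]
    refine le_antisymm hle fun y hy => ?_
    obtain ⟨a, ha, z, hz, haz⟩ := mem_sup_of_normal_right.1
      ((h.eq_sup le_sup_right htop (mem_sup_left hwH) hw).ge (mem_sup_left hy))
    have hzH : z ∈ H := by
      have : z = a⁻¹ * y := by rw [← haz, inv_mul_cancel_left]
      rw [this]; exact mul_mem (inv_mem (zpowers_le.2 hwH ha)) hy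
    rw [← haz]
    exact mul_mem (zpowers_le.2 (Subgroup.subset_closure (Set.mem_insert _ _)) ha)
      (h.le_of_leads hle hlead ⟨hzH, hz⟩)
  by_cases hwT : w ∈ twoStep G
  · obtain ⟨h3, h3'⟩ := h.cube_twoStep hn hwT hw
    let P : ℕ → Prop := fun i => Even i ∧ 2 ≤ i ∧ ∃ u ∈ H, u ∈ L G i ∧ u ∉ L G (i + 1)
    have hodd : ∀ k i, 2 ≤ i → ¬ Even i → i < n →
        ∃ t ∈ closure ({w, k} : Set G), t ∈ L G i ∧ t ∉ L G (i + 1) := by
      intro k i hi hodd hin
      obtain ⟨q, rfl⟩ := Nat.not_even_iff_odd.1 hodd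
      obtain ⟨e, he, he'⟩ := h.exists_pow_lead (m := 3) (by norm_num) h3 h3' (q - 1) (by omega)
      refine ⟨(w ^ 3) ^ e, Subgroup.pow_mem _ (Subgroup.pow_mem _
        (Subgroup.subset_closure (Set.mem_insert _ _)) 3) e, L_anti (i := 2 * q + 1) (j := 3 + (q - 1) * (3 - 1)) (by omega) he,
        fun hm => ?_⟩
      exact he' (L_anti (i := 3 + (q - 1) * (3 - 1) + 1) (j := 2 * q + 1 + 1) (by omega) hm)
    by_cases hP : ∃ i, P i
    · obtain ⟨hm, hm2, k, hk, hkm, hkm'⟩ := Nat.find_spec hP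
      refine done k hk fun i hi u hu hui hui' => ?_
      have hin := h.lt_of_notMem hui hui'
      by_cases hev : Even i
      · have hmi := Nat.find_min' hP ⟨hev, hi, u, hu, hui, hui'⟩
        obtain ⟨a, ha⟩ := hm
        obtain ⟨b, hb⟩ := hev
        obtain ⟨e, he, he'⟩ := h.exists_pow_lead hm2 hkm hkm' (b - a) (by omega)
        have hkK : k ∈ closure ({w, k} : Set G) :=
          Subgroup.subset_closure (Set.mem_insert_of_mem _ (Set.mem_singleton k))
        have hkeK : k ^ e ∈ closure ({w, k} : Set G) := Subgroup.pow_mem _ hkK e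
        refine ⟨k ^ e, hkeK,
          L_anti (i := i) (j := Nat.find hP + (b - a) * (3 - 1)) (by omega) he, fun hx' => ?_⟩
        exact he' (L_anti (i := Nat.find hP + (b - a) * (3 - 1) + 1) (j := i + 1) (by omega) hx')
      · exact hodd k i hi hev hin
    · refine done 1 (one_mem _) fun i hi u hu hui hui' => ?_
      exact hodd 1 i hi (fun hev => hP ⟨i, hev, hi, u, hu, hui, hui'⟩) (h.lt_of_notMem hui hui')
  · let P : ℕ → Prop := fun i => 2 ≤ i ∧ ∃ u ∈ H, u ∈ L G i ∧ u ∉ L G (i + 1)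
    by_cases hP : ∃ i, P i
    · obtain ⟨hm2, k, hk, hkm, hkm'⟩ := Nat.find_spec hP
      have key : ∀ i, Nat.find hP ≤ i → i < n →
          ∃ t ∈ closure ({w, k} : Set G), t ∈ L G i ∧ t ∉ L G (i + 1) := by
        intro i hi
        induction i, hi using Nat.le_induction with
        | base => intro _; exact ⟨k, Subgroup.subset_closure (Set.mem_insert_of_mem _ rfl), hkm, hkm'⟩
        | succ i hi ih =>
          intro hin
          obtain ⟨t, htK, ht, ht'⟩ := ih (by omega)
          have hwK : w ∈ closure ({w, k} : Set G) := Subgroup.subset_closure (Set.mem_insert _ _)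
          refine ⟨⁅w, t⁆, ?_, comm_left_mem (by omega) w ht,
            h.shift_of_notMem hn hwT (by omega) (by omega) ht ht'⟩
          rw [commutatorElement_def]
          exact mul_mem (mul_mem (mul_mem hwK htK) (inv_mem hwK)) (inv_mem htK)
      exact done k hk fun i hi u hu hui hui' =>
        key i (Nat.find_min' hP ⟨hi, u, hu, hui, hui'⟩) (h.lt_of_notMem hui hui')
    · exact done 1 (one_mem _) fun i hi u hu hui hui' => absurd ⟨i, hi, u, hu, hui, hui'⟩ hP

end CfsgLib.MaxClassSplit
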