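import Cfsg.Agent.Lib.PGroup.MaxClassThree
import Mathlib.GroupTheory.NoncommCoprod
import Mathlib.GroupTheory.GroupAction.Quotient

/-!
# 3-groups of maximal class of order 81: two generators or `C_3 ≀ C_3`
-/

set_option autoImplicit false

namespace CfsgLib.MaxClassSplit

open Subgroup
open scoped commutatorElement

/-- Two commuting elements killed by `p` generate at most `p ^ 2` elements. -/
theorem card_closure_pair_le {G : Type*} [Group G] [Finite G] {p : ℕ} [Fact p.Prime] {a b : G}
    (hab : Commute a b) (ha : a ^ p = 1) (hb : b ^ p = 1) :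
    Nat.card (closure ({a, b} : Set G)) ≤ p * p := by
  have hp : p.Prime := Fact.out
  let f := MonoidHom.noncommCoprod (zpowers a).subtype (zpowers b).subtype fun u v => by
    obtain ⟨i, hi⟩ := mem_zpowers_iff.1 u.2
    obtain ⟨j, hj⟩ := mem_zpowers_iff.1 v.2
    show Commute (u : G) (v : G)
    rw [← hi, ← hj]
    exact hab.zpow_zpow i j
  have hle : closure ({a, b} : Set G) ≤ f.range := by
    rw [MonoidHom.noncommCoprod_range, Subgroup.range_subtype, Subgroup.range_subtype, closure_le]
    rintro y (rfl | rfl)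
    · exact mem_sup_left (mem_zpowers _)
    · exact mem_sup_right (mem_zpowers _)
  refine (Nat.le_of_dvd Nat.card_pos (card_dvd_of_le hle)).trans ?_
  refine (Nat.card_le_card_of_surjective f.rangeRestrict f.rangeRestrict_surjective).trans ?_
  rw [Nat.card_prod, Nat.card_zpowers, Nat.card_zpowers]
  exact Nat.mul_le_mul (Nat.le_of_dvd hp.pos (orderOf_dvd_of_pow_eq_one ha))
    (Nat.le_of_dvd hp.pos (orderOf_dvd_of_pow_eq_one hb))

/-- A group of order 81 acting faithfully on 9 cosets is a Sylow 3-subgroup of `Sym(9)`. -/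
theorem exists_sylow_perm_nine {G : Type*} [Group G] [Finite G] [Fact (Nat.Prime 3)]
    (hG : Nat.card G = 3 ^ 4) (B : Subgroup G) (hB : Nat.card B = 9) (hcore : B.normalCore = ⊥) :
    ∃ W : Sylow 3 (Equiv.Perm (Fin 9)),
      Nonempty (G ≃* (W : Subgroup (Equiv.Perm (Fin 9)))) := by
  have hidx : Nat.card (G ⧸ B) = 9 := by
    have := card_eq_card_quotient_mul_card_subgroup B
    rw [hG, hB] at this
    omega
  let e : (G ⧸ B) ≃ Fin 9 := Finite.equivFinOfCardEq hidx
  let f : G →* Equiv.Perm (Fin 9) :=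
    e.permCongrHom.toMonoidHom.comp (MulAction.toPermHom G (G ⧸ B))
  have hf : Function.Injective f := by
    refine e.permCongrHom.injective.comp ((MonoidHom.ker_eq_bot_iff _).1 ?_)
    rw [← Subgroup.normalCore_eq_ker, hcore]
  have hr : Nat.card f.range = 3 ^ 4 := by
    rw [← Nat.card_congr (MonoidHom.ofInjective hf).toEquiv, hG]
  obtain ⟨W, hW⟩ := (IsPGroup.of_card hr).exists_le_sylow
  have hWeq : f.range = (W : Subgroup (Equiv.Perm (Fin 9))) := by
    refine eq_of_le_of_card_ge hW ?_
    obtain ⟨k, hk⟩ := W.2.exists_card_eq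
    have hdvd := (W : Subgroup (Equiv.Perm (Fin 9))).card_subgroup_dvd_card
    rw [hk, Nat.card_perm, Nat.card_fin] at hdvd
    rw [hk, hr]
    refine Nat.pow_le_pow_right (by norm_num) ?_
    by_contra h5
    have h3 := (pow_dvd_pow 3 (show 5 ≤ k by omega)).trans hdvd
    norm_num [Nat.factorial] at h3
  exact ⟨W, ⟨(MonoidHom.ofInjective hf).trans (MulEquiv.subgroupCongr hWeq)⟩⟩

variable {G : Type*} [Group G] [Finite G] [Fact (Nat.Prime 3)] {n : ℕ} {x : G}

theorem Setting.center_le_of_normal (h : Setting 3 n x) (N : Subgroup G) [hNn : N.Normal]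
    (hN : N ≠ ⊥) : center G ≤ N := by
  have key : ∀ d i, n ≤ i + d → 1 ≤ i → ∀ k ∈ N, k ∈ L G i → k ≠ 1 →
      ∃ z ∈ N, z ∈ center G ∧ z ≠ 1 := by
    intro d
    induction d with
    | zero =>
      intro i hi _ k _ hk hk1
      rw [h.L_eq_bot (by omega), mem_bot] at hk
      exact absurd hk hk1
    | succ d ih =>
      intro i hi hi1 k hkN hk hk1
      by_cases hc : k ∈ center G
      · exact ⟨k, hkN, hc, hk1⟩
      obtain ⟨g, hg⟩ := not_forall.1 fun hall => hc (mem_center_iff.2 hall)
      refine ih (i + 1) (by omega) (by omega) ⁅g, k⁆ ?_ (comm_left_mem hi1 g hk)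
        fun e => hg (commutatorElement_eq_one_iff_mul_comm.1 e)
      rw [commutatorElement_def]
      exact N.mul_mem (hNn.conj_mem k hkN g) (N.inv_mem hkN)
  obtain ⟨k, hk, hk1⟩ := (bot_or_exists_ne_one N).resolve_left hN
  obtain ⟨z, hzN, hzC, hz1⟩ := key n 1 (by omega) le_rfl k hk (by rw [L_one]; exact mem_top k) hk1
  obtain ⟨hZ, -, -⟩ := CfsgLib.MaxClass.center_of_class h.card h.three h.cls
  have hz3 : z ^ 3 = 1 := by
    have := congrArg Subtype.val (pow_card_eq_one' (G := center G) (x := ⟨z, hzC⟩))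
    rwa [hZ] at this
  have : zpowers z = center G := eq_of_le_of_card_ge (zpowers_le.2 hzC)
    (by rw [hZ, Nat.card_zpowers, orderOf_eq_prime hz3 hz1])
  exact this ▸ zpowers_le.2 hzN

theorem Setting.gens_or_wreath (h : Setting 3 n x) (hn : 4 ≤ n) :
    (∀ H : Subgroup G, ∃ T : Finset G, T.card ≤ 2 ∧ closure (T : Set G) = H) ∨
      ∃ W : Sylow 3 (Equiv.Perm (Fin 9)),
        Nonempty (G ≃* (W : Subgroup (Equiv.Perm (Fin 9)))) := by
  classical
  rcases (show n = 4 ∨ 5 ≤ n by omega) with rfl | h5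
  swap
  · exact Or.inl (h.gens_three h5)
  by_cases hall : ∀ H : Subgroup G, Nat.card H = 27 →
      ∃ T : Finset G, T.card ≤ 2 ∧ closure (T : Set G) = H
  · left
    intro H
    obtain ⟨j, hj4, hj⟩ := (Nat.dvd_prime_pow Nat.prime_three).1 (h.card ▸ H.card_subgroup_dvd_card)
    interval_cases j
    · obtain ⟨T, hT, hTe⟩ := gens_of_card H hj; exact ⟨T, by omega, hTe⟩
    · obtain ⟨T, hT, hTe⟩ := gens_of_card H hj; exact ⟨T, by omega, hTe⟩
    · exact gens_of_card H hj
    · exact hall H (by rw [hj]; norm_num)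
    · obtain ⟨T, hT, hTe⟩ := h.exists_pair
      exact ⟨T, hT, by rw [hTe, eq_top_of_card_eq H (hj.trans h.card.symm)]⟩
  right
  push Not at hall
  obtain ⟨A, hA, hAg⟩ := hall
  have hpair : ∀ a ∈ A, ∀ b ∈ A, 27 ≤ Nat.card (closure ({a, b} : Set G)) → False := by
    intro a ha b hb hc
    refine hAg {a, b} Finset.card_le_two ?_
    rw [Finset.coe_pair]
    refine eq_of_le_of_card_ge ((closure_le _).2 ?_) (hA.le.trans hc)
    rintro y (rfl | rfl)
    exacts [ha, hb]
  have hlt : ∀ {K M : Subgroup G}, K < M → 3 * Nat.card K ≤ Nat.card M := by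
    intro K M hKM
    obtain ⟨i, hi⟩ := (h.isPGroup.to_subgroup K).exists_card_eq
    obtain ⟨j, hj⟩ := (h.isPGroup.to_subgroup M).exists_card_eq
    have hc : Nat.card K < Nat.card M :=
      lt_of_not_ge fun hge => hKM.ne (eq_of_le_of_card_ge hKM.le hge)
    rw [hi, hj, Nat.pow_lt_pow_iff_right (by norm_num)] at hc
    rw [hi, hj, ← pow_succ']
    exact Nat.pow_le_pow_right (by norm_num) (by omega)
  have hexp : ∀ a ∈ A, a ^ 3 = 1 := by
    intro a ha
    by_contra ha3
    obtain ⟨i, hi⟩ := (Nat.dvd_prime_pow Nat.prime_three).1 (h.card ▸ orderOf_dvd_natCard a)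
    have h2 : 2 ≤ i := by
      by_contra h2
      refine ha3 (orderOf_dvd_iff_pow_eq_one.1 (hi.2 ▸ ?_))
      exact (pow_dvd_pow 3 (by omega : i ≤ 1)).trans (by norm_num)
    have h9 : 9 ≤ Nat.card (zpowers a) := by
      rw [Nat.card_zpowers, hi.2]
      exact le_trans (by norm_num) (Nat.pow_le_pow_right (by norm_num) h2)
    obtain ⟨b, hb, hba⟩ : ∃ b ∈ A, b ∉ zpowers a := SetLike.not_le_iff_exists.1 fun hle =>
      hpair a ha a ha ((hA.symm.le).trans ((Nat.le_of_dvd Nat.card_pos (card_dvd_of_le hle)).trans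
        (Nat.le_of_dvd Nat.card_pos (card_dvd_of_le (zpowers_le.2
          (Subgroup.subset_closure (Set.mem_insert a _)))))))
    have := hlt (lt_of_le_of_ne (zpowers_le.2 (Subgroup.subset_closure (Set.mem_insert a {b})))
      fun e => hba (e.ge (Subgroup.subset_closure (Set.mem_insert_of_mem _ (Set.mem_singleton b)))))
    exact hpair a ha b hb (by omega)
  have hcomm : ∀ a ∈ A, ∀ b ∈ A, Commute a b := by
    intro a ha b hb
    by_contra hne
    refine hpair a ha b hb ?_
    obtain ⟨j, -, hj⟩ := (Nat.dvd_prime_pow Nat.prime_three).1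
      (h.card ▸ (closure ({a, b} : Set G)).card_subgroup_dvd_card)
    rw [hj]
    refine le_trans (by norm_num) (Nat.pow_le_pow_right (by norm_num) (show 3 ≤ j from ?_))
    by_contra hj3
    have hC : IsMulCommutative (closure ({a, b} : Set G)) := by
      have hjj : j ≤ 2 := by omega
      rcases Nat.eq_zero_or_pos j with rfl | hj0
      · have := (Nat.card_eq_one_iff_unique.mp (hj.trans (pow_zero _))).1
        exact ⟨⟨fun u v => Subsingleton.elim _ _⟩⟩
      · rcases (show j = 1 ∨ j = 2 by omega) with rfl | rfl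
        · have : IsCyclic (closure ({a, b} : Set G)) := isCyclic_of_prime_card (hj.trans (pow_one _))
          exact IsCyclic.isMulCommutative
        · exact IsPGroup.isMulCommutative_of_card_eq_prime_sq hj
    exact hne (congrArg Subtype.val (hC.is_comm.comm ⟨a, Subgroup.subset_closure (by simp)⟩
      ⟨b, Subgroup.subset_closure (by simp)⟩))
  -- a complement `B` to the centre in `A`
  obtain ⟨hZ, -, -⟩ := CfsgLib.MaxClass.center_of_class h.card (by norm_num) h.cls
  obtain ⟨a, ha, haZ⟩ : ∃ a ∈ A, a ∉ center G := SetLike.not_le_iff_exists.1 fun hle => by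
    have := Nat.le_of_dvd Nat.card_pos (card_dvd_of_le hle)
    omega
  have ha1 : a ≠ 1 := fun e => haZ (e ▸ one_mem _)
  have hca : Nat.card (zpowers a) = 3 := by
    rw [Nat.card_zpowers]; exact orderOf_eq_prime (hexp a ha) ha1
  have hM : Nat.card (zpowers a ⊔ center G : Subgroup G) ≤ 9 := by
    refine le_trans ?_ (show 3 * 3 ≤ 9 by norm_num)
    obtain ⟨z, hz⟩ := isCyclic_iff_exists_zpowers_eq_top.1 (isCyclic_of_prime_card hZ)
    have hzA : (z : G) ^ 3 = 1 := by
      have := congrArg Subtype.val (pow_card_eq_one' (G := center G) (x := z))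
      rwa [hZ] at this
    refine le_trans (Nat.le_of_dvd Nat.card_pos (card_dvd_of_le (sup_le (zpowers_le.2
      (Subgroup.subset_closure (Set.mem_insert a {(z : G)}))) fun y hy => ?_)))
      (card_closure_pair_le (p := 3) (mem_center_iff.1 z.2 a) (hexp a ha) hzA)
    obtain ⟨i, hi⟩ := mem_zpowers_iff.1 (hz.ge (mem_top (⟨y, hy⟩ : center G)))
    rw [show y = (z : G) ^ i by rw [← Subgroup.coe_zpow, hi]]
    have hzc : (z : G) ∈ closure ({a, (z : G)} : Set G) :=
      Subgroup.subset_closure (Set.mem_insert_of_mem _ (Set.mem_singleton _))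
    exact Subgroup.zpow_mem _ hzc i
  obtain ⟨b, hb, hbM⟩ : ∃ b ∈ A, b ∉ zpowers a ⊔ center G := SetLike.not_le_iff_exists.1 fun hle => by
    have := Nat.le_of_dvd Nat.card_pos (card_dvd_of_le hle)
    omega
  set B := closure ({a, b} : Set G) with hBdef
  have haB : a ∈ B := Subgroup.subset_closure (Set.mem_insert a _)
  have hbB : b ∈ B := Subgroup.subset_closure (Set.mem_insert_of_mem _ rfl)
  have hB : Nat.card B = 9 := by
    refine le_antisymm ((card_closure_pair_le (p := 3) (hcomm a ha b hb) (hexp a ha) (hexp b hb)).trans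
      (by norm_num)) ?_
    have := hlt (lt_of_le_of_ne (zpowers_le.2 haB) fun e => hbM (mem_sup_left (e.ge hbB)))
    omega
  have hZB : ¬ center G ≤ B := fun hle => by
    have h1 := hlt (lt_of_le_of_ne (le_sup_right : center G ≤ zpowers a ⊔ center G)
      fun e => haZ (e.ge (mem_sup_left (mem_zpowers a))))
    have h2 := hlt (lt_of_le_of_ne (sup_le (zpowers_le.2 haB) hle) fun e => hbM (e.ge hbB))
    omega
  refine exists_sylow_perm_nine h.card B hB ?_
  by_contra hK
  exact hZB ((h.center_le_of_normal B.normalCore hK).trans B.normalCore_le)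

end CfsgLib.MaxClassSplit
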