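import Cfsg.Agent.Lib.OddOrder41.NormalElementary
import Cfsg.Agent.Lib.OddOrder.Rank
import Cfsg.Agent.Lib.PLocal5.PGroupBasic

/-!
# In a 3-group of rank at least four every element of order three lies in an elementary subgroup of order 27
-/

set_option autoImplicit false

namespace CfsgLib.PGroup39.RankFour

open Subgroup
open scoped commutatorElement

variable {P : Type*} [Group P]

theorem natCard_le_ker_mul {A B : Type*} [Group A] [Group B] [Finite A] (f : A →* B) {n : ℕ}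
    (h : ∀ a, ∃ H : Subgroup B, f a ∈ H ∧ Nat.card ↥H ≤ n) (H : Subgroup B) (hH : ∀ a, f a ∈ H)
    (hn : Nat.card ↥H ≤ n) (hfin : Finite ↥H) : Nat.card A ≤ Nat.card ↥f.ker * n := by
  have h1 := f.ker.card_mul_index
  rw [Subgroup.index_ker] at h1
  rw [← h1]
  refine Nat.mul_le_mul le_rfl (le_trans ?_ hn)
  exact Nat.card_le_card_of_injective (fun x : ↥f.range => (⟨x.1, by obtain ⟨a, ha⟩ := x.2; rw [← ha]; exact hH a⟩ : ↥H))
    fun x y hxy => Subtype.ext (congrArg (fun z : ↥H => (z : B)) hxy)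

/-- `δ g w = w⁻¹ g⁻¹ w g`. -/
def dl (g w : P) : P := w⁻¹ * (g⁻¹ * w * g)

theorem dl_one_right (g : P) : dl g (1 : P) = 1 := by simp [dl]

theorem conj_eq_mul_dl (g w : P) : g⁻¹ * w * g = w * dl g w := by simp [dl]

theorem dl_eq_one_iff {g w : P} : dl g w = 1 ↔ Commute g w := by
  rw [dl, inv_mul_eq_one, commute_iff_eq]
  constructor
  · intro h
    calc g * w = g * (g⁻¹ * w * g) := by rw [← h]
      _ = w * g := by group
  · intro h
    rw [mul_assoc, ← h]
    group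

/-- Expansion of a cube. -/
theorem cube_mul_of_commutes {k y z : P} (hk : k * z = z * k) (hy : y * z = z * y)
    (h : y * k = z * (k * y)) : (k * y) ^ 3 = z ^ 3 * (k ^ 3 * y ^ 3) := by
  have hk' : ∀ t, k * (z * t) = z * (k * t) := fun t => by rw [← mul_assoc, hk, mul_assoc]
  have hy' : ∀ t, y * (z * t) = z * (y * t) := fun t => by rw [← mul_assoc, hy, mul_assoc]
  have h' : ∀ t, y * (k * t) = z * (k * (y * t)) := fun t => by rw [← mul_assoc, h]; simp only [mul_assoc]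
  simp only [pow_succ, pow_zero, one_mul, mul_assoc, hk', hy', h']

/-- Expansion of a cube. -/
theorem cube_mul_of_step {k a z ε : P} (hk : k * z = z * k) (hε : ∀ g : P, Commute g ε)
    (h : a * k = z * (k * a)) (ha : a * z = z * ε * a) :
    (k * a) ^ 3 = z ^ 3 * ε * k ^ 3 * a ^ 3 := by
  have hk' : ∀ t, k * (z * t) = z * (k * t) := fun t => by rw [← mul_assoc, hk, mul_assoc]
  have ha' : ∀ t, a * (z * t) = ε * (z * (a * t)) := fun t => by
    rw [← mul_assoc, ha, (hε z).eq]; simp only [mul_assoc]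
  have hkε : ∀ t, k * (ε * t) = ε * (k * t) := fun t => by rw [← mul_assoc, (hε k).eq, mul_assoc]
  have haε : ∀ t, a * (ε * t) = ε * (a * t) := fun t => by rw [← mul_assoc, (hε a).eq, mul_assoc]
  have hzε : ∀ t, z * (ε * t) = ε * (z * t) := fun t => by rw [← mul_assoc, (hε z).eq, mul_assoc]
  have h' : ∀ t, a * (k * t) = z * (k * (a * t)) := fun t => by rw [← mul_assoc, h]; simp only [mul_assoc]
  simp only [pow_succ, pow_zero, one_mul, mul_assoc, hk', ha', hkε, haε, hzε, h']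

section Normal

variable {V : Subgroup P} (hVn : V.Normal) (hVc : ∀ u ∈ V, ∀ w ∈ V, u * w = w * u)

include hVn in
theorem dl_mem {g w : P} (hw : w ∈ V) : dl g w ∈ V := by
  refine mul_mem (inv_mem hw) ?_
  simpa using hVn.conj_mem w hw g⁻¹

include hVn hVc in
theorem dl_mul {g u w : P} (hu : u ∈ V) (hw : w ∈ V) : dl g (u * w) = dl g u * dl g w := by
  have h : g⁻¹ * (u * w) * g = u * dl g u * (w * dl g w) := by
    rw [← conj_eq_mul_dl, ← conj_eq_mul_dl]; group
  rw [dl, h, mul_assoc u, ← mul_assoc (dl g u) w, hVc _ (dl_mem hVn hu) w hw]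
  group

include hVn hVc in
/-- `dl g` as an endomorphism of `V`. -/
def dlHom (g : P) : ↥V →* ↥V :=
  MonoidHom.mk' (fun w => ⟨dl g w.1, dl_mem hVn w.2⟩) fun u w => Subtype.ext (dl_mul hVn hVc u.2 w.2)

include hVn hVc in
theorem dl_pow {g u : P} (hu : u ∈ V) (n : ℕ) : dl g (u ^ n) = dl g u ^ n := by
  induction n with
  | zero => simp [dl_one_right]
  | succ n ih => rw [pow_succ, pow_succ, dl_mul hVn hVc (pow_mem hu n) hu, ih]

include hVn hVc in
theorem dl_comp {g h w : P} (hw : w ∈ V) : dl (g * h) w = dl h w * dl g w * dl h (dl g w) := by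
  have hm := dl_mem (g := g) hVn hw
  rw [mul_assoc (dl h w), ← conj_eq_mul_dl]
  simp only [dl]
  group

include hVn hVc in
theorem dl_swap {g h w : P} (hgh : g * h = h * g) (hw : w ∈ V) : dl h (dl g w) = dl g (dl h w) := by
  have h1 := dl_comp hVn hVc (g := g) (h := h) hw
  rw [hgh, dl_comp hVn hVc hw, hVc _ (dl_mem hVn hw) _ (dl_mem hVn hw)] at h1
  exact (mul_left_cancel h1).symm

end Normal

/-- The configuration: `V` of order 27 is all of the order 3 elements of its centralizer, `Z < L < V` is a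
chain of normal subgroups with central steps. -/
structure Config (P : Type*) [Group P] where
  V : Subgroup P
  L : Subgroup P
  Z : Subgroup P
  hVn : V.Normal
  hVc : ∀ u ∈ V, ∀ w ∈ V, u * w = w * u
  hV3 : ∀ u ∈ V, u ^ 3 = 1
  hLV : L ≤ V
  hZL : Z ≤ L
  hVL : ∀ g, ∀ w ∈ V, dl g w ∈ L
  hLZ : ∀ g, ∀ w ∈ L, dl g w ∈ Z
  hZc : ∀ z ∈ Z, ∀ g : P, g * z = z * g
  homega : ∀ y : P, (∀ w ∈ V, w * y = y * w) → y ^ 3 = 1 → y ∈ V

variable [Finite P]

/-- Nilpotent descent along commutators. -/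
theorem commutator_descent [Group.IsNilpotent P] (S : P → Prop) (h1 : S 1)
    (step : ∀ k, (∀ g, S ⁅k, g⁆) → S k) (k : P) : S k := by
  obtain ⟨n, hn⟩ := Group.IsNilpotent.nilpotent P
  have key : ∀ n, ∀ k ∈ Subgroup.upperCentralSeries P n, S k := by
    intro n
    induction n with
    | zero =>
      intro k hk
      rw [Subgroup.upperCentralSeries_zero, mem_bot] at hk
      exact hk ▸ h1
    | succ n ih =>
      intro k hk
      exact step k fun g => ih _ (Subgroup.mem_upperCentralSeries_succ_iff.mp hk g)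
  exact key n k (hn ▸ mem_top k)

namespace Config

variable (C : Config P)

omit [Finite P] in
theorem conj_mem_cent {y : P} (hy : ∀ w ∈ C.V, w * y = y * w) (g : P) :
    ∀ w ∈ C.V, w * (g * y * g⁻¹) = g * y * g⁻¹ * w := by
  intro w hw
  have h := hy (g⁻¹ * w * g) (by simpa using C.hVn.conj_mem w hw g⁻¹)
  calc w * (g * y * g⁻¹) = g * ((g⁻¹ * w * g) * y) * g⁻¹ := by group
    _ = g * y * g⁻¹ * w := by rw [h]; group

omit [Finite P] in
theorem commutator_mem_cent {y z : P} (hy : ∀ w ∈ C.V, w * y = y * w) :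
    ∀ w ∈ C.V, w * ⁅y, z⁆ = ⁅y, z⁆ * w := by
  intro w hw
  have h1 : Commute w (z * y * z⁻¹) := C.conj_mem_cent hy z w hw
  have h2 : Commute w y := hy w hw
  have e : ⁅y, z⁆ = y * (z * y * z⁻¹)⁻¹ := by rw [commutatorElement_def]; group
  rw [e]
  exact (h2.mul_right h1.inv_right).eq

/-- Cubes detect equality modulo `V` in the centralizer of `V`. -/
theorem pow_three_eq_one_of_mul [Group.IsNilpotent P] (k : P) :
    ∀ y : P, (∀ w ∈ C.V, w * k = k * w) → (∀ w ∈ C.V, w * y = y * w) → y ^ 3 ∈ C.Z →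
      (k * y) ^ 3 = y ^ 3 → k ^ 3 = 1 := by
  refine commutator_descent (fun k => ∀ y : P, (∀ w ∈ C.V, w * k = k * w) → (∀ w ∈ C.V, w * y = y * w) →
    y ^ 3 ∈ C.Z → (k * y) ^ 3 = y ^ 3 → k ^ 3 = 1) (fun y _ _ _ _ => one_pow 3) ?_ k
  intro k ih y hk hy hy3 hky
  set q := ⁅k, y⁆ with hq
  have hqK := C.commutator_mem_cent (z := y) hk
  have hq3 : q ^ 3 = 1 := by
    refine ih y y hqK hy hy3 ?_
    have e : q * y = k * y * k⁻¹ := by rw [hq, commutatorElement_def]; group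
    rw [e, conj_pow, C.hZc _ hy3 k]
    group
  have hqV := C.homega q hqK hq3
  have hqk : Commute q k := hk q hqV
  have hqy : Commute q y := hy q hqV
  have e : y * k = q⁻¹ * (k * y) := by rw [hq, commutatorElement_def]; group
  have e3 : (k * y) ^ 3 = q⁻¹ ^ 3 * (k ^ 3 * y ^ 3) :=
    cube_mul_of_commutes hqk.inv_left.eq.symm hqy.inv_left.eq.symm e
  rw [hky, inv_pow, hq3, inv_one, one_mul] at e3
  exact right_eq_mul.mp e3

/-- An element of the centralizer of `V` with cube in `Z` is central modulo `V`. -/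
theorem exists_conj_eq_mul [Group.IsNilpotent P] {k : P} (hk : ∀ w ∈ C.V, w * k = k * w)
    (hk3 : k ^ 3 ∈ C.Z) (g : P) : ∃ d ∈ C.V, g⁻¹ * k * g = k * d := by
  set d := g⁻¹ * k * g * k⁻¹ with hd
  have hconj : ∀ w ∈ C.V, w * (g⁻¹ * k * g) = g⁻¹ * k * g * w := by
    simpa using C.conj_mem_cent hk g⁻¹
  have hdK : ∀ w ∈ C.V, w * d = d * w := fun w hw =>
    ((show Commute w (g⁻¹ * k * g) from hconj w hw).mul_right (show Commute w k from hk w hw).inv_right).eq
  have hdV : d ∈ C.V := by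
    refine C.homega d hdK (C.pow_three_eq_one_of_mul d k hdK hk hk3 ?_)
    have e : d * k = g⁻¹ * k * g := by rw [hd]; group
    have e2 : g⁻¹ * k * g = g⁻¹ * k * g⁻¹⁻¹ := by rw [inv_inv]
    rw [e, e2, conj_pow, C.hZc _ hk3 g⁻¹]
    group
  refine ⟨d, hdV, ?_⟩
  rw [← hk d hdV, hd]
  group

/-- The two elements `a`, `b` of the big abelian subgroup: `[v, a]` central, `[v, b]` outside `Z`. -/
structure Pair (v c e a b : P) : Prop where
  hv : v ∈ C.V
  hc : c ∈ C.L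
  hcZ : c ∉ C.Z
  he : e ∈ C.Z
  hab : a * b = b * a
  ha : dl a v = e
  hb : dl b v = c
  haL : ∀ l ∈ C.L, dl a l = 1
  hbL : ∀ l ∈ C.L, dl b l = 1
  hdec : ∀ w ∈ C.V, ∃ i < 3, ∃ l ∈ C.L, w = v ^ i * l

variable {C} {v c e a b : P}

omit [Finite P] in
theorem Pair.dl_mem_Z (h : C.Pair v c e a b) {w : P} (hw : w ∈ C.V) : dl a w ∈ C.Z := by
  obtain ⟨i, -, l, hl, rfl⟩ := h.hdec w hw
  rw [dl_mul C.hVn C.hVc (pow_mem h.hv i) (C.hLV hl), dl_pow C.hVn C.hVc h.hv, h.ha, h.haL l hl, mul_one]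
  exact pow_mem h.he i

omit [Finite P] in
theorem Pair.inv (h : C.Pair v c e a b) : C.Pair v c e⁻¹ a⁻¹ b := by
  have key : ∀ w ∈ C.V, dl a w ∈ C.Z → dl a⁻¹ w = (dl a w)⁻¹ := by
    intro w hw hz
    have h1 : dl a⁻¹ (dl a w) = 1 := dl_eq_one_iff.mpr (C.hZc _ hz _)
    have h2 := dl_comp C.hVn C.hVc (g := a) (h := a⁻¹) hw
    rw [mul_inv_cancel, h1, mul_one] at h2
    have h3 : dl (1 : P) w = 1 := by simp [dl]
    exact eq_inv_of_mul_eq_one_left (h2.symm.trans h3)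
  refine ⟨h.hv, h.hc, h.hcZ, inv_mem h.he, (show Commute a b from h.hab).inv_left.eq, ?_, h.hb, ?_, h.hbL, h.hdec⟩
  · rw [key v h.hv (h.ha ▸ h.he), h.ha]
  · intro l hl
    rw [key l (C.hLV hl) (by rw [h.haL l hl]; exact one_mem _), h.haL l hl, inv_one]

omit [Finite P] in
theorem Pair.commutator_mem_L (h : C.Pair v c e a b) {k d : P} (hd : d ∈ C.V)
    (hda : a⁻¹ * k * a = k * d) {d' : P} (hd' : d' ∈ C.V) (hdb : b⁻¹ * k * b = k * d') : d ∈ C.L := by
  have e1 : (a * b)⁻¹ * k * (a * b) = k * d' * (d * dl b d) := by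
    calc (a * b)⁻¹ * k * (a * b) = b⁻¹ * (a⁻¹ * k * a) * b := by group
      _ = (b⁻¹ * k * b) * (b⁻¹ * d * b) := by rw [hda]; group
      _ = k * d' * (d * dl b d) := by rw [hdb, conj_eq_mul_dl]
  have e2 : (b * a)⁻¹ * k * (b * a) = k * d * (d' * dl a d') := by
    calc (b * a)⁻¹ * k * (b * a) = a⁻¹ * (b⁻¹ * k * b) * a := by group
      _ = (a⁻¹ * k * a) * (a⁻¹ * d' * a) := by rw [hdb]; group
      _ = k * d * (d' * dl a d') := by rw [hda, conj_eq_mul_dl]
  rw [← h.hab, e1, ← mul_assoc, ← mul_assoc, mul_assoc k, mul_assoc k d d', C.hVc d' hd' d hd] at e2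
  have e3 : dl b d = dl a d' := mul_left_cancel e2
  obtain ⟨i, hi, l, hl, rfl⟩ := h.hdec d hd
  rw [dl_mul C.hVn C.hVc (pow_mem h.hv i) (C.hLV hl), dl_pow C.hVn C.hVc h.hv, h.hb, h.hbL l hl,
    mul_one] at e3
  have hci : c ^ i ∈ C.Z := e3 ▸ h.dl_mem_Z hd'
  obtain rfl | hi0 := Nat.eq_zero_or_pos i
  · simpa using hl
  exfalso
  refine h.hcZ ?_
  have hc3 : c ^ 3 = 1 := C.hV3 c (C.hLV h.hc)
  interval_cases i
  · simpa using hci
  · have h2 : c = (c ^ 2) ^ 2 := by rw [← pow_mul, show 2 * 2 = 3 + 1 from rfl, pow_succ, hc3, one_mul]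
    rw [h2]
    exact pow_mem hci 2

/-- Every element of order three in the coset of `a` modulo the centralizer of `V` is in `V a`. -/
theorem Pair.mem_of_pow_three [Group.IsNilpotent P] (h : C.Pair v c e a b) (ha3 : a ^ 3 = 1) (k : P) :
    (∀ w ∈ C.V, w * k = k * w) → (k * a) ^ 3 = 1 → k ∈ C.V := by
  refine commutator_descent (fun k => (∀ w ∈ C.V, w * k = k * w) → (k * a) ^ 3 = 1 → k ∈ C.V)
    (fun _ _ => one_mem _) ?_ k
  intro k ih hk hka
  set q := ⁅k, a⁆ with hq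
  have hqV : q ∈ C.V := by
    refine ih a (C.commutator_mem_cent hk) ?_
    have e1 : q * a = k * a * k⁻¹ := by rw [hq, commutatorElement_def]; group
    rw [e1, conj_pow, ← mul_inv_eq_one.mpr (show k = k from rfl)]
    rw [show a ^ 3 = 1 from ha3]
    group
  have hqk : Commute q k := hk q hqV
  set ε := q * (a * q⁻¹ * a⁻¹) with hε
  have hεZ : ε ∈ C.Z := by
    have h1 := h.inv.dl_mem_Z (inv_mem hqV)
    simpa [dl, hε] using h1
  have e2 : a * q⁻¹ = q⁻¹ * ε * a := by rw [hε]; group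
  have e1 : a * k = q⁻¹ * (k * a) := by rw [hq, commutatorElement_def]; group
  have hεc : ∀ g : P, Commute g ε := fun g => C.hZc ε hεZ g
  have hk3 : ε * k ^ 3 = 1 := by
    have e3 : (k * a) ^ 3 = q⁻¹ ^ 3 * ε * k ^ 3 * a ^ 3 := by
      exact cube_mul_of_step hqk.inv_left.eq.symm hεc e1 e2
    rw [hka, inv_pow, C.hV3 q hqV, ha3, inv_one, one_mul, mul_one] at e3
    exact e3.symm
  have hk3Z : k ^ 3 ∈ C.Z := by
    rw [eq_inv_of_mul_eq_one_right hk3]
    exact inv_mem hεZ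
  obtain ⟨d', hd', hdb⟩ := C.exists_conj_eq_mul hk hk3Z b
  have hda : a⁻¹⁻¹ * k * a⁻¹ = k * q⁻¹ := by
    rw [inv_inv, hk q⁻¹ (inv_mem hqV) |>.symm, hq, commutatorElement_def]
    group
  have hqL : q⁻¹ ∈ C.L := h.inv.commutator_mem_L (inv_mem hqV) hda hd' hdb
  have hε1 : ε = 1 := by
    have h1 := h.inv.haL _ hqL
    simpa [dl, hε] using h1
  rw [hε1, one_mul] at hk3
  exact C.homega k hk hk3

end Config

omit [Finite P] in
theorem eq_one_of_pow {g : P} (h3 : g ^ 3 = 1) {i : ℕ} (hi : i < 3) (hi0 : i ≠ 0) (h : g ^ i = 1) :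
    g = 1 := by
  interval_cases i
  · exact absurd rfl hi0
  · simpa using h
  · rwa [pow_succ, h, one_mul] at h3

omit [Finite P] in
theorem exists_pow_mul {L W : Subgroup P} [L.Normal] {v : P} (hWc : ∀ u ∈ W, ∀ w ∈ W, u * w = w * u)
    (hLW : L ≤ W) (hv : v ∈ W) (h3 : v ^ 3 = 1) (hsup : W ≤ L ⊔ zpowers v) {w : P} (hw : w ∈ W) :
    ∃ i < 3, ∃ l ∈ L, w = v ^ i * l := by
  obtain ⟨l, hl, _, ⟨n, rfl⟩, rfl⟩ := (Subgroup.mem_sup_of_normal_left (s := L)).mp (hsup hw)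
  refine ⟨(n % 3).toNat, by omega, l, hl, ?_⟩
  show l * v ^ n = _
  have e : v ^ n = v ^ ((n % 3).toNat : ℤ) := by
    rw [Int.toNat_of_nonneg (by omega)]
    conv_lhs => rw [← Int.mul_ediv_add_emod n 3, zpow_add, zpow_mul, show (v : P) ^ (3 : ℤ) = 1 from mod_cast h3,
      one_zpow, one_mul]
  rw [e, zpow_natCast]
  exact hWc l (hLW hl) _ (pow_mem hv _)

/-- In a 3-group with an elementary abelian subgroup of order 81, every element of order three commutes
elementwise with an elementary abelian subgroup of order at least 27. -/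
theorem exists_elementary_commuting (hP : IsPGroup 3 P) {A : Subgroup P}
    (hA : Cfsg.IsElementaryAbelian 3 A) (hA4 : 81 ≤ Nat.card ↥A) {x : P} (hx3 : x ^ 3 = 1) :
    ∃ F : Subgroup P, Cfsg.IsElementaryAbelian 3 F ∧ 27 ≤ Nat.card ↥F ∧ ∀ f ∈ F, x * f = f * x := by
  classical
  haveI : Fact (Nat.Prime 3) := ⟨Nat.prime_three⟩
  haveI : Group.IsNilpotent P := hP.isNilpotent
  by_contra hno
  have hsoft : ∀ F : Subgroup P, Cfsg.IsElementaryAbelian 3 F → (∀ f ∈ F, x * f = f * x) →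
      Nat.card ↥F ≤ 9 := by
    intro F hF hc
    by_contra h
    obtain ⟨m, hm⟩ := CfsgLib.OddOrder.elemAb_card hF
    refine hno ⟨F, hF, ?_, hc⟩
    rw [hm] at h ⊢
    have h2 : 3 ≤ m := by
      by_contra hlt
      exact h (Nat.pow_le_pow_right (by norm_num) (show m ≤ 2 by omega))
    exact Nat.pow_le_pow_right (n := 3) (by norm_num) h2
  have hxc : x ∉ center P := fun h => by
    have := hsoft A hA fun f _ => (mem_center_iff.mp h f).symm
    omega
  have hAne : (⊤ : Subgroup P) ≠ ⊥ := fun h => hxc (by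
    have : x ∈ (⊥ : Subgroup P) := h ▸ mem_top x
    rw [mem_bot.mp this]; exact one_mem _)
  haveI : Nontrivial P := by
    by_contra h
    rw [not_nontrivial_iff_subsingleton] at h
    exact hAne (Subsingleton.elim _ _)
  obtain ⟨z, hz, hzord⟩ : ∃ z ∈ center P, orderOf z = 3 := by
    haveI := hP.center_nontrivial
    obtain ⟨n, hn⟩ := IsPGroup.iff_card.mp (hP.to_subgroup (center P))
    have h3 : 3 ∣ Nat.card ↥(center P) := by
      rw [hn]
      refine dvd_pow_self 3 fun h0 => ?_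
      subst h0
      exact absurd hn (ne_of_gt Finite.one_lt_card)
    obtain ⟨z, hz⟩ := exists_prime_orderOf_dvd_card' 3 h3
    exact ⟨z, z.2, by rw [Subgroup.orderOf_coe]; exact hz⟩
  have hz3 : z ^ 3 = 1 := hzord ▸ pow_orderOf_eq_one z
  have hzc : ∀ g : P, g * z = z * g := mem_center_iff.mp hz
  set X := zpowers x ⊔ zpowers z with hX
  have hXel : Cfsg.IsElementaryAbelian 3 X :=
    CfsgLib.OddOrder.elemAb_sup_zpowers (CfsgLib.OddOrder.elemAb_zpowers hx3) hz3
      (mem_centralizer_iff.mpr fun g _ => hzc g)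
  have hXc : ∀ f ∈ X, x * f = f * x := fun f hf =>
    CfsgLib.OddOrder.elemAb_commute hXel (mem_sup_left (mem_zpowers x)) hf
  have hx1 : x ≠ 1 := fun h => hxc (h ▸ one_mem _)
  have hxord : orderOf x = 3 := orderOf_eq_prime hx3 hx1
  have hXcard : Nat.card ↥X = 9 := by
    refine le_antisymm (hsoft X hXel hXc) ?_
    obtain ⟨m, hm⟩ := CfsgLib.OddOrder.elemAb_card hXel
    rw [hm]
    refine Nat.pow_le_pow_right (n := 3) (by norm_num) (show 2 ≤ m from ?_)
    by_contra hlt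
    have hle : Nat.card ↥X ≤ Nat.card ↥(zpowers x) := by
      rw [hm, Nat.card_zpowers, hxord]
      exact (Nat.pow_le_pow_right (by norm_num) (show m ≤ 1 by omega)).trans (le_of_eq (pow_one 3))
    have heq := Subgroup.eq_of_le_of_card_ge (le_sup_left : zpowers x ≤ X) hle
    obtain ⟨k, hk⟩ := (heq.ge (mem_sup_right (mem_zpowers z)) : z ∈ zpowers x)
    obtain ⟨j, hj⟩ : x ∈ zpowers z := by
      have h1 : zpowers z = zpowers x := Subgroup.eq_of_le_of_card_ge (zpowers_le.mpr ⟨k, hk⟩)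
        (by rw [Nat.card_zpowers, Nat.card_zpowers, hzord, hxord])
      rw [h1]
      exact mem_zpowers x
    exact hxc (hj ▸ zpow_mem hz j)
  have hkey : ∀ g : P, g ^ 3 = 1 → x * g = g * x → g ∈ X := by
    intro g hg hgx
    have hgc : g ∈ centralizer (X : Set P) := by
      rw [← zpowers_le, le_centralizer_iff, hX]
      refine sup_le (zpowers_le.mpr (mem_centralizer_iff.mpr ?_)) (zpowers_le.mpr (mem_centralizer_iff.mpr ?_))
      · rintro _ ⟨k, rfl⟩
        exact ((show Commute g x from hgx.symm).zpow_left k).eq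
      · rintro _ ⟨k, rfl⟩
        exact ((show Commute g z from hzc g).zpow_left k).eq
    have hF := CfsgLib.OddOrder.elemAb_sup_zpowers hXel hg hgc
    have h1 := hsoft _ hF fun f hf =>
      CfsgLib.OddOrder.elemAb_commute hF (mem_sup_left (mem_sup_left (mem_zpowers x))) hf
    rw [Subgroup.eq_of_le_of_card_ge (le_sup_left : X ≤ X ⊔ zpowers g) (h1.trans hXcard.ge)]
    exact mem_sup_right (mem_zpowers g)
  -- a maximal normal elementary abelian subgroup
  obtain ⟨V, ⟨hVn, hVel⟩, hVmax⟩ := Set.Finite.exists_maximal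
    (s := {V : Subgroup P | V.Normal ∧ Cfsg.IsElementaryAbelian 3 V}) (Set.toFinite _)
    ⟨⊥, inferInstance, ⟨⟨⟨fun a b => Subsingleton.elim _ _⟩⟩, fun a ha => by rw [mem_bot.mp ha, one_pow]⟩⟩
  have hVc : ∀ u ∈ V, ∀ w ∈ V, u * w = w * u := fun u hu w hw => CfsgLib.OddOrder.elemAb_commute hVel hu hw
  have hAc : ∀ u ∈ A, ∀ w ∈ A, u * w = w * u := fun u hu w hw => CfsgLib.OddOrder.elemAb_commute hA hu hw
  have homega : ∀ y : P, (∀ w ∈ V, w * y = y * w) → y ^ 3 = 1 → y ∈ V := by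
    intro y hy hy3
    by_contra hyV
    haveI := hVn
    obtain ⟨F, hFn, hFel, hVF⟩ := CfsgLib.OddOrder41.exists_normal_elementary_gt (p := 3) (by norm_num) hP V hVel
      y (mem_centralizer_iff.mpr hy) hy3 hyV
    exact hVF.not_ge (hVmax ⟨hFn, hFel⟩ hVF.le)
  obtain ⟨r, hr⟩ := CfsgLib.OddOrder.elemAb_card hVel
  have hr3 : 3 ≤ r := by
    by_contra hlt
    have hidx : (centralizer (V : Set P)).index ≤ 3 := by
      have h := CfsgLib.PGroupBasic.index_centralizer_le hP r V hVn hVel.1 hr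
      refine h.trans ?_
      interval_cases r <;> norm_num
    have hle : A ⊓ centralizer (V : Set P) ≤ V := fun g hg =>
      homega g (fun w hw => mem_centralizer_iff.mp hg.2 w hw) (hA.2 g hg.1)
    have h1 : Nat.card ↥A ≤ Nat.card ↥(A ⊓ centralizer (V : Set P)) * 3 := by
      have h := Subgroup.relIndex_mul_relIndex ⊥ (A ⊓ centralizer (V : Set P)) A bot_le inf_le_left
      rw [relIndex_bot_left, relIndex_bot_left, inf_relIndex_left] at h
      rw [← h]
      refine Nat.mul_le_mul le_rfl (le_trans ?_ hidx)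
      exact Nat.le_of_dvd (Nat.pos_of_ne_zero index_ne_zero_of_finite)
        (relIndex_dvd_index_of_normal _ A)
    have h2 := Subgroup.card_le_of_le hle
    rw [hr] at h2
    have h4 : 3 ^ r ≤ 3 ^ 2 := Nat.pow_le_pow_right (by norm_num) (by omega)
    omega
  have hxV : x ∉ V := fun h => by
    have h1 := hsoft V hVel fun f hf => hVc x h f hf
    have h4 : 3 ^ 3 ≤ 3 ^ r := Nat.pow_le_pow_right (by norm_num) hr3
    omega
  set f := dlHom hVn hVc x with hf
  have hfv : ∀ w : ↥V, (f w : P) = dl x w := fun w => rfl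
  have hker : Nat.card ↥f.ker ≤ 3 := by
    have h1 : Nat.card ↥f.ker ≤ Nat.card ↥(V ⊓ X) := by
      refine Nat.card_le_card_of_injective (fun w => (⟨(w.1 : P), w.1.2,
        hkey _ (hVel.2 _ w.1.2) (dl_eq_one_iff.mp (congrArg Subtype.val (w.2 : f w.1 = 1))).eq⟩ : ↥(V ⊓ X))) ?_
      intro u w h
      exact Subtype.ext (Subtype.ext (congrArg (fun t : ↥(V ⊓ X) => (t : P)) h))
    refine h1.trans ?_
    obtain ⟨m, hm⟩ := CfsgLib.OddOrder.elemAb_card (CfsgLib.OddOrder.elemAb_mono hVel (inf_le_left : V ⊓ X ≤ V))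
    rw [hm]
    by_contra hlt
    have hm2 : 2 ≤ m := by
      by_contra h2
      exact hlt ((Nat.pow_le_pow_right (by norm_num) (show m ≤ 1 by omega)).trans (le_of_eq (pow_one 3)))
    have heq := Subgroup.eq_of_le_of_card_ge (inf_le_right : V ⊓ X ≤ X)
      (by rw [hXcard, hm]; exact (Nat.pow_le_pow_right (n := 3) (by norm_num) hm2))
    exact hxV (heq.ge (mem_sup_left (mem_zpowers x))).1
  have hnorm : ∀ w ∈ V, dl x (dl x (dl x w)) = 1 := by
    intro w hw
    have m1 := dl_mem (g := x) hVn hw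
    have m2 := dl_mem (g := x) hVn m1
    have h0 : dl (x * x * x) w = 1 := by
      rw [show x * x * x = 1 by rw [← pow_two, ← pow_succ]; exact hx3]; simp [dl]
    rw [dl_comp hVn hVc hw, dl_comp hVn hVc hw, dl_mul hVn hVc (mul_mem m1 m1) m2, dl_mul hVn hVc m1 m1] at h0
    have c1 : Commute (dl x w) (dl x (dl x w)) := hVc _ m1 _ m2
    have q1 : dl x w * dl x w * dl x w = 1 := by rw [← pow_two, ← pow_succ]; exact hVel.2 _ m1
    have q2 : dl x (dl x w) * dl x (dl x w) * dl x (dl x w) = 1 := by rw [← pow_two, ← pow_succ]; exact hVel.2 _ m2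
    calc dl x (dl x (dl x w))
        = (dl x w * dl x w * dl x w) * (dl x (dl x w) * dl x (dl x w) * dl x (dl x w)) *
            dl x (dl x (dl x w)) := by rw [q1, q2]; group
      _ = 1 := by rw [← h0]; group
  have h27 : Nat.card ↥V = 27 := by
    refine le_antisymm ?_ (by rw [hr]; exact Nat.pow_le_pow_right (n := 3) (by norm_num) hr3)
    have k2 : Nat.card ↥(f.comp f).ker ≤ 3 * 3 := by
      have h1 := natCard_le_ker_mul (n := 3) (f.comp (f.comp f).ker.subtype)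
        (fun a => ⟨f.ker, by
          have h := a.2
          exact ⟨h, hker⟩⟩) f.ker (fun a => a.2) hker inferInstance
      refine h1.trans (Nat.mul_le_mul ?_ le_rfl)
      refine le_trans (Nat.card_le_card_of_injective (fun w => (⟨w.1.1, w.2⟩ : ↥f.ker)) ?_) hker
      intro u w h
      exact Subtype.ext (Subtype.ext (congrArg (fun t : ↥f.ker => (t : ↥V)) h))
    have hmem : ∀ w : ↥V, f w ∈ (f.comp f).ker := fun w => Subtype.ext (hnorm w w.2)
    have h2 := natCard_le_ker_mul (n := 3 * 3) f (fun a => ⟨(f.comp f).ker, hmem a, k2⟩) _ hmem k2 inferInstance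
    calc Nat.card ↥V ≤ Nat.card ↥f.ker * (3 * 3) := h2
      _ ≤ 3 * (3 * 3) := Nat.mul_le_mul hker le_rfl
  have hhalf : ∀ {M B : Subgroup P}, B ≤ M → B.relIndex M = 3 → Nat.card ↥M = Nat.card ↥B * 3 := by
    intro M B hle hi
    rw [← hi]
    have := Subgroup.relIndex_mul_relIndex ⊥ B M bot_le hle
    rw [relIndex_bot_left, relIndex_bot_left] at this
    exact this.symm
  haveI := hVn
  obtain ⟨L, hLn, hLV, hLi, v, hv, hLv, hvL⟩ := CfsgLib.PGroupBasic.exists_normal_relIndex_eq hP V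
    (fun h => by rw [h, card_bot] at h27; omega)
  have hL9 : Nat.card ↥L = 9 := by have := hhalf hLV hLi; omega
  haveI := hLn
  obtain ⟨Z, hZn, hZL, hZi, c₀, hc₀, hZc₀, hc₀Z⟩ := CfsgLib.PGroupBasic.exists_normal_relIndex_eq hP L
    (fun h => by rw [h, card_bot] at hL9; omega)
  have hZ3 : Nat.card ↥Z = 3 := by have := hhalf hZL hZi; omega
  haveI := hZn
  obtain ⟨B, hBn, hBZ, hBi, z₀, hz₀, hBz₀, hz₀c⟩ := CfsgLib.PGroupBasic.exists_normal_relIndex_eq hP Z
    (fun h => by rw [h, card_bot] at hZ3; omega)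
  have hB : B = ⊥ := Subgroup.card_eq_one.mp (by have := hhalf hBZ hBi; omega)
  have hZc : ∀ w ∈ Z, ∀ g : P, g * w = w * g := by
    intro w hw g
    rw [← hBz₀, hB, bot_sup_eq] at hw
    obtain ⟨n, rfl⟩ := hw
    have h := hz₀c g
    rw [hB, mem_bot, mul_inv_eq_one, mul_inv_eq_iff_eq_mul] at h
    exact ((show Commute g z₀ from h).zpow_right n).eq
  have hV3 : ∀ u ∈ V, u ^ 3 = 1 := hVel.2
  have hZV : Z ≤ V := hZL.trans hLV
  have hdecV : ∀ w ∈ V, ∃ i < 3, ∃ l ∈ L, w = v ^ i * l := fun w hw =>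
    exists_pow_mul hVc hLV hv (hV3 v hv) hLv.ge hw
  have hdecL₀ : ∀ w ∈ L, ∃ i < 3, ∃ l ∈ Z, w = c₀ ^ i * l := fun w hw =>
    exists_pow_mul (fun a ha b hb => hVc a (hLV ha) b (hLV hb)) hZL hc₀ (hV3 _ (hLV hc₀)) hZc₀.ge hw
  have hdlconj : ∀ (g w : P), dl g w = w⁻¹ * (g⁻¹ * w * g⁻¹⁻¹) := fun g w => by simp [dl]
  have hVL : ∀ g, ∀ w ∈ V, dl g w ∈ L := by
    intro g w hw
    obtain ⟨i, -, l, hl, rfl⟩ := hdecV w hw
    rw [dl_mul hVn hVc (pow_mem hv i) (hLV hl), dl_pow hVn hVc hv]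
    refine mul_mem (pow_mem ?_ i) (dl_mem hLn hl)
    have h := hvL g⁻¹
    have h' := hLn.conj_mem _ h v⁻¹
    simpa [dl, mul_assoc] using h'
  have hLZ : ∀ g, ∀ w ∈ L, dl g w ∈ Z := by
    intro g w hw
    obtain ⟨i, -, l, hl, rfl⟩ := hdecL₀ w hw
    rw [dl_mul hVn hVc (pow_mem (hLV hc₀) i) (hZV hl), dl_pow hVn hVc (hLV hc₀)]
    refine mul_mem (pow_mem ?_ i) (dl_mem hZn hl)
    have h := hc₀Z g⁻¹
    have h' := hZn.conj_mem _ h c₀⁻¹
    simpa [dl, mul_assoc] using h'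
  let C : Config P := ⟨V, L, Z, hVn, hVc, hV3, hLV, hZL, hVL, hLZ, hZc, homega⟩
  have hdlZ : ∀ g, ∀ w ∈ Z, dl g w = 1 := fun g w hw => dl_eq_one_iff.mpr (hZc w hw g)
  -- the fixed points of `x` on `V` are exactly `Z`
  have hfix : ∀ w ∈ V, dl x w = 1 → w ∈ Z := by
    intro w hw hd
    have hle : Z.subgroupOf V ≤ f.ker := fun u hu => Subtype.ext (hdlZ x _ hu)
    have heq := Subgroup.eq_of_le_of_card_ge hle
      (by rw [Nat.card_congr (subgroupOfEquivOfLe hZV).toEquiv, hZ3]; exact hker)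
    exact heq.ge (show (⟨w, hw⟩ : ↥V) ∈ f.ker from Subtype.ext hd)
  set c := dl x v with hcdef
  have hcL : c ∈ L := hVL x v hv
  have hcZ : c ∉ Z := by
    intro hc
    have hmem : ∀ w : ↥V, f w ∈ Z.subgroupOf V := by
      intro w
      obtain ⟨i, -, l, hl, hwl⟩ := hdecV w w.2
      show dl x (w : P) ∈ Z
      rw [hwl, dl_mul hVn hVc (pow_mem hv i) (hLV hl), dl_pow hVn hVc hv]
      exact mul_mem (pow_mem hc i) (hLZ x l hl)
    have hcard : Nat.card ↥(Z.subgroupOf V) ≤ 3 := by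
      rw [Nat.card_congr (subgroupOfEquivOfLe hZV).toEquiv, hZ3]
    have := natCard_le_ker_mul (n := 3) f (fun a => ⟨_, hmem a, hcard⟩) _ hmem hcard inferInstance
    omega
  set e := dl x c with hedef
  have heZ : e ∈ Z := hLZ x c hcL
  have he1 : e ≠ 1 := fun h => hcZ (hfix c (hLV hcL) h)
  have hc3 : c ^ 3 = 1 := hV3 c (hLV hcL)
  have hdecL : ∀ w ∈ L, ∃ i < 3, ∃ l ∈ Z, w = c ^ i * l := fun w hw => by
    refine exists_pow_mul (fun a ha b hb => hVc a (hLV ha) b (hLV hb)) hZL hcL hc3 ?_ hw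
    have hle : Z ⊔ zpowers c ≤ L := sup_le hZL (zpowers_le.mpr hcL)
    obtain ⟨m, hm⟩ := CfsgLib.OddOrder.elemAb_card (CfsgLib.OddOrder.elemAb_mono hVel (hle.trans hLV))
    refine (Subgroup.eq_of_le_of_card_ge hle ?_).ge
    rw [hL9, hm]
    refine Nat.pow_le_pow_right (n := 3) (by norm_num) (show 2 ≤ m from ?_)
    by_contra hlt
    have heq := Subgroup.eq_of_le_of_card_ge (le_sup_left : Z ≤ Z ⊔ zpowers c)
      (by rw [hm, hZ3]; exact (Nat.pow_le_pow_right (by norm_num) (show m ≤ 1 by omega)).trans (le_of_eq (pow_one 3)))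
    exact hcZ (heq.ge (mem_sup_right (mem_zpowers c)))
  have hAV : ∀ g ∈ A, dl g v = 1 → (∀ l ∈ L, dl g l = 1) → g ∈ V := by
    intro g hg h1 h2
    refine homega g (fun w hw => ?_) (hA.2 g hg)
    obtain ⟨i, -, l, hl, rfl⟩ := hdecV w hw
    refine (dl_eq_one_iff.mp ?_).symm.eq
    rw [dl_mul hVn hVc (pow_mem hv i) (hLV hl), dl_pow hVn hVc hv, h1, h2 l hl, one_pow, one_mul]
  have hkillL : ∀ g, dl g c = 1 → ∀ l ∈ L, dl g l = 1 := by
    intro g h l hl
    obtain ⟨j, -, z', hz', rfl⟩ := hdecL l hl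
    rw [dl_mul hVn hVc (pow_mem (hLV hcL) j) (hZV hz'), dl_pow hVn hVc (hLV hcL), h, hdlZ g z' hz',
      one_pow, one_mul]
  have hA3 : ∀ g ∈ A, ∀ w ∈ V, w ∈ A → dl g w = 1 := fun g hg w _ hwA => dl_eq_one_iff.mpr (hAc g hg w hwA)
  -- all of `A` centralizes `L`
  have hAc1 : ∀ g ∈ A, dl g c = 1 := by
    by_contra hall
    push Not at hall
    obtain ⟨a₁, ha₁, ha₁c⟩ := hall
    let h1 : ↥A →* ↥Z := MonoidHom.mk' (fun g => ⟨dl g.1 c, hLZ g.1 c hcL⟩) fun g g' => Subtype.ext (by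
      show dl (g.1 * g'.1) c = dl g.1 c * dl g'.1 c
      rw [dl_comp hVn hVc (hLV hcL), hdlZ _ _ (hLZ g.1 c hcL), mul_one]
      exact hVc _ (dl_mem hVn (hLV hcL)) _ (dl_mem hVn (hLV hcL)))
    have hmemZ : ∀ g : ↥h1.ker, dl (g : ↥A).1 v ∈ Z := by
      intro g
      have hgc : dl (g : ↥A).1 c = 1 := congrArg Subtype.val g.2
      set l := dl (g : ↥A).1 v
      have hlL : l ∈ L := hVL _ v hv
      have hl1 : dl a₁ l = 1 := by
        rw [dl_swap hVn hVc (hAc _ (g : ↥A).2 a₁ ha₁) hv]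
        exact hkillL _ hgc _ (hVL _ v hv)
      obtain ⟨j, hj, z', hz', hlz⟩ := hdecL l hlL
      rw [hlz, dl_mul hVn hVc (pow_mem (hLV hcL) j) (hZV hz'), dl_pow hVn hVc (hLV hcL), hdlZ _ _ hz',
        mul_one] at hl1
      obtain rfl | hj0 := eq_or_ne j 0
      · rw [hlz, pow_zero, one_mul]; exact hz'
      · exact absurd (eq_one_of_pow (hV3 _ (dl_mem hVn (hLV hcL))) hj hj0 hl1) ha₁c
    let h2 : ↥h1.ker →* ↥Z := MonoidHom.mk' (fun g => ⟨dl (g : ↥A).1 v, hmemZ g⟩) fun g g' => Subtype.ext (by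
      show dl ((g : ↥A).1 * (g' : ↥A).1) v = dl (g : ↥A).1 v * dl (g' : ↥A).1 v
      rw [dl_comp hVn hVc hv, hdlZ _ _ (hmemZ g), mul_one]
      exact hVc _ (dl_mem hVn hv) _ (dl_mem hVn hv))
    have e1 := h1.ker.card_mul_index
    have e2 := h2.ker.card_mul_index
    rw [Subgroup.index_ker] at e1 e2
    have r1 : Nat.card ↥h1.range ≤ 3 := le_trans (Subgroup.card_le_card_group _) hZ3.le
    have r2 : Nat.card ↥h2.range ≤ 3 := le_trans (Subgroup.card_le_card_group _) hZ3.le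
    have k2 : Nat.card ↥h2.ker ≤ Nat.card ↥(A ⊓ V) := by
      refine Nat.card_le_card_of_injective (fun g => (⟨((g.1 : ↥A) : P), (g.1 : ↥A).2,
        hAV _ (g.1 : ↥A).2 (congrArg Subtype.val g.2) (hkillL _ (congrArg Subtype.val g.1.2))⟩ : ↥(A ⊓ V))) ?_
      intro u w h
      exact Subtype.ext (Subtype.ext (Subtype.ext (congrArg (fun t : ↥(A ⊓ V) => (t : P)) h)))
    have hkbig : 27 ≤ Nat.card ↥h1.ker := by
      have := Nat.mul_le_mul (le_refl (Nat.card ↥h1.ker)) r1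
      omega
    have h9 : 9 ≤ Nat.card ↥(A ⊓ V) := by
      have := Nat.mul_le_mul k2 r2
      omega
    obtain ⟨w, hw, hwZ⟩ : ∃ w ∈ A ⊓ V, w ∉ Z := by
      by_contra h
      push Not at h
      have := Subgroup.card_le_of_le (fun w hw => h w hw : A ⊓ V ≤ Z)
      omega
    obtain ⟨i, hi, l, hl, hwl⟩ := hdecV w hw.2
    have hi0 : i ≠ 0 := by
      rintro rfl
      obtain ⟨j, hj, z', hz', rfl⟩ := hdecL l hl
      rw [pow_zero, one_mul] at hwl
      have hw1 := hA3 a₁ ha₁ w hw.2 hw.1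
      rw [hwl, dl_mul hVn hVc (pow_mem (hLV hcL) j) (hZV hz'), dl_pow hVn hVc (hLV hcL), hdlZ _ _ hz',
        mul_one] at hw1
      obtain rfl | hj0 := eq_or_ne j 0
      · exact hwZ (by rw [hwl, pow_zero, one_mul]; exact hz')
      · exact ha₁c (eq_one_of_pow (hV3 _ (dl_mem hVn (hLV hcL))) hj hj0 hw1)
    have hsub : h1.ker.map A.subtype ≤ V := by
      rintro _ ⟨g, hg, rfl⟩
      have hgc : dl (g : P) c = 1 := congrArg Subtype.val (hg : h1 g = 1)
      have hw1 := hA3 g g.2 w hw.2 hw.1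
      rw [hwl, dl_mul hVn hVc (pow_mem hv i) (hLV hl), dl_pow hVn hVc hv, hkillL _ hgc l hl, mul_one] at hw1
      exact hAV _ g.2 (eq_one_of_pow (hV3 _ (dl_mem hVn hv)) hi hi0 hw1) (hkillL _ hgc)
    have heq := Subgroup.eq_of_le_of_card_ge hsub (by rw [h27, Subgroup.card_subtype]; exact hkbig)
    obtain ⟨g, hg, hgc⟩ := heq.ge (hLV hcL)
    refine ha₁c (dl_eq_one_iff.mpr ?_)
    rw [← hgc]
    exact hAc a₁ ha₁ g g.2
  -- the map `g ↦ [v, g]` from `A` onto `L`
  let h2 : ↥A →* ↥L := MonoidHom.mk' (fun g => ⟨dl g.1 v, hVL g.1 v hv⟩) fun g g' => Subtype.ext (by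
    show dl (g.1 * g'.1) v = dl g.1 v * dl g'.1 v
    rw [dl_comp hVn hVc hv, hkillL _ (hAc1 _ g'.2) _ (hVL g.1 v hv), mul_one]
    exact hVc _ (dl_mem hVn hv) _ (dl_mem hVn hv))
  have hsurj : h2.range = ⊤ := by
    have e2 := h2.ker.card_mul_index
    rw [Subgroup.index_ker] at e2
    have k2 : Nat.card ↥h2.ker ≤ 9 := by
      refine le_trans (Nat.card_le_card_of_injective (fun g => (⟨((g.1 : ↥A) : P), (g.1 : ↥A).2,
        hAV _ (g.1 : ↥A).2 (congrArg Subtype.val g.2) (hkillL _ (hAc1 _ (g.1 : ↥A).2))⟩ : ↥(A ⊓ V))) ?_) ?_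
      · intro u w h
        exact Subtype.ext (Subtype.ext (congrArg (fun t : ↥(A ⊓ V) => (t : P)) h))
      · refine le_trans (Subgroup.card_le_of_le (?_ : A ⊓ V ≤ L)) hL9.le
        intro w hw
        obtain ⟨i, hi, l, hl, hwl⟩ := hdecV w hw.2
        obtain rfl | hi0 := eq_or_ne i 0
        · rw [hwl, pow_zero, one_mul]; exact hl
        exfalso
        have hsub : A ≤ V := fun g hg => by
          have hw1 := hA3 g hg w hw.2 hw.1
          rw [hwl, dl_mul hVn hVc (pow_mem hv i) (hLV hl), dl_pow hVn hVc hv, hkillL _ (hAc1 g hg) l hl,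
            mul_one] at hw1
          exact hAV _ hg (eq_one_of_pow (hV3 _ (dl_mem hVn hv)) hi hi0 hw1) (hkillL _ (hAc1 g hg))
        have := Subgroup.card_le_of_le hsub
        omega
    refine Subgroup.eq_top_of_le_card _ ?_
    rw [hL9]
    have := Nat.mul_le_mul k2 (le_refl (Nat.card ↥h2.range))
    omega
  obtain ⟨⟨a, ha⟩, ha'⟩ := (hsurj ▸ mem_top _ : (⟨e, hZL heZ⟩ : ↥L) ∈ h2.range)
  obtain ⟨⟨b, hb⟩, hb'⟩ := (hsurj ▸ mem_top _ : (⟨c, hcL⟩ : ↥L) ∈ h2.range)
  have hav : dl a v = e := congrArg Subtype.val ha'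
  have hPair : C.Pair v c e a b :=
    ⟨hv, hcL, hcZ, heZ, hAc a ha b hb, hav, congrArg Subtype.val hb', hkillL a (hAc1 a ha),
      hkillL b (hAc1 b hb), hdecV⟩
  have ha3 : a ^ 3 = 1 := hA.2 a ha
  -- `a` and its `x`-conjugate act equally on `V`
  set k := x⁻¹ * a * x * a⁻¹ with hk
  have hact : ∀ w ∈ V, (x⁻¹ * a * x)⁻¹ * w * (x⁻¹ * a * x) = a⁻¹ * w * a := by
    intro w hw
    have hw' : x * w * x⁻¹ = w * dl x⁻¹ w := by rw [← conj_eq_mul_dl, inv_inv]
    have h1 : dl a (x * w * x⁻¹) = dl a w := by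
      rw [hw', dl_mul hVn hVc hw (dl_mem hVn hw), hPair.haL _ (hVL x⁻¹ w hw), mul_one]
    calc (x⁻¹ * a * x)⁻¹ * w * (x⁻¹ * a * x) = x⁻¹ * (a⁻¹ * (x * w * x⁻¹) * a) * x := by group
      _ = x⁻¹ * (x * w * x⁻¹) * (dl a w * x) := by rw [conj_eq_mul_dl a (x * w * x⁻¹), h1]; group
      _ = w * dl a w := by rw [← hZc _ (hPair.dl_mem_Z hw) x]; group
      _ = a⁻¹ * w * a := (conj_eq_mul_dl a w).symm
  have hkV : k ∈ V := by
    refine hPair.mem_of_pow_three ha3 k (fun w hw => ?_) ?_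
    · have h := hact w hw
      calc w * k = (x⁻¹ * a * x) * ((x⁻¹ * a * x)⁻¹ * w * (x⁻¹ * a * x)) * a⁻¹ := by rw [hk]; group
        _ = k * w := by rw [h, hk]; group
    · have e1 : k * a = x⁻¹ * a * x⁻¹⁻¹ := by rw [hk]; group
      rw [e1, conj_pow, ha3]
      group
  set k' := a⁻¹ * k * a with hk'
  have hk'V : k' ∈ V := by simpa [hk'] using hVn.conj_mem k hkV a⁻¹
  have hxa : x⁻¹ * a * x = a * k' := by rw [hk', hk]; group
  have hk2 : dl x (dl x k') = 1 := by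
    have m1 := dl_mem (g := x) hVn hk'V
    have m2 := dl_mem (g := x) hVn m1
    have ek : x⁻¹ * k' * x = k' * dl x k' := conj_eq_mul_dl x k'
    have edk : x⁻¹ * dl x k' * x = dl x k' * dl x (dl x k') := conj_eq_mul_dl x _
    have e2 : x⁻¹ * (a * k') * x = a * k' * (k' * dl x k') := by
      calc x⁻¹ * (a * k') * x = (x⁻¹ * a * x) * (x⁻¹ * k' * x) := by group
        _ = a * k' * (k' * dl x k') := by rw [hxa, ek]
    have e3 : x⁻¹ * (a * k' * (k' * dl x k')) * x =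
        a * k' * (k' * dl x k') * (k' * dl x k' * (dl x k' * dl x (dl x k'))) := by
      calc x⁻¹ * (a * k' * (k' * dl x k')) * x
          = (x⁻¹ * (a * k') * x) * ((x⁻¹ * k' * x) * (x⁻¹ * dl x k' * x)) := by group
        _ = _ := by rw [e2, ek, edk]
    have e4 : x⁻¹ * (a * k' * (k' * dl x k')) * x = a := by
      rw [← e2, ← hxa]
      calc x⁻¹ * (x⁻¹ * (x⁻¹ * a * x) * x) * x = (x * x * x)⁻¹ * a * (x * x * x) := by group
        _ = a := by rw [show x * x * x = 1 by rw [← pow_two, ← pow_succ]; exact hx3]; group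
    rw [e3, mul_assoc a, mul_assoc a, mul_eq_left] at e4
    have c1 : Commute k' (dl x k') := hVc _ hk'V _ m1
    have e5 : k' * (k' * dl x k') * (k' * dl x k' * (dl x k' * dl x (dl x k')))
        = k' ^ 3 * dl x k' ^ 3 * dl x (dl x k') := by
      have hk'' : ∀ t, dl x k' * (k' * t) = k' * (dl x k' * t) := fun t => by
        rw [← mul_assoc, ← c1.eq, mul_assoc]
      simp only [pow_succ, pow_zero, one_mul, mul_assoc, hk'']
    rw [e5, hV3 _ hk'V, hV3 _ m1, one_mul, one_mul] at e4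
    exact e4
  obtain ⟨u, hu, hku⟩ : ∃ u ∈ V, k' = dl x u := by
    obtain ⟨i, hi, l, hl, hkl⟩ := hdecV k' hk'V
    rw [hkl, dl_mul hVn hVc (pow_mem hv i) (hLV hl), dl_pow hVn hVc hv, ← hcdef,
      dl_mul hVn hVc (pow_mem (hLV hcL) i) (dl_mem hVn (hLV hl)), dl_pow hVn hVc (hLV hcL), ← hedef,
      hdlZ x _ (hLZ x l hl), mul_one] at hk2
    obtain rfl | hi0 := eq_or_ne i 0
    · obtain ⟨j, -, z', hz', rfl⟩ := hdecL l hl
      obtain ⟨m, rfl⟩ : ∃ m : ℕ, z' = e ^ m := by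
        have hZe : zpowers e = Z := Subgroup.eq_of_le_of_card_ge (zpowers_le.mpr heZ) (by
          rw [Nat.card_zpowers, orderOf_eq_prime (hV3 e (hZV heZ)) he1, hZ3])
        rw [← hZe] at hz'
        obtain ⟨m, hm⟩ := mem_powers_iff_mem_zpowers.mpr hz'
        exact ⟨m, hm.symm⟩
      refine ⟨v ^ j * c ^ m, mul_mem (pow_mem hv j) (pow_mem (hLV hcL) m), ?_⟩
      rw [dl_mul hVn hVc (pow_mem hv j) (pow_mem (hLV hcL) m), dl_pow hVn hVc hv, dl_pow hVn hVc (hLV hcL),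
        ← hcdef, ← hedef, hkl, pow_zero, one_mul]
    · exact absurd (eq_one_of_pow (hV3 e (hZV heZ)) hi hi0 hk2) he1
  have hu' : u⁻¹ ∈ V := inv_mem hu
  have hdu : dl x u⁻¹ = k'⁻¹ := by
    rw [eq_inv_iff_mul_eq_one, hku, ← dl_mul hVn hVc hu' hu, inv_mul_cancel, dl_one_right]
  set g := a * u⁻¹ with hg
  have hgx : x * g = g * x := by
    have h1 : x⁻¹ * g * x = g := by
      calc x⁻¹ * g * x = (x⁻¹ * a * x) * (x⁻¹ * u⁻¹ * x) := by rw [hg]; group
        _ = a * (k' * u⁻¹ * k'⁻¹) := by rw [hxa, conj_eq_mul_dl, hdu]; group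
        _ = g := by rw [hVc _ hk'V _ hu', hg]; group
    calc x * g = x * (x⁻¹ * g * x) := by rw [h1]
      _ = g * x := by group
  have hg3 : g ^ 3 = 1 := by
    have hz' : dl a u⁻¹ ∈ Z := hPair.dl_mem_Z hu'
    have h := conj_eq_mul_dl a u⁻¹
    have h' : u⁻¹ * a = dl a u⁻¹ * (a * u⁻¹) := by
      calc u⁻¹ * a = a * (a⁻¹ * u⁻¹ * a) := by group
        _ = (a * u⁻¹) * dl a u⁻¹ := by rw [h]; group
        _ = dl a u⁻¹ * (a * u⁻¹) := hZc _ hz' _
    rw [hg, cube_mul_of_commutes (hZc _ hz' a) (hZc _ hz' u⁻¹) h', hV3 _ (hZV hz'), ha3, hV3 _ hu']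
    group
  have hgX := hkey g hg3 hgx
  have hZn' : (zpowers z).Normal := ⟨fun n hn y => by
      obtain ⟨j, rfl⟩ := hn
      rw [((show Commute y z from hzc y).zpow_right j).eq]
      simpa using zpow_mem (mem_zpowers z) j⟩
  obtain ⟨_, ⟨i, rfl⟩, w, hw, hgiw⟩ := (Subgroup.mem_sup_of_normal_right (t := zpowers z)).mp hgX
  have hwV : w ∈ V := by
    refine (zpowers_le.mpr ?_ : zpowers z ≤ V) hw
    exact homega z (fun y _ => hzc y) hz3
  have hxi : Commute (x ^ i) c := by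
    have h1 : x ^ i = g * w⁻¹ := by
      rw [← hgiw]
      group
    rw [h1, hg]
    refine (Commute.mul_left (Commute.mul_left (dl_eq_one_iff.mp (hAc1 a ha)) ?_) ?_)
    · exact hVc _ hu' _ (hLV hcL)
    · exact hVc _ (inv_mem hwV) _ (hLV hcL)
  by_cases hi : (3 : ℤ) ∣ i
  · obtain ⟨j, rfl⟩ := hi
    have h3 : (x ^ (3 * j) : P) = 1 := by rw [zpow_mul, show x ^ (3 : ℤ) = 1 from mod_cast hx3, one_zpow]
    refine he1 ?_
    rw [← hav, dl_eq_one_iff]
    have haV : a ∈ V := by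
      have h4 : a = w * u := by
        calc a = g * u := by rw [hg]; group
          _ = w * u := by rw [← hgiw]; simp only [h3, one_mul]
      rw [h4]
      exact mul_mem hwV hu
    exact hVc a haV v hv
  · refine hcZ (hfix c (hLV hcL) (dl_eq_one_iff.mpr ?_))
    obtain ⟨s, t, hst⟩ := Int.isCoprime_iff_gcd_eq_one.mpr (show Int.gcd i 3 = 1 by
      rcases (Nat.dvd_prime Nat.prime_three).mp (Int.natCast_dvd_natCast.mp
        (Int.gcd_dvd_right i 3 : (Int.gcd i 3 : ℤ) ∣ ((3 : ℕ) : ℤ))) with h | h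
      · exact h
      · exact absurd (h ▸ Int.gcd_dvd_left i 3 : ((3 : ℕ) : ℤ) ∣ i) hi)
    have hxs : x = (x ^ i) ^ s := by
      calc x = x ^ (s * i + t * 3) := by rw [hst, zpow_one]
        _ = (x ^ i) ^ s := by
          rw [zpow_add, mul_comm s, zpow_mul, mul_comm t, zpow_mul, show x ^ (3 : ℤ) = 1 from mod_cast hx3,
            one_zpow, mul_one]
    rw [hxs]
    exact hxi.zpow_left s

end CfsgLib.PGroup39.RankFour
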