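import Cfsg.Agent.Lib.H82.Regular

/-!
Regular `p`-groups: the `p^n`-th powers of a subgroup form a subgroup, commutators of powers, and
Kemhadze's criterion.
-/

set_option autoImplicit false

namespace CfsgLib.RegularPowers

open Subgroup
open scoped commutatorElement

universe u

variable {G : Type u} [Group G] [Finite G] {p : ℕ} [hp : Fact p.Prime]

theorem pow_mem_powerClosure {n : ℕ} {H : Subgroup G} {x : G} (hx : x ∈ H) :
    x ^ p ^ n ∈ Cfsg.powerClosure p n H :=
  subset_closure ⟨x, hx, rfl⟩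

theorem powerClosure_mono {n : ℕ} {H K : Subgroup G} (h : H ≤ K) :
    Cfsg.powerClosure p n H ≤ Cfsg.powerClosure p n K :=
  closure_mono fun _ ⟨x, hx, e⟩ => ⟨x, h hx, e⟩

theorem commutator_lt (hG : IsPGroup p G) {H : Subgroup G} (hH : H ≠ ⊥) : ⁅H, H⁆ < H := by
  refine lt_of_le_of_ne H.commutator_le_self fun he => ?_
  haveI : Nontrivial H := (nontrivial_iff_ne_bot H).2 hH
  apply CfsgLib.PGroup.frattini_ne_top (P := H)
  apply top_le_iff.1
  refine le_trans ?_ (CfsgLib.PGroup.commutator_le_frattini (hG.to_subgroup H))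
  rw [← map_subtype_le_map_subtype, _root_.commutator_def, map_commutator, ← MonoidHom.range_eq_map,
    range_subtype]
  exact he.ge

/-- In a regular `p`-group a product of two `p^n`-th powers of `H` is a `p^n`-th power of `H`. -/
theorem exists_pow_eq_mul (hG : Cfsg.IsRegularPGroup p G) (n : ℕ) :
    ∀ (H : Subgroup G), ∀ a ∈ H, ∀ b ∈ H, ∃ x ∈ H, a ^ p ^ n * b ^ p ^ n = x ^ p ^ n := by
  suffices key : ∀ k, ∀ H : Subgroup G, Nat.card H = k →
      ∀ a ∈ H, ∀ b ∈ H, ∃ x ∈ H, a ^ p ^ n * b ^ p ^ n = x ^ p ^ n from fun H => key _ H rfl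
  intro k
  induction k using Nat.strong_induction_on with
  | _ k ih =>
  intro H hk a ha b hb
  subst hk
  have small : ∀ K : Subgroup G, K < H →
      ∀ y ∈ Cfsg.powerClosure p n K, ∃ x ∈ K, y = x ^ p ^ n := by
    intro K hK y hy
    have hlt : Nat.card K < Nat.card H :=
      lt_of_not_ge fun h => hK.ne (eq_of_le_of_card_ge hK.le h)
    induction hy using closure_induction with
    | mem x hx => exact hx
    | one => exact ⟨1, one_mem _, (one_pow _).symm⟩
    | mul x z _ _ hx hz =>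
      obtain ⟨x', hx', rfl⟩ := hx
      obtain ⟨z', hz', rfl⟩ := hz
      exact ih _ hlt K rfl x' hx' z' hz'
    | inv x _ hx =>
      obtain ⟨x', hx', rfl⟩ := hx
      exact ⟨x'⁻¹, inv_mem hx', (inv_pow _ _).symm⟩
  by_cases hab : Commute a b
  · exact ⟨a * b, mul_mem ha hb, (hab.mul_pow _).symm⟩
  set X := closure ({a, b} : Set G) with hX
  have hXH : X ≤ H := (closure_le H).2 (by rintro x (rfl | rfl) <;> assumption)
  rcases eq_or_lt_of_le hXH with hX' | hX'
  swap
  · obtain ⟨x, hx, e⟩ := small X hX' _ (mul_mem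
      (pow_mem_powerClosure (subset_closure (Or.inl rfl)))
      (pow_mem_powerClosure (subset_closure (Or.inr rfl))))
    exact ⟨x, hXH hx, e⟩
  obtain ⟨c, hc, e⟩ := hG.2 a b n
  rw [← hX, hX'] at hc
  have hH1 : H ≠ ⊥ := fun h => hab (by
    rw [h, mem_bot] at ha; rw [ha]; exact Commute.one_left b)
  have hD : ⁅H, H⁆ < H := commutator_lt hG.1 hH1
  set K := zpowers (a * b) ⊔ ⁅H, H⁆ with hK
  have hKH : K < H := by
    refine lt_of_le_of_ne (sup_le (zpowers_le.2 (mul_mem ha hb)) hD.le) fun he => hab ?_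
    let g : H := ⟨a * b, mul_mem ha hb⟩
    have h1 : zpowers g ⊔ frattini H = ⊤ := by
      rw [eq_top_iff]
      calc (⊤ : Subgroup H) ≤ zpowers g ⊔ ⁅(⊤ : Subgroup H), ⊤⁆ := by
            rw [← map_subtype_le_map_subtype, Subgroup.map_sup, MonoidHom.map_zpowers, map_commutator,
              ← MonoidHom.range_eq_map, range_subtype]
            exact he.ge
        _ ≤ _ := sup_le_sup le_rfl (CfsgLib.PGroup.commutator_le_frattini (hG.1.to_subgroup H))
    have h2 := frattini_nongenerating h1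
    obtain ⟨i, hi⟩ : (⟨a, ha⟩ : H) ∈ zpowers g := h2 ▸ mem_top _
    obtain ⟨j, hj⟩ : (⟨b, hb⟩ : H) ∈ zpowers g := h2 ▸ mem_top _
    have hi' : (a * b) ^ i = a := congrArg Subtype.val hi
    have hj' : (a * b) ^ j = b := congrArg Subtype.val hj
    have := Commute.zpow_zpow (Commute.refl (a * b)) i j
    rwa [hi', hj'] at this
  have hmem : a ^ p ^ n * b ^ p ^ n ∈ Cfsg.powerClosure p n K := by
    have e' : a ^ p ^ n * b ^ p ^ n = (a * b) ^ p ^ n * c⁻¹ := by rw [e, mul_inv_cancel_right]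
    rw [e']
    exact mul_mem (pow_mem_powerClosure (mem_sup_left (mem_zpowers _)))
      (inv_mem (powerClosure_mono le_sup_right hc))
  obtain ⟨x, hx, ex⟩ := small K hKH _ hmem
  exact ⟨x, hKH.le hx, ex⟩

theorem mem_powerClosure_iff (hG : Cfsg.IsRegularPGroup p G) {n : ℕ} {H : Subgroup G} {y : G} :
    y ∈ Cfsg.powerClosure p n H ↔ ∃ x ∈ H, y = x ^ p ^ n := by
  refine ⟨fun hy => ?_, fun ⟨x, hx, e⟩ => e ▸ pow_mem_powerClosure hx⟩
  induction hy using closure_induction with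
  | mem x hx => exact hx
  | one => exact ⟨1, one_mem _, (one_pow _).symm⟩
  | mul x z _ _ hx hz =>
    obtain ⟨x', hx', rfl⟩ := hx
    obtain ⟨z', hz', rfl⟩ := hz
    exact exists_pow_eq_mul hG n H x' hx' z' hz'
  | inv x _ hx =>
    obtain ⟨x', hx', rfl⟩ := hx
    exact ⟨x'⁻¹, inv_mem hx', (inv_pow _ _).symm⟩

omit [Finite G] hp in
/-- With the regularity identity at level `n`, commutators with `p^n`-th powers are products of
`p^n`-th powers of commutators. -/
theorem commutator_pow_mem {n : ℕ} (H : Subgroup G)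
    (hn : ∀ a ∈ H, ∀ b ∈ H, ∃ c ∈ Cfsg.powerClosure p n ⁅H, H⁆,
      (a * b) ^ p ^ n = a ^ p ^ n * b ^ p ^ n * c)
    {a y : G} (ha : a ∈ H) (hy : y ∈ H) : ⁅a ^ p ^ n, y⁆ ∈ Cfsg.powerClosure p n ⁅H, H⁆ := by
  obtain ⟨c, hc, e⟩ := hn a ha (y * a⁻¹ * y⁻¹) (mul_mem (mul_mem hy (inv_mem ha)) (inv_mem hy))
  have e1 : a * (y * a⁻¹ * y⁻¹) = ⁅a, y⁆ := by rw [commutatorElement_def]; group
  have e2 : (y * a⁻¹ * y⁻¹) ^ p ^ n = y * (a ^ p ^ n)⁻¹ * y⁻¹ := by rw [conj_pow, inv_pow]
  have e3 : ⁅a ^ p ^ n, y⁆ = ⁅a, y⁆ ^ p ^ n * c⁻¹ := by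
    rw [← e1, e, e2, commutatorElement_def, mul_inv_cancel_right]
    simp [mul_assoc]
  rw [e3]
  exact mul_mem (subset_closure ⟨_, commutator_mem_commutator ha hy, rfl⟩) (inv_mem hc)

theorem commutator_powerClosure_le (hG : Cfsg.IsRegularPGroup p G) (n : ℕ) (H : Subgroup G) :
    ⁅Cfsg.powerClosure p n H, Cfsg.powerClosure p n H⁆ ≤ Cfsg.powerClosure p n ⁅H, H⁆ := by
  rw [commutator_le]
  intro x hx y hy
  obtain ⟨a, ha, rfl⟩ := (mem_powerClosure_iff hG).1 hx
  refine commutator_pow_mem H (fun a ha b hb => ?_) ha ?_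
  · obtain ⟨c, hc, e⟩ := hG.2 a b n
    have hle : closure ({a, b} : Set G) ≤ H :=
      (closure_le H).2 (by rintro z (rfl | rfl) <;> assumption)
    exact ⟨c, powerClosure_mono (commutator_mono hle hle) hc, e⟩
  · obtain ⟨b, hb, rfl⟩ := (mem_powerClosure_iff hG).1 hy
    exact pow_mem hb _

/-- Kemhadze's condition. -/
def FirstPower (p : ℕ) (G : Type*) [Group G] : Prop :=
  ∀ a b : G, ∃ c ∈ ⁅closure ({a, b} : Set G), closure ({a, b} : Set G)⁆,
    (a * b) ^ p = a ^ p * b ^ p * c ^ p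

omit [Finite G] hp in
theorem closure_pair_map (H : Subgroup G) (a b : H) :
    closure ({(a : G), (b : G)} : Set G) = (closure ({a, b} : Set H)).map H.subtype := by
  rw [MonoidHom.map_closure, Set.image_pair]; rfl

omit [Finite G] hp in
theorem FirstPower.subgroup (h : FirstPower p G) (H : Subgroup G) : FirstPower p H := by
  intro a b
  obtain ⟨c, hc, e⟩ := h a b
  rw [closure_pair_map, ← map_commutator] at hc
  obtain ⟨c', hc', rfl⟩ := hc
  exact ⟨c', hc', Subtype.ext (by simpa using e)⟩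

theorem isRegular_of_firstPower {G : Type u} [Group G] [Finite G] (hG : IsPGroup p G)
    (h : FirstPower p G) : Cfsg.IsRegularPGroup p G := by
  suffices key : ∀ k, ∀ (G : Type u) [Group G] [Finite G], Nat.card G = k → IsPGroup p G →
      FirstPower p G → Cfsg.IsRegularPGroup p G from key _ G rfl hG h
  clear h hG
  intro k
  induction k using Nat.strong_induction_on with
  | _ k ih =>
  intro G _ _ hk hG h
  subst hk
  have sub : ∀ H : Subgroup G, H ≠ ⊤ → Cfsg.IsRegularPGroup p H := fun H hH =>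
    ih _ (lt_of_le_of_ne (card_le_card_group H) fun e => hH (eq_top_of_card_eq H e)) H rfl
      (hG.to_subgroup H) (h.subgroup H)
  rcases subsingleton_or_nontrivial G with hs | hs
  · exact ⟨hG, fun a b n => ⟨1, one_mem _, Subsingleton.elim _ _⟩⟩
  have hDtop : ⁅(⊤ : Subgroup G), (⊤ : Subgroup G)⁆ ≠ ⊤ := fun e =>
    (commutator_lt hG (top_ne_bot (α := Subgroup G))).ne e
  refine ⟨hG, fun a b n => ?_⟩
  induction n generalizing a b with
  | zero =>
    exact ⟨1, one_mem _, by simp⟩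
  | succ n ihn =>
    set H := closure ({a, b} : Set G) with hH
    by_cases hHtop : H = ⊤
    swap
    · obtain ⟨c, hc, e⟩ := (sub H hHtop).2 ⟨a, subset_closure (Or.inl rfl)⟩
        ⟨b, subset_closure (Or.inr rfl)⟩ (n + 1)
      refine ⟨c, ?_, by simpa using congrArg Subtype.val e⟩
      have h1 := mem_map_of_mem H.subtype hc
      rw [CfsgLib.Regular82.map_powerClosure, map_commutator, ← closure_pair_map] at h1
      exact h1
    set D := ⁅(⊤ : Subgroup G), (⊤ : Subgroup G)⁆ with hD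
    have hDreg := sub D hDtop
    have hpowD : ∀ y ∈ Cfsg.powerClosure p n D, ∃ x ∈ D, y = x ^ p ^ n := by
      intro y hy
      have hy' : y ∈ (Cfsg.powerClosure p n (⊤ : Subgroup D)).map D.subtype := by
        rwa [CfsgLib.Regular82.map_powerClosure, ← MonoidHom.range_eq_map, range_subtype]
      obtain ⟨y', hy', rfl⟩ := hy'
      obtain ⟨x, -, rfl⟩ := (mem_powerClosure_iff hDreg).1 hy'
      exact ⟨x, x.2, rfl⟩
    haveI : (Cfsg.powerClosure p n D).Normal := ⟨fun x hx g => by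
      have h1 := mem_map_of_mem (MulAut.conj g).toMonoidHom hx
      rw [CfsgLib.Regular82.map_powerClosure] at h1
      refine powerClosure_mono ?_ h1
      rintro _ ⟨y, hy, rfl⟩
      exact (inferInstance : D.Normal).conj_mem y hy g⟩
    obtain ⟨c, hc, e⟩ := ihn a b
    rw [← hH, hHtop, ← hD] at hc
    have hxy : ⁅a ^ p ^ n, b ^ p ^ n⁆ ∈ Cfsg.powerClosure p n D :=
      commutator_pow_mem ⊤ (fun u _ v _ => by
        obtain ⟨c', hc', e'⟩ := ihn u v
        exact ⟨c', powerClosure_mono (commutator_mono le_top le_top) hc', e'⟩)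
        (mem_top a) (mem_top _)
    obtain ⟨c₁, hc₁, e₁⟩ := h (a ^ p ^ n * b ^ p ^ n) c
    obtain ⟨c₂, hc₂, e₂⟩ := h (a ^ p ^ n) (b ^ p ^ n)
    have hc₁' : c₁ ∈ Cfsg.powerClosure p n D := by
      refine CfsgLib.Regular82.commutator_le_of_pair ?_ hc₁
      rw [commutatorElement_def, mul_assoc, mul_assoc, ← mul_assoc c]
      have : (a ^ p ^ n * b ^ p ^ n) * c * (a ^ p ^ n * b ^ p ^ n)⁻¹ ∈ Cfsg.powerClosure p n D :=
        Subgroup.Normal.conj_mem inferInstance _ hc _
      simpa [mul_assoc] using mul_mem this (inv_mem hc)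
    have hc₂' : c₂ ∈ Cfsg.powerClosure p n D := CfsgLib.Regular82.commutator_le_of_pair hxy hc₂
    have up : ∀ z ∈ Cfsg.powerClosure p n D, z ^ p ∈ Cfsg.powerClosure p (n + 1) D := by
      intro z hz
      obtain ⟨x, hx, rfl⟩ := hpowD z hz
      rw [← pow_mul, ← pow_succ]
      exact pow_mem_powerClosure hx
    refine ⟨c₂ ^ p * c ^ p * c₁ ^ p, by
      rw [hHtop]; exact mul_mem (mul_mem (up _ hc₂') (up _ hc)) (up _ hc₁'), ?_⟩
    rw [pow_succ, pow_mul, e, e₁, e₂, pow_mul, pow_mul]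
    simp [mul_assoc]

theorem firstPower_of_isRegular (hG : Cfsg.IsRegularPGroup p G) : FirstPower p G := by
  intro a b
  obtain ⟨c, hc, e⟩ := hG.2 a b 1
  obtain ⟨x, hx, rfl⟩ := (mem_powerClosure_iff hG).1 hc
  exact ⟨x, hx, by simpa using e⟩

end CfsgLib.RegularPowers
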